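import Cfsg.Agent.GWApps.Tools
import Cfsg.Agent.KGroup.DihedralAut
import Cfsg.Agent.Solvable.Fitting
import Cfsg.Agent.Invol.AutomizerSix
import Cfsg.Agent.Invol.Dihedral
import Cfsg.Agent.Classical.SmallPSL
import Cfsg.Agent.AutAlt.Main

/-!
# Groups with dihedral Sylow 2-subgroups and trivial odd core
-/

set_option autoImplicit false
set_option linter.unusedSectionVars false
set_option linter.style.haveILetI false

namespace CfsgLib.GWApps

open Subgroup

universe u v

variable {Q : Type u} [Group Q] [Finite Q]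

/-- Two involutions of a finite cyclic subgroup are equal. -/
theorem eq_of_invol {H : Type v} [Group H] {C : Subgroup H} [IsCyclic C] [Finite C] {a b : H}
    (ha : a ∈ C) (hb : b ∈ C) (ha2 : a * a = 1) (hb2 : b * b = 1) (ha1 : a ≠ 1) (hb1 : b ≠ 1) :
    a = b := by
  classical
  by_contra hne
  haveI : Fintype C := Fintype.ofFinite C
  have h := IsCyclic.card_pow_eq_one_le (α := C) (n := 2) two_pos
  have h3 : ({1, ⟨a, ha⟩, ⟨b, hb⟩} : Finset C) ⊆ Finset.univ.filter (fun x => x ^ 2 = 1) := by
    intro x hx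
    simp only [Finset.mem_insert, Finset.mem_singleton] at hx
    rw [Finset.mem_filter]
    refine ⟨Finset.mem_univ _, ?_⟩
    rcases hx with rfl | rfl | rfl
    · exact one_pow _
    · exact Subtype.ext (by simp [sq, ha2])
    · exact Subtype.ext (by simp [sq, hb2])
  have hcard : ({1, ⟨a, ha⟩, ⟨b, hb⟩} : Finset C).card = 3 :=
    Finset.card_eq_three.2 ⟨1, ⟨a, ha⟩, ⟨b, hb⟩, fun e => ha1 (congrArg Subtype.val e).symm,
      fun e => hb1 (congrArg Subtype.val e).symm, fun e => hne (congrArg Subtype.val e), rfl⟩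
  have := Finset.card_le_card h3
  omega

/-- An image in a dihedral group of a group of exponent two has at most four elements. -/
theorem exp_two_le_four {U : Type v} [Group U] [Finite U] {n : ℕ} (φ : U →* DihedralGroup n)
    (hφ : Function.Injective φ) (hexp : ∀ u : U, u * u = 1) : Nat.card U ≤ 4 := by
  classical
  set R := ((DihedralAut.parity n).comp φ).ker with hR
  haveI : IsCyclic R := by
    let ψ : R →* zpowers (DihedralGroup.r (1 : ZMod n)) :=
      (φ.comp R.subtype).codRestrict _ fun x => DihedralAut.parity_ker_le n x.2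
    exact isCyclic_of_injective ψ fun a b h => Subtype.ext (hφ (congrArg Subtype.val h))
  haveI : Fintype R := Fintype.ofFinite _
  have h2 : Nat.card R ≤ 2 := by
    rw [Nat.card_eq_fintype_card]
    refine le_trans (le_of_eq ?_) (IsCyclic.card_pow_eq_one_le (α := R) (n := 2) two_pos)
    rw [← Finset.card_univ]
    congr 1
    symm
    rw [Finset.filter_eq_self]
    intro r _
    exact Subtype.ext (by rw [Subgroup.coe_pow, sq]; exact hexp r)
  have h3 : R.index ≤ 2 := by
    rw [hR, index_ker]
    exact (card_le_card_group _).trans (by simp)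
  rw [← R.card_mul_index]
  exact Nat.mul_le_mul h2 h3

/-- A non-cyclic group embedded in a dihedral group is dihedral. -/
theorem subgroup_dihedral {U : Type v} [Group U] [Finite U] {n : ℕ} (φ : U →* DihedralGroup n)
    (hφ : Function.Injective φ) (hc : ¬ IsCyclic U) :
    ∃ m : ℕ, 2 ≤ m ∧ Nonempty (U ≃* DihedralGroup m) := by
  classical
  set R := ((DihedralAut.parity n).comp φ).ker with hR
  haveI : IsCyclic R := by
    let ψ : R →* zpowers (DihedralGroup.r (1 : ZMod n)) :=
      (φ.comp R.subtype).codRestrict _ fun x => DihedralAut.parity_ker_le n x.2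
    exact isCyclic_of_injective ψ fun a b h => Subtype.ext (hφ (congrArg Subtype.val h))
  obtain ⟨⟨c, hcR⟩, hgen⟩ := IsCyclic.exists_generator (α := R)
  have hgen' : ∀ r ∈ R, ∃ k : ℤ, c ^ k = r := fun r hr => by
    obtain ⟨k, hk⟩ := mem_zpowers_iff.1 (hgen ⟨r, hr⟩)
    exact ⟨k, by simpa using congrArg Subtype.val hk⟩
  have hrefl : ∀ x : U, x ∉ R → x * x = 1 := fun x hx => hφ (by
    rw [map_mul, map_one]
    exact DihedralAut.sq_eq_one_of_parity fun h => hx h)
  obtain ⟨s, hs⟩ : ∃ s, s ∉ R := by
    by_contra hno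
    push Not at hno
    exact hc ⟨c, fun x => mem_zpowers_iff.2 (hgen' x (hno x))⟩
  have hs2 : orderOf s = 2 := Invol.orderOf_eq_two (hrefl s hs) fun h => hs (h ▸ one_mem R)
  have hc1 : c ≠ 1 := by
    intro h
    refine hc ⟨s, fun x => mem_zpowers_iff.2 ?_⟩
    by_cases hx : x ∈ R
    · obtain ⟨k, hk⟩ := hgen' x hx
      exact ⟨0, by rw [← hk, h, one_zpow, zpow_zero]⟩
    · have hm : s⁻¹ * x ∈ R := by
        have h2 := DihedralAut.mult_two_eq
        rw [hR, MonoidHom.mem_ker, map_mul, map_inv, h2 _ hs, h2 _ hx, inv_mul_cancel]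
      obtain ⟨k, hk⟩ := hgen' _ hm
      refine ⟨1, ?_⟩
      rw [h, one_zpow] at hk
      rw [zpow_one, eq_comm, ← inv_mul_eq_one.1 hk.symm]
  have hsc : s * c ∉ R := fun h => hs (by simpa using mul_mem h (inv_mem hcR))
  have hy2 : orderOf (s * c) = 2 := Invol.orderOf_eq_two (hrefl _ hsc) fun h => hsc (h ▸ one_mem R)
  have hne : s ≠ s * c := fun h => hc1 (by simpa using h.symm)
  have hxy : s * (s * c) = c := by rw [← mul_assoc, hrefl s hs, one_mul]
  have htop : closure ({s, s * c} : Set U) = ⊤ := by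
    refine eq_top_iff.2 fun x _ => (Invol.mem_closure_pair_iff hs2 hy2).2 ?_
    rw [hxy]
    by_cases hx : x ∈ R
    · obtain ⟨k, hk⟩ := hgen' x hx
      exact Or.inl ⟨k, hk.symm⟩
    · have hm : s⁻¹ * x ∈ R := by
        have h2 := DihedralAut.mult_two_eq
        rw [hR, MonoidHom.mem_ker, map_mul, map_inv, h2 _ hs, h2 _ hx, inv_mul_cancel]
      obtain ⟨k, hk⟩ := hgen' _ hm
      exact Or.inr ⟨k, by rw [hk, mul_inv_cancel_left]⟩
  obtain ⟨e⟩ := Invol.nonempty_dihedral_equiv hs2 hy2 hne
  rw [hxy] at e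
  refine ⟨orderOf c, ?_, ⟨(topEquiv.symm.trans (MulEquiv.subgroupCongr htop.symm)).trans e⟩⟩
  have := orderOf_pos c
  have : orderOf c ≠ 1 := fun h => hc1 (orderOf_eq_one_iff.1 h)
  omega

/-- Every 2-subgroup embeds in a Sylow 2-subgroup. -/
theorem embeds_sylow (T : Sylow 2 Q) {U : Subgroup Q} (hU : IsPGroup 2 U) :
    ∃ f : U →* (T : Subgroup Q), Function.Injective f := by
  haveI : Fact (Nat.Prime 2) := ⟨Nat.prime_two⟩
  obtain ⟨P, hP⟩ := hU.exists_le_sylow
  exact ⟨((P.equiv T).toMonoidHom).comp (inclusion hP),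
    (P.equiv T).injective.comp (inclusion_injective hP)⟩

/-- The solvable residual. -/
theorem exists_perfect_residual (Q : Type u) [Group Q] [Finite Q] :
    ∃ R : Subgroup Q, ∃ _ : R.Normal, Group.IsPerfect R ∧ Group.IsSolvable (Q ⧸ R) := by
  obtain ⟨R, ⟨k, rfl⟩, hmin⟩ := Set.Finite.exists_minimal
    (Set.toFinite (Set.range (derivedSeries Q))) ⟨_, 0, rfl⟩
  have heq : derivedSeries Q (k + 1) = derivedSeries Q k :=
    le_antisymm (derivedSeries_antitone Q k.le_succ) (hmin ⟨k + 1, rfl⟩ (derivedSeries_antitone Q k.le_succ))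
  refine ⟨derivedSeries Q k, inferInstance, Subgroup.isPerfect_iff.2 heq, ⟨k, ?_⟩⟩
  rw [← map_derivedSeries_eq (QuotientGroup.mk'_surjective (derivedSeries Q k)) k, Subgroup.map_eq_bot_iff,
    QuotientGroup.ker_mk']

/-- Shape of an almost simple group over `M ≃* P`. -/
theorem between_aut {P : Type v} [Group P] (M : Subgroup Q) [M.Normal]
    (hc : centralizer (M : Set Q) = ⊥) (ι : M ≃* P) :
    ∃ K : Subgroup (MulAut P), (MulAut.conj : P →* MulAut P).range ≤ K ∧ Nonempty (Q ≃* K) := by
  let f : Q →* MulAut P := (MulAut.congr ι).toMonoidHom.comp MulAut.conjNormal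
  have hf : Function.Injective f := by
    refine (MulAut.congr ι).injective.comp ((injective_iff_map_eq_one _).2 fun q hq => ?_)
    have : q ∈ centralizer (M : Set Q) := mem_centralizer_iff.2 fun m hm => by
      have h := congrArg Subtype.val (DFunLike.congr_fun hq ⟨m, hm⟩)
      rw [MulAut.conjNormal_apply] at h
      exact (mul_inv_eq_iff_eq_mul.1 (by simpa using h)).symm
    rwa [hc, mem_bot] at this
  refine ⟨f.range, ?_, ⟨MonoidHom.ofInjective hf⟩⟩
  rintro _ ⟨p, rfl⟩
  refine ⟨(ι.symm p : Q), MulEquiv.ext fun x => ?_⟩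
  show ι (MulAut.conjNormal (ι.symm p : Q) (ι.symm x)) = p * x * p⁻¹
  have : MulAut.conjNormal (ι.symm p : Q) (ι.symm x) = ι.symm p * ι.symm x * (ι.symm p)⁻¹ :=
    Subtype.ext (MulAut.conjNormal_apply _ _)
  rw [this, map_mul, map_mul, map_inv, ι.apply_symm_apply, ι.apply_symm_apply]

lemma perm_four_cent_alt : ∀ g : Equiv.Perm (Fin 4),
    (∀ a : Equiv.Perm (Fin 4), Equiv.Perm.sign a = 1 → a * g = g * a) → g = 1 := by
  decide +kernel

/-- The solvable case. -/
theorem dihedral_solvable [Group.IsSolvable Q] (hO : Cfsg.oddCore Q = ⊥) (T : Sylow 2 Q) {n : ℕ}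
    (e : (T : Subgroup Q) ≃* DihedralGroup n) :
    IsPGroup 2 Q ∨ ∃ (F : Type) (_ : Field F) (_ : Fintype F), Odd (Fintype.card F) ∧
      ∃ K : Subgroup (MulAut (Matrix.ProjectiveSpecialLinearGroup (Fin 2) F)),
        (MulAut.conj : Matrix.ProjectiveSpecialLinearGroup (Fin 2) F →* _).range ≤ K ∧ Nonempty (Q ≃* K) := by
  classical
  haveI : Fact (Nat.Prime 2) := ⟨Nat.prime_two⟩
  haveI h3' : Fact (Nat.Prime 3) := ⟨Nat.prime_three⟩
  set R := Cfsg.pCore 2 Q with hR
  haveI hRn : R.Normal := (Solvable.pCore_spec (G := Q) 2).1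
  have hRp : IsPGroup 2 R := Solvable.isPGroup_pCore 2
  have hC : centralizer (R : Set Q) ≤ R := Fitting.centralizer_pCore_le hO
  obtain ⟨φ₀, hφ₀⟩ := embeds_sylow T hRp
  let φ := e.toMonoidHom.comp φ₀
  have hφ : Function.Injective φ := e.injective.comp hφ₀
  -- elements of odd order act without fixed points
  have hfpf : ∀ y : Q, Odd (orderOf y) → y ≠ 1 → ∀ t ∈ R, y * t * y⁻¹ = t → t = 1 := by
    intro y hy hy1 t ht hyt
    by_contra ht1
    have hyR := hC (DihedralAut.mem_centralizer_of_embedding hRp φ hφ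
      (by rw [normalizer_eq_top]; exact mem_top y) hy ht ht1 hyt)
    obtain ⟨k, hk⟩ := hRp ⟨y, hyR⟩
    have hk' : y ^ 2 ^ k = 1 := congrArg Subtype.val hk
    exact hy1 (orderOf_eq_one_iff.1 (Nat.eq_one_of_dvd_coprimes
      ((Nat.coprime_two_right.2 hy).pow_right k) dvd_rfl (orderOf_dvd_of_pow_eq_one hk')))
  by_cases h2g : IsPGroup 2 Q
  · exact Or.inl h2g
  right
  -- an element of odd prime order
  obtain ⟨y, hy, hy1⟩ : ∃ y : Q, Odd (orderOf y) ∧ y ≠ 1 := by
    by_contra hno
    push Not at hno
    refine h2g (IsPGroup.iff_orderOf.2 fun x => ?_)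
    obtain ⟨k, m, hm, he⟩ := Nat.exists_eq_two_pow_mul_odd (orderOf_pos x).ne'
    have hm' : orderOf (x ^ 2 ^ k) = m := by
      rw [orderOf_pow' x (pow_ne_zero _ two_ne_zero), he, Nat.gcd_eq_right (dvd_mul_right _ _),
        Nat.mul_div_cancel_left _ (by positivity)]
    have := hno (x ^ 2 ^ k) (hm' ▸ hm)
    rw [this, orderOf_one] at hm'
    exact ⟨k, by rw [he, ← hm', mul_one]⟩
  -- the central involutions of `R` are three, so `R` is a four-group
  have hRne : R ≠ ⊥ := fun h => by
    have := hC (x := y) (mem_centralizer_iff.2 fun r hr => by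
      rw [h] at hr; rw [show r = 1 from mem_bot.1 hr]; simp)
    rw [h, mem_bot] at this
    exact hy1 this
  obtain ⟨t, ht, ht2⟩ : ∃ t : R, t ∈ center R ∧ orderOf t = 2 := by
    haveI : Nontrivial R := (nontrivial_iff_ne_bot R).2 hRne
    haveI := hRp.center_nontrivial
    obtain ⟨⟨t, ht⟩, h⟩ := exists_prime_orderOf_dvd_card' (G := center R) 2
      (((hRp.to_subgroup _).card_eq_or_dvd).resolve_left (Finite.one_lt_card).ne')
    exact ⟨t, ht, by rwa [Subgroup.orderOf_mk] at h⟩
  have htR2 : (t : Q) * t = 1 := Invol.mul_self_eq_one (by rw [Subgroup.orderOf_coe, ht2])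
  have ht1 : t ≠ 1 := fun h => by rw [h, orderOf_one] at ht2; omega
  have hexp : ∀ r : R, r * r = 1 := by
    intro r
    by_contra hr
    -- `t` and its conjugate are distinct commuting involutions, so one is a reflection
    set t' : R := ⟨y * t * y⁻¹, hRn.conj_mem _ t.2 y⟩
    have ht' : t' ∈ center R := mem_center_iff.2 fun x => Subtype.ext (by
      have h := congrArg Subtype.val (mem_center_iff.1 ht ⟨y⁻¹ * x * y, hRn.conj_mem' _ x.2 y⟩)
      simp only [Subgroup.coe_mul] at h
      show (x : Q) * (y * t * y⁻¹) = y * t * y⁻¹ * x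
      calc (x : Q) * (y * t * y⁻¹) = y * (y⁻¹ * x * y * t) * y⁻¹ := by group
        _ = y * (t * (y⁻¹ * x * y)) * y⁻¹ := by rw [h]
        _ = _ := by group)
    have hne : t' ≠ t := fun h => ht1 (Subtype.ext (hfpf y hy hy1 t t.2 (congrArg Subtype.val h)))
    have ht'2 : t' * t' = 1 := Subtype.ext (by
      show y * t * y⁻¹ * (y * t * y⁻¹) = 1
      calc y * (t : Q) * y⁻¹ * (y * t * y⁻¹) = y * (t * t) * y⁻¹ := by group
        _ = 1 := by rw [htR2, mul_one, mul_inv_cancel])
    have key : ∀ a : R, a ∈ center R → a * a = 1 → DihedralAut.parity n (φ a) ≠ 1 → r * r = 1 := by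
      intro a ha haa hpar
      refine hφ ?_
      rw [map_mul, map_one]
      by_cases hp : DihedralAut.parity n (φ r) = 1
      · have h1 : DihedralAut.parity n (φ (a * r)) ≠ 1 := by rwa [map_mul, map_mul, hp, mul_one]
        have h2 := DihedralAut.sq_eq_one_of_parity h1
        rw [← map_mul, ← map_one φ] at h2
        have h3 : a * r * (a * r) = 1 := hφ h2
        rw [← map_mul, ← map_one φ]
        congr 1
        calc r * r = a * a * (r * r) := by rw [haa, one_mul]
          _ = a * (a * r) * r := by simp [mul_assoc]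
          _ = a * (r * a) * r := by rw [mem_center_iff.1 ha r]
          _ = 1 := by rw [← h3]; simp [mul_assoc]
      · exact DihedralAut.sq_eq_one_of_parity hp
    by_cases hpt : DihedralAut.parity n (φ t) = 1
    · by_cases hpt' : DihedralAut.parity n (φ t') = 1
      · refine hne (hφ ?_)
        set C := zpowers (DihedralGroup.r (1 : ZMod n))
        have h1 : φ t ∈ C := DihedralAut.parity_ker_le n hpt
        have h2 : φ t' ∈ C := DihedralAut.parity_ker_le n hpt'
        by_contra h
        haveI : Finite C := by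
          rcases eq_or_ne n 0 with rfl | hn0
          · exact absurd (Nat.card_pos (α := (T : Subgroup Q))).ne' (by
              rw [Nat.card_congr e.toEquiv, DihedralGroup.nat_card]; simp)
          · haveI := NeZero.mk hn0; infer_instance
        have ho1 : orderOf (φ t) = 2 := by rw [orderOf_injective φ hφ, ht2]
        have ho2 : orderOf (φ t') = 2 := by
          rw [orderOf_injective φ hφ]
          refine Invol.orderOf_eq_two ht'2 fun e0 => ht1 (Subtype.ext ?_)
          have h5 : y * (t : Q) * y⁻¹ = 1 := congrArg Subtype.val e0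
          calc (t : Q) = y⁻¹ * (y * t * y⁻¹) * y := by group
            _ = 1 := by rw [h5, mul_one, inv_mul_cancel]
        exact h (eq_of_invol h1 h2 (Invol.mul_self_eq_one ho1) (Invol.mul_self_eq_one ho2)
          (Invol.ne_one ho1) (Invol.ne_one ho2)).symm
      · exact hr (key t' ht' ht'2 hpt')
    · exact hr (key t ht (Subtype.ext htR2) hpt)
  have hR4 : Nat.card R = 4 := by
    have hle := exp_two_le_four φ hφ hexp
    obtain ⟨k, hk⟩ := IsPGroup.iff_card.1 hRp
    have h2 : 2 < Nat.card R := by
      set t' : R := ⟨y * t * y⁻¹, hRn.conj_mem _ t.2 y⟩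
      have hne : t' ≠ t := fun h => ht1 (Subtype.ext (hfpf y hy hy1 t t.2 (congrArg Subtype.val h)))
      have hne1 : t' ≠ 1 := fun e0 => ht1 (Subtype.ext (by
        have h5 : y * (t : Q) * y⁻¹ = 1 := congrArg Subtype.val e0
        calc (t : Q) = y⁻¹ * (y * t * y⁻¹) * y := by group
          _ = 1 := by rw [h5, mul_one, inv_mul_cancel]))
      haveI := Fintype.ofFinite R
      have hcard : ({1, t, t'} : Finset R).card = 3 :=
        Finset.card_eq_three.2 ⟨1, t, t', ht1.symm, hne1.symm, hne.symm, rfl⟩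
      have := Finset.card_le_univ ({1, t, t'} : Finset R)
      rw [hcard, ← Nat.card_eq_fintype_card] at this
      omega
    rw [hk] at hle h2 ⊢
    have : k < 3 := by
      by_contra hk3
      push Not at hk3
      have := Nat.pow_le_pow_right two_pos hk3
      omega
    interval_cases k <;> omega
  haveI hK : IsKleinFour R := by
    refine ⟨hR4, ?_⟩
    haveI : Nontrivial R := (nontrivial_iff_ne_bot R).2 hRne
    refine (Monoid.exponent_eq_prime_iff Nat.prime_two).2 fun g hg => orderOf_eq_prime ?_ hg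
    rw [sq]; exact hexp g
  have hCR : centralizer (R : Set Q) = R := le_antisymm hC fun r hr => mem_centralizer_iff.2 fun s hs => by
    haveI : IsMulCommutative R := IsKleinFour.isMulCommutative
    exact congrArg Subtype.val ((inferInstance : IsMulCommutative R).is_comm.comm ⟨s, hs⟩ ⟨r, hr⟩)
  have hidx : R.index ∣ 6 := by
    have h := AutomizerSix.klein_six hK
    rwa [hCR, normalizer_eq_top, relIndex_top_right] at h
  have hcardQ : Nat.card Q = 4 * R.index := by rw [← R.card_mul_index, hR4]
  have h3i : 3 ∣ R.index := by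
    by_contra h3
    refine h2g ?_
    have hi : R.index = 1 ∨ R.index = 2 := by
      have := Nat.le_of_dvd (by norm_num) hidx
      interval_cases R.index <;> omega
    rcases hi with h | h <;> rw [h] at hcardQ
    · exact IsPGroup.of_card (n := 2) hcardQ
    · exact IsPGroup.of_card (n := 3) hcardQ
  obtain ⟨g, hg⟩ := exists_prime_orderOf_dvd_card' (G := Q) 3 (h3i.trans (Dvd.intro_left _ hcardQ.symm))
  obtain ⟨P⟩ : Nonempty (Sylow 3 Q) := inferInstance
  have hP3 : Nat.card (P : Subgroup Q) = 3 := by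
    have h1 : Nat.card (P : Subgroup Q) ∣ 3 ^ 1 := by
      obtain ⟨k, hk⟩ := IsPGroup.iff_card.1 P.2
      have hd : 3 ^ k ∣ 4 * R.index := hk ▸ hcardQ ▸ card_subgroup_dvd_card _
      have h2 := hd.trans (Nat.mul_dvd_mul_left 4 hidx)
      rw [hk]
      refine Nat.pow_dvd_pow 3 ?_
      by_contra hk1
      have := (pow_dvd_pow 3 (show 2 ≤ k by omega)).trans h2
      norm_num at this
    have h3 := P.ne_bot_of_dvd_card (h3i.trans (Dvd.intro_left _ hcardQ.symm))
    rcases (Nat.dvd_prime Nat.prime_three).1 (by simpa using h1) with h | h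
    · exact absurd (card_eq_one.1 h) h3
    · exact h
  have hn3 : Nat.card (Sylow 3 Q) = 4 := by
    have h1 := card_sylow_modEq_one 3 Q
    have h2 := P.card_dvd_index
    have h4 : (P : Subgroup Q).index * 3 = 4 * R.index := by
      have h := (P : Subgroup Q).index_mul_card
      rwa [hP3, hcardQ] at h
    have h5 : (P : Subgroup Q).index ∣ 8 := by
      obtain ⟨j, hj⟩ := h3i
      have h6 : j ∣ 2 := Nat.dvd_of_mul_dvd_mul_left (by norm_num : 0 < 3) (hj ▸ hidx)
      rw [show (P : Subgroup Q).index = 4 * j by omega]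
      exact Nat.mul_dvd_mul_left 4 h6
    have h7 := Nat.le_of_dvd (by norm_num) (h2.trans h5)
    have h8 : Nat.card (Sylow 3 Q) ≠ 1 := by
      intro h
      haveI : Subsingleton (Sylow 3 Q) := (Nat.card_eq_one_iff_unique.1 h).1
      have hb := DGroup.le_oddCore P.normal_of_subsingleton (by rw [hP3]; decide)
      rw [hO, le_bot_iff] at hb
      rw [hb, card_bot] at hP3
      omega
    have h9 : Nat.card (Sylow 3 Q) ∣ 8 := h2.trans h5
    unfold Nat.ModEq at h1
    interval_cases (Nat.card (Sylow 3 Q)) <;> omega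
  let π : Q →* Equiv.Perm (Fin 4) :=
    ((Finite.equivFinOfCardEq hn3).permCongrHom.toMonoidHom).comp (MulAction.toPermHom Q (Sylow 3 Q))
  have hπ : Function.Injective π := by
    rw [← MonoidHom.ker_eq_bot_iff]
    set N := π.ker
    have hNP : N ≤ normalizer ((P : Subgroup Q) : Set Q) := by
      intro x hx
      refine Sylow.smul_eq_iff_mem_normalizer.1 ?_
      have : (MulAction.toPermHom Q (Sylow 3 Q)) x = 1 :=
        (Finite.equivFinOfCardEq hn3).permCongrHom.injective
          ((show (Finite.equivFinOfCardEq hn3).permCongrHom ((MulAction.toPermHom Q (Sylow 3 Q)) x) = 1 from hx).trans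
            (map_one (Finite.equivFinOfCardEq hn3).permCongrHom).symm)
      exact congrArg (fun f : Equiv.Perm (Sylow 3 Q) => f P) this
    have hNR : N ⊓ R = ⊥ := by
      rw [eq_bot_iff]
      intro z hz
      rw [mem_bot]
      -- `z` normalises `P`, so fixed by an element of order three
      obtain ⟨⟨p, hp⟩, hpo⟩ := exists_prime_orderOf_dvd_card' (G := (P : Subgroup Q)) 3 (by rw [hP3])
      rw [Subgroup.orderOf_mk] at hpo
      refine hfpf p (by rw [hpo]; decide) (fun h => by rw [h, orderOf_one] at hpo; omega) z hz.2 ?_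
      have hc1 : z * p * z⁻¹ * p⁻¹ ∈ (P : Subgroup Q) :=
        mul_mem ((mem_normalizer_iff.1 (hNP hz.1) p).1 hp) (inv_mem hp)
      have hc2 : z * p * z⁻¹ * p⁻¹ ∈ R := by
        rw [show z * p * z⁻¹ * p⁻¹ = z * (p * z⁻¹ * p⁻¹) by group]
        exact mul_mem hz.2 (hRn.conj_mem _ (inv_mem hz.2) p)
      have hdisj : (P : Subgroup Q) ⊓ R = ⊥ :=
        disjoint_iff.1 (IsPGroup.disjoint_of_ne 3 2 (by norm_num) _ _ P.2 hRp)
      have : z * p * z⁻¹ * p⁻¹ = 1 := mem_bot.1 (hdisj ▸ ⟨hc1, hc2⟩)
      rw [mul_inv_eq_one, mul_inv_eq_iff_eq_mul] at this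
      exact mul_inv_eq_iff_eq_mul.2 this.symm
    have hle : N ≤ R := by
      refine le_trans (le_centralizer_iff.1 ?_) hC
      intro r hr
      rw [mem_centralizer_iff]
      intro x hx
      have : x * r * x⁻¹ * r⁻¹ ∈ N ⊓ R := by
        refine ⟨?_, R.mul_mem (hRn.conj_mem r hr x) (R.inv_mem hr)⟩
        rw [show x * r * x⁻¹ * r⁻¹ = x * (r * x⁻¹ * r⁻¹) by group]
        exact N.mul_mem hx ((MonoidHom.normal_ker π).conj_mem _ (N.inv_mem hx) r)
      rw [hNR, mem_bot, mul_inv_eq_one, mul_inv_eq_iff_eq_mul] at this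
      exact this
    rwa [inf_eq_left.2 hle] at hNR
  have halt : alternatingGroup (Fin 4) ≤ π.range := by
    have hr : Nat.card π.range = 4 * R.index := by
      rw [← Nat.card_congr (MonoidHom.ofInjective hπ).toEquiv, hcardQ]
    obtain ⟨j, hj⟩ := h3i
    have h6 : j ∣ 2 := Nat.dvd_of_mul_dvd_mul_left (by norm_num : 0 < 3) (hj ▸ hidx)
    have hi : π.range.index * (4 * R.index) = 24 := by
      rw [← hr, index_mul_card, Nat.card_perm, Nat.card_fin]; rfl
    rw [hj] at hi
    rcases (Nat.dvd_prime Nat.prime_two).1 h6 with rfl | rfl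
    · rw [← Equiv.Perm.eq_alternatingGroup_of_index_eq_two (G := π.range) (by omega)]
    · rw [index_eq_one.1 (show π.range.index = 1 by omega)]; exact le_top
  set M := (alternatingGroup (Fin 4)).comap π
  haveI : M.Normal := Normal.comap inferInstance π
  have hcM : centralizer (M : Set Q) = ⊥ := by
    rw [eq_bot_iff]
    intro x hx
    rw [mem_bot]
    refine hπ ((perm_four_cent_alt (π x) fun a ha => ?_).trans (map_one π).symm)
    obtain ⟨m, rfl⟩ := halt (Equiv.Perm.mem_alternatingGroup.2 ha)
    rw [← map_mul, ← map_mul, mem_centralizer_iff.1 hx m (Equiv.Perm.mem_alternatingGroup.2 ha)]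
  let ιA : M ≃* alternatingGroup (Fin 4) :=
    MulEquiv.ofBijective (π.subgroupComap (alternatingGroup (Fin 4))) ⟨fun a b h =>
      Subtype.ext (hπ (congrArg Subtype.val h)), fun a => by
        obtain ⟨m, hm⟩ := halt a.2
        exact ⟨⟨m, mem_comap.2 (by rw [hm]; exact a.2)⟩, Subtype.ext hm⟩⟩
  obtain ⟨eP⟩ := CfsgLib.Linear.Small.nonempty_psl_two_three (F := ZMod 3) (ZMod.card 3)
  obtain ⟨K, hK1, hK2⟩ := between_aut M hcM (ιA.trans eP.symm)
  exact ⟨ZMod 3, inferInstance, inferInstance, by rw [ZMod.card]; decide, K, hK1, hK2⟩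

/-- No permutation of seven points has order eight. -/
lemma perm_seven_no_eight (σ : Equiv.Perm (Fin 7)) : orderOf σ ≠ 8 := by
  intro h
  rw [← Equiv.Perm.lcm_cycleType] at h
  have h4 : σ.cycleType.lcm ∣ 4 := Multiset.lcm_dvd.2 fun k hk => by
    have h1 : k ∣ 8 := h ▸ Multiset.dvd_lcm hk
    have h2 : k ≤ 7 := (Multiset.le_sum_of_mem hk).trans
      ((Equiv.Perm.sum_cycleType σ).trans_le (by simpa using σ.support.card_le_univ))
    interval_cases k <;> omega
  rw [h] at h4
  omega

/-- Groups with dihedral Sylow 2-subgroups and trivial odd core, from the Gorenstein–Walter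
conclusion for their perfect subgroups alone. -/
theorem dihedral_structure_of
    (hGW : ∀ (R : Subgroup Q) [Group.IsPerfect R] (S : Sylow 2 R) (m : ℕ), 2 ≤ m →
      Nonempty ((S : Subgroup R) ≃* DihedralGroup m) →
      (∃ (F : Type) (_ : Field F) (_ : Fintype F), Odd (Fintype.card F) ∧ 3 < Fintype.card F ∧
          Nonempty (R ⧸ Cfsg.oddCore R ≃* Matrix.ProjectiveSpecialLinearGroup (Fin 2) F)) ∨
        Nonempty (R ⧸ Cfsg.oddCore R ≃* alternatingGroup (Fin 7)))
    (hO : Cfsg.oddCore Q = ⊥) (T : Sylow 2 Q) {n : ℕ}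
    (e : (T : Subgroup Q) ≃* DihedralGroup n) :
    IsPGroup 2 Q ∨ (∃ (F : Type) (_ : Field F) (_ : Fintype F), Odd (Fintype.card F) ∧
      ∃ K : Subgroup (MulAut (Matrix.ProjectiveSpecialLinearGroup (Fin 2) F)),
        (MulAut.conj : Matrix.ProjectiveSpecialLinearGroup (Fin 2) F →* _).range ≤ K ∧ Nonempty (Q ≃* K)) ∨
      Nonempty (Q ≃* alternatingGroup (Fin 7)) := by
  classical
  haveI : Fact (Nat.Prime 2) := ⟨Nat.prime_two⟩
  by_cases hsol : Group.IsSolvable Q
  · exact (dihedral_solvable hO T e).imp_right Or.inl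
  right
  obtain ⟨R, hRn, hRp, hRs⟩ := exists_perfect_residual Q
  haveI := hRn
  haveI := hRp
  have hRns : ¬ Group.IsSolvable R := fun h => hsol ((Group.isSolvable_iff_subgroup_quotient R).2 ⟨h, hRs⟩)
  obtain ⟨S⟩ : Nonempty (Sylow 2 R) := inferInstance
  have hS2 : IsPGroup 2 ((S : Subgroup R).map R.subtype) := S.2.map R.subtype
  obtain ⟨f, hf⟩ := embeds_sylow T hS2
  let eS : (S : Subgroup R) ≃* ((S : Subgroup R).map R.subtype : Subgroup Q) :=
    equivMapOfInjective (S : Subgroup R) R.subtype R.subtype_injective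
  obtain ⟨m, hm, hD⟩ := subgroup_dihedral (e.toMonoidHom.comp (f.comp eS.toMonoidHom))
    (e.injective.comp (hf.comp eS.injective)) fun h => hRns (isSolvable_of_cyclic_sylow S h)
  have hOR : Cfsg.oddCore R = ⊥ := by
    haveI : (Cfsg.oddCore R).Characteristic := characteristic_iff_map_le.2 fun φ => by
      refine DGroup.le_oddCore (Normal.map inferInstance _ φ.surjective) ?_
      rw [card_map_of_injective (show Function.Injective φ.toMonoidHom from φ.injective)]
      exact DGroup.odd_oddCore R
    have h := DGroup.le_oddCore (K := Q) (N := (Cfsg.oddCore R).map R.subtype) inferInstance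
      (by rw [card_map_of_injective R.subtype_injective]; exact DGroup.odd_oddCore R)
    rwa [hO, le_bot_iff, Subgroup.map_eq_bot_iff_of_injective _ R.subtype_injective] at h
  let bot : R ⧸ Cfsg.oddCore R ≃* R :=
    (QuotientGroup.quotientMulEquivOfEq hOR).trans QuotientGroup.quotientBot
  have hRsimple : IsSimpleGroup R := by
    rcases hGW R S m hm hD with ⟨F, _, _, hodd, h3, ⟨q⟩⟩ | ⟨⟨q⟩⟩
    · have : IsSimpleGroup (Matrix.ProjectiveSpecialLinearGroup (Fin 2) F) :=
        CfsgLib.Linear.isSimpleGroup_PSL (Or.inr (CfsgLib.Linear.Small.exists_sq_ne_one (F := F) (by omega)))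
      exact (bot.symm.trans q).isSimpleGroup
    · have : IsSimpleGroup (alternatingGroup (Fin 7)) := alternatingGroup.isSimpleGroup (by simp)
      exact (bot.symm.trans q).isSimpleGroup
  have hcR : centralizer (R : Set Q) = ⊥ := by
    set C := centralizer (R : Set Q)
    have hdisj : C ⊓ R = ⊥ := by
      have hn : ((C ⊓ R).subgroupOf R).Normal := inferInstance
      rcases hRsimple.eq_bot_or_eq_top_of_normal _ hn with h | h
      · rwa [subgroupOf_eq_bot, disjoint_iff, inf_assoc, inf_idem] at h
      · exfalso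
        apply hRns
        rw [subgroupOf_eq_top] at h
        haveI : IsMulCommutative R := ⟨⟨fun a b => Subtype.ext
          (mem_centralizer_iff.1 (h b.2).1 a a.2)⟩⟩
        infer_instance
    have hodd : Odd (Nat.card C) := by
      by_contra hev
      obtain ⟨⟨z, hz⟩, hzo⟩ := exists_prime_orderOf_dvd_card' (G := C) 2
        (even_iff_two_dvd.1 (Nat.not_odd_iff_even.1 hev))
      rw [Subgroup.orderOf_mk] at hzo
      -- an elementary abelian subgroup of order eight
      obtain ⟨eD⟩ := hD
      haveI : NeZero m := ⟨by omega⟩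
      obtain ⟨k, hk⟩ : ∃ k, m = 2 * k := by
        obtain ⟨j, hj⟩ := IsPGroup.iff_card.1 S.2
        rw [Nat.card_congr eD.toEquiv, DihedralGroup.nat_card] at hj
        rcases j with _ | _ | j
        · simp at hj
        · simp at hj; omega
        · exact ⟨2 ^ j, by rw [pow_succ', pow_succ'] at hj; omega⟩
      set a : Q := ((eD.symm (DihedralGroup.sr 0) : (S : Subgroup R)) : R).1 with ha
      set b : Q := ((eD.symm (DihedralGroup.r (k : ZMod m)) : (S : Subgroup R)) : R).1 with hb
      have hk0 : (k : ZMod m) + k = 0 := by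
        rw [← Nat.cast_add, ZMod.natCast_eq_zero_iff]; exact ⟨1, by omega⟩
      have hk1 : (k : ZMod m) ≠ 0 := by
        rw [Ne, ZMod.natCast_eq_zero_iff]
        exact fun h => by have := Nat.le_of_dvd (by omega) h; omega
      let φ : (S : Subgroup R) →* Q := R.subtype.comp (S : Subgroup R).subtype
      have hφi : Function.Injective φ := R.subtype_injective.comp (S : Subgroup R).subtype_injective
      have ha2 : a * a = 1 := by
        show φ _ * φ _ = 1
        rw [← map_mul, ← map_mul, DihedralGroup.sr_mul_self, map_one, map_one]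
      have hb2 : b * b = 1 := by
        show φ _ * φ _ = 1
        rw [← map_mul, ← map_mul, DihedralGroup.r_mul_r, hk0, ← DihedralGroup.one_def, map_one, map_one]
      have hab : a * b = b * a := by
        show φ _ * φ _ = φ _ * φ _
        rw [← map_mul, ← map_mul, ← map_mul, ← map_mul, DihedralGroup.sr_mul_r, DihedralGroup.r_mul_sr]
        congr 2
        rw [zero_add, zero_sub, DihedralGroup.sr.injEq]
        exact eq_neg_of_add_eq_zero_left hk0
      have hza : z * a = a * z := (mem_centralizer_iff.1 hz a (Subtype.prop _)).symm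
      have hzb : z * b = b * z := (mem_centralizer_iff.1 hz b (Subtype.prop _)).symm
      have hcomm : IsMulCommutative (closure ({a, b, z} : Set Q)) := isMulCommutative_closure (by
        rintro x (rfl | rfl | rfl) w (rfl | rfl | rfl) <;>
          first | rfl | exact hab | exact hab.symm | exact hza | exact hza.symm | exact hzb | exact hzb.symm)
      set E := closure ({a, b, z} : Set Q)
      have hEexp : ∀ x ∈ E, x * x = 1 := fun x hx => by
        refine closure_induction (p := fun x _ => x * x = 1) ?_ (one_mul 1) ?_ ?_ hx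
        · rintro x (rfl | rfl | rfl)
          exacts [ha2, hb2, Invol.mul_self_eq_one hzo]
        · intro x w hx hw h1 h2
          have hc : w * x = x * w := setLike_mul_comm hw hx
          calc x * w * (x * w) = x * (w * x) * w := by group
            _ = x * x * (w * w) := by rw [hc]; group
            _ = 1 := by rw [h1, h2, one_mul]
        · intro x _ h1; rw [← mul_inv_rev, h1, inv_one]
      have hEp : IsPGroup 2 E := fun x => ⟨1, Subtype.ext (by
        rw [pow_one, SubmonoidClass.coe_pow, sq]; exact hEexp x x.2)⟩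
      obtain ⟨g, hg⟩ := embeds_sylow T hEp
      have h4 := exp_two_le_four (e.toMonoidHom.comp g) (e.injective.comp hg)
        fun x => Subtype.ext (hEexp x x.2)
      have hne : ∀ x ∈ ({a, b, a * b} : Set Q), x ≠ 1 ∧ x ∈ R := by
        rintro x (rfl | rfl | rfl)
        · refine ⟨fun h => ?_, Subtype.prop _⟩
          have := eD.symm.injective ((hφi (h.trans (map_one φ).symm)).trans (map_one eD.symm).symm)
          rw [DihedralGroup.one_def] at this
          exact nomatch this
        · refine ⟨fun h => ?_, Subtype.prop _⟩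
          have := eD.symm.injective ((hφi (h.trans (map_one φ).symm)).trans (map_one eD.symm).symm)
          rw [DihedralGroup.one_def, DihedralGroup.r.injEq] at this
          exact hk1 this
        · refine ⟨fun h => ?_, mul_mem (Subtype.prop _) (Subtype.prop _)⟩
          have h' : φ (eD.symm (DihedralGroup.sr 0 * DihedralGroup.r (k : ZMod m))) = 1 := by
            rw [map_mul, map_mul]; exact h
          have := eD.symm.injective ((hφi (h'.trans (map_one φ).symm)).trans (map_one eD.symm).symm)
          rw [DihedralGroup.sr_mul_r, DihedralGroup.one_def] at this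
          exact nomatch this
      obtain ⟨a1, aR⟩ := hne a (by simp)
      obtain ⟨b1, bR⟩ := hne b (by simp)
      obtain ⟨c1, cR⟩ := hne (a * b) (by simp)
      have hzR : z ∉ R := fun h => Invol.ne_one hzo (mem_bot.1 (hdisj ▸ ⟨hz, h⟩))
      haveI := Fintype.ofFinite E
      have haE : a ∈ E := subset_closure (by simp)
      have hbE : b ∈ E := subset_closure (by simp)
      have hzE : z ∈ E := subset_closure (by simp)
      have hab' : a ≠ b := fun h => c1 (by rw [← h, ha2])
      have hca : a * b ≠ a := fun h => b1 (mul_eq_left.1 h)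
      have hcb : a * b ≠ b := fun h => a1 (mul_eq_right.1 h)
      let L : Finset E := {1, ⟨a, haE⟩, ⟨b, hbE⟩, ⟨a * b, mul_mem haE hbE⟩, ⟨z, hzE⟩}
      have hz1 : z ≠ 1 := Invol.ne_one hzo
      have hza' : z ≠ a := fun h => hzR (h ▸ aR)
      have hzb' : z ≠ b := fun h => hzR (h ▸ bR)
      have hzc' : z ≠ a * b := fun h => hzR (h ▸ cR)
      have h5 : L.card = 5 := by
        simp only [L]
        rw [Finset.card_insert_of_notMem, Finset.card_insert_of_notMem, Finset.card_insert_of_notMem,
          Finset.card_insert_of_notMem, Finset.card_singleton]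
        all_goals simp [Subtype.ext_iff, a1.symm, b1.symm, c1.symm, hz1.symm, hab', hca.symm, hcb.symm,
          hza'.symm, hzb'.symm, hzc'.symm]
      have := Finset.card_le_univ L
      rw [h5, ← Nat.card_eq_fintype_card] at this
      omega
    exact le_bot_iff.1 (hO ▸ DGroup.le_oddCore inferInstance hodd)
  rcases hGW R S m hm hD with ⟨F, _, _, hodd, -, ⟨q⟩⟩ | ⟨⟨q⟩⟩
  · left
    obtain ⟨K, hK1, hK2⟩ := between_aut R hcR (bot.symm.trans q)
    exact ⟨F, inferInstance, inferInstance, hodd, K, hK1, hK2⟩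
  · right
    obtain ⟨K, hK1, ⟨eK⟩⟩ := between_aut R hcR (bot.symm.trans q)
    let c : Equiv.Perm (Fin 7) →* MulAut (alternatingGroup (Fin 7)) := MulAut.conjNormal
    have hc : Function.Surjective c := fun φ =>
      AutAlt.exists_conj (by simp) (by simp) (show (0 : Fin 7) ≠ 1 by decide) φ
    haveI : IsSimpleGroup (alternatingGroup (Fin 7)) := alternatingGroup.isSimpleGroup (by simp)
    have hinj : Function.Injective (MulAut.conj : alternatingGroup (Fin 7) →* _) := by
      rw [injective_iff_map_eq_one]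
      intro a ha
      have hz : a ∈ center (alternatingGroup (Fin 7)) := mem_center_iff.2 fun b => by
        have := DFunLike.congr_fun ha b
        rw [MulAut.conj_apply, MulAut.one_apply, mul_inv_eq_iff_eq_mul] at this
        exact this.symm
      rwa [alternatingGroup.center_eq_bot (by simp), mem_bot] at hz
    set I := (MulAut.conj : alternatingGroup (Fin 7) →* _).range with hI
    by_cases heq : K = I
    · exact ⟨eK.trans ((MulEquiv.subgroupCongr heq).trans (MonoidHom.ofInjective hinj).symm)⟩
    exfalso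
    -- otherwise there would be a permutation of seven points of order eight
    have hA : Nat.card (alternatingGroup (Fin 7)) = 2520 := by
      rw [Nat.card_eq_fintype_card, card_alternatingGroup, Fintype.card_fin]; rfl
    have hIc : Nat.card I = 2520 := by
      rw [← hA]; exact Nat.card_congr (MonoidHom.ofInjective hinj).toEquiv.symm
    have hM : Nat.card (MulAut (alternatingGroup (Fin 7))) ∣ 5040 := by
      have := Subgroup.card_dvd_of_surjective c hc
      rwa [Nat.card_perm, Nat.card_fin] at this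
    have hKQ : Nat.card Q = 5040 := by
      rw [Nat.card_congr eK.toEquiv]
      have h1 : 2520 ∣ Nat.card K := hIc ▸ card_dvd_of_le hK1
      have h2 : Nat.card K ∣ 5040 := (card_subgroup_dvd_card K).trans hM
      have h3 : Nat.card K ≠ 2520 := fun h => heq (eq_of_le_of_card_ge hK1 (by rw [h, hIc])).symm
      obtain ⟨i, hi⟩ := h1
      rw [hi] at h2 h3 ⊢
      have h4 : i ∣ 2 := Nat.dvd_of_mul_dvd_mul_left (by norm_num : 0 < 2520) h2
      rcases (Nat.dvd_prime Nat.prime_two).1 h4 with rfl | rfl
      · exact absurd rfl h3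
      · rfl
    obtain ⟨j, hj⟩ := IsPGroup.iff_card.1 T.2
    have hodd : ¬ 2 ∣ (T : Subgroup Q).index := T.not_dvd_index
    have hmul := (T : Subgroup Q).index_mul_card
    rw [hj, hKQ] at hmul
    have hj4 : j = 4 := by
      have hle : 2 ^ j ∣ 2 ^ 4 * 315 := ⟨(T : Subgroup Q).index, by rw [mul_comm ((2:ℕ) ^ j), hmul]; norm_num⟩
      have h1 : j ≤ 4 := by
        by_contra h
        push Not at h
        have := (pow_dvd_pow 2 (show 5 ≤ j by omega)).trans hle
        norm_num at this
      interval_cases j <;> omega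
    have hn : n = 8 := by
      have h := Nat.card_congr e.toEquiv
      rw [hj, hj4, DihedralGroup.nat_card] at h
      omega
    subst hn
    set x : Q := ((e.symm (DihedralGroup.r 1) : (T : Subgroup Q)) : Q)
    have hx : orderOf x = 8 := by
      rw [Subgroup.orderOf_coe, e.symm.orderOf_eq, DihedralGroup.orderOf_r_one]
    obtain ⟨σ, hσ⟩ := hc (eK x : MulAut _)
    have h8 : 8 ∣ orderOf σ := by
      have h := orderOf_map_dvd c σ
      rwa [hσ, Subgroup.orderOf_coe, eK.orderOf_eq, hx] at h
    exact perm_seven_no_eight (σ ^ (orderOf σ / 8)) (orderOf_pow_orderOf_div (orderOf_pos σ).ne' h8)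

/-- Groups with dihedral Sylow 2-subgroups and trivial odd core. -/
theorem dihedral_structure (hGW : Statement.{u}) (hO : Cfsg.oddCore Q = ⊥) (T : Sylow 2 Q) {n : ℕ}
    (e : (T : Subgroup Q) ≃* DihedralGroup n) :
    IsPGroup 2 Q ∨ (∃ (F : Type) (_ : Field F) (_ : Fintype F), Odd (Fintype.card F) ∧
      ∃ K : Subgroup (MulAut (Matrix.ProjectiveSpecialLinearGroup (Fin 2) F)),
        (MulAut.conj : Matrix.ProjectiveSpecialLinearGroup (Fin 2) F →* _).range ≤ K ∧ Nonempty (Q ≃* K)) ∨
      Nonempty (Q ≃* alternatingGroup (Fin 7)) :=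
  dihedral_structure_of (fun R _ => hGW R) hO T e

end CfsgLib.GWApps
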