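import Cfsg.Prelude.Def_CaseTheorems

/-!
# The Gorenstein–Walter theorem as a hypothesis
-/

set_option autoImplicit false

namespace CfsgLib.GWApps

universe u

/-- The statement of the theorem of Gorenstein and Walter (row S0483) in the universe `u`. -/
def Statement : Prop :=
  ∀ (X : Type u) [Group X] [Finite X] [Group.IsPerfect X] (S : Sylow 2 X) (n : ℕ), 2 ≤ n →
    Nonempty ((S : Subgroup X) ≃* DihedralGroup n) →
    (∃ (F : Type) (_ : Field F) (_ : Fintype F), Odd (Fintype.card F) ∧ 3 < Fintype.card F ∧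
        Nonempty (X ⧸ Cfsg.oddCore X ≃* Matrix.ProjectiveSpecialLinearGroup (Fin 2) F)) ∨
      Nonempty (X ⧸ Cfsg.oddCore X ≃* alternatingGroup (Fin 7))

end CfsgLib.GWApps
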