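import Cfsg.Agent.Invol.QuasiDihedral
import Cfsg.Agent.Invol.Wreathed
import Cfsg.Agent.InvChar.QuaternionFactor

/-!
# Normal quaternion subgroups of quasi-dihedral and wreathed 2-groups
-/

set_option autoImplicit false
set_option linter.unusedSectionVars false
set_option linter.style.haveILetI false

namespace CfsgLib.GWApps

open Subgroup

variable {S : Type*} [Group S]

theorem quaternion_noncomm {Q : Subgroup S} {m : ℕ} (e : Q ≃* QuaternionGroup (2 ^ m)) (hm : 1 ≤ m) :
    ∃ a ∈ Q, ∃ b ∈ Q, a * b ≠ b * a := by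
  obtain ⟨-, z, hz, -, -, u, v, huv⟩ := InvChar.quaternion_facts m hm
  refine ⟨_, (e.symm u).2, _, (e.symm v).2, fun h => ?_⟩
  have h' : u * v = v * u := e.symm.injective (Subtype.ext (by simpa using h))
  have h1 : z = 1 := by rw [huv, h']; group
  rw [h1, orderOf_one] at hz
  omega

variable [Finite S]

theorem qd_refl_mem (D : CfsgLib.QD.Data S) {Q : Subgroup S} {a b : S} (ha : a ∈ Q) (hb : b ∈ Q)
    (hab : a * b ≠ b * a) : ∃ i : ℤ, D.x ^ i * D.y ∈ Q := by
  rcases D.cases a with ⟨i, rfl⟩ | ⟨i, rfl⟩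
  · rcases D.cases b with ⟨j, rfl⟩ | ⟨j, rfl⟩
    · exact absurd ((Commute.refl D.x).zpow_zpow i j).eq hab
    · exact ⟨j, hb⟩
  · exact ⟨i, ha⟩

theorem wreath_refl_mem (D : CfsgLib.Wreath.Data S) {Q : Subgroup S} {a b : S} (ha : a ∈ Q) (hb : b ∈ Q)
    (hab : a * b ≠ b * a) : ∃ c d : ℤ, D.e c d * D.t ∈ Q := by
  rcases D.cases a with ⟨c, d, rfl⟩ | ⟨c, d, rfl⟩
  · rcases D.cases b with ⟨c', d', rfl⟩ | ⟨c', d', rfl⟩
    · exact absurd (D.base_comm (D.e_mem c d) (D.e_mem c' d')) hab
    · exact ⟨c', d', hb⟩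
  · exact ⟨c, d, ha⟩

/-- The centralizer of a normal quaternion subgroup is central. -/
theorem quaternion_centralizer_le (h : Cfsg.IsQuasiDihedral S ∨ Cfsg.IsWreathed S) {Q : Subgroup S} {m : ℕ}
    (e : Q ≃* QuaternionGroup (2 ^ m)) (hm : 1 ≤ m) : centralizer (Q : Set S) ≤ center S := by
  obtain ⟨a, ha, b, hb, hab⟩ := quaternion_noncomm e hm
  rcases h with h | h
  · obtain ⟨D⟩ := CfsgLib.QD.exists_data h
    obtain ⟨i, hi⟩ := qd_refl_mem D ha hb hab
    intro g hg
    rw [mem_centralizer_iff] at hg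
    have key : Commute g (D.x ^ i * D.y) := (hg _ hi).symm
    have bad : (∀ q ∈ Q, Commute q (D.x ^ i * D.y)) → False := fun hq => by
      have hz : ∀ q : S, Commute q D.z := D.z_comm
      have h2 : ∀ q ∈ Q, q = 1 ∨ q = D.z ∨ q = D.x ^ i * D.y ∨ q = D.z * (D.x ^ i * D.y) :=
        fun q h' => D.refl_centralizer (hq q h')
      apply hab
      have c1 : Commute D.z (D.x ^ i * D.y) := (hz _).symm
      rcases h2 a ha with rfl | rfl | rfl | rfl <;> rcases h2 b hb with rfl | rfl | rfl | rfl <;>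
        first
          | exact Commute.refl _
          | exact Commute.one_left _
          | exact Commute.one_right _
          | exact c1
          | exact c1.symm
          | exact (Commute.refl _).mul_right c1.symm |>.symm
          | exact ((Commute.refl _).mul_right c1).eq
          | exact ((Commute.refl _).mul_right c1).symm.eq
          | exact (c1.symm.mul_right (Commute.refl _)).eq
          | exact (c1.symm.mul_right (Commute.refl _)).symm.eq
    rcases D.refl_centralizer key with rfl | rfl | rfl | rfl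
    · exact one_mem _
    · exact D.z_mem_center
    · exact (bad fun q h' => hg q h').elim
    · refine (bad fun q h' => ?_).elim
      have h3 : Commute q (D.z * (D.x ^ i * D.y)) := hg q h'
      have h4 := (show Commute q D.z from D.z_comm q).mul_right h3
      rwa [← mul_assoc, D.z_sq, one_mul] at h4
  · obtain ⟨D⟩ := CfsgLib.Wreath.exists_data h
    obtain ⟨c, d, hr⟩ := wreath_refl_mem D ha hb hab
    intro g hg
    rw [mem_centralizer_iff] at hg
    obtain ⟨k, hk | hk⟩ := D.refl_centralizer (g := g) (a := c) (b := d) (hg _ hr).symm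
    · exact hk ▸ D.diag_mem_center k
    · refine (hab ?_).elim
      have hq : ∀ q ∈ Q, ∃ j : ℤ, q = D.e j j ∨ q = D.e j j * (D.e c d * D.t) := fun q h' => by
        refine D.refl_centralizer ?_
        have h3 : Commute q g := hg q h'
        have h5 : Commute q (D.e k k)⁻¹ := mem_center_iff.1 (inv_mem (D.diag_mem_center k)) q
        have h4 := h5.mul_right h3
        rwa [hk, inv_mul_cancel_left] at h4
      have hcen : ∀ (j : ℤ) (x : S), Commute (D.e j j) x := fun j x => (mem_center_iff.1 (D.diag_mem_center j) x).symm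
      obtain ⟨j, rfl | rfl⟩ := hq a ha
      · exact hcen j b
      · obtain ⟨j', rfl | rfl⟩ := hq b hb
        · exact (hcen j' _).symm
        · exact (Commute.mul_left (hcen j _) ((hcen j' _).symm.mul_right (Commute.refl _))).eq

/-- A normal quaternion subgroup contains the commutator subgroup. -/
theorem quaternion_commutator_le (h : Cfsg.IsQuasiDihedral S ∨ Cfsg.IsWreathed S) {Q : Subgroup S} [Q.Normal]
    {m : ℕ} (e : Q ≃* QuaternionGroup (2 ^ m)) (hm : 1 ≤ m) : commutator S ≤ Q := by
  obtain ⟨a, ha, b, hb, hab⟩ := quaternion_noncomm e hm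
  rcases h with h | h
  · obtain ⟨D⟩ := CfsgLib.QD.exists_data h
    obtain ⟨i, hi⟩ := qd_refl_mem D ha hb hab
    rw [D.commutator_eq.1, zpowers_le]
    have h1 := mul_mem (‹Q.Normal›.conj_mem _ hi (D.x ^ (1 : ℤ))) (inv_mem hi)
    rw [D.refl_conj_rot, mul_inv_rev, ← mul_assoc, mul_inv_cancel_right, ← zpow_neg, ← zpow_add,
      show i + 2 * (1 - 2 * (D.q : ℤ)) * 1 + -i = 2 * (1 - 2 * (D.q : ℤ)) by ring] at h1
    have h2 := zpow_mem h1 (1 - 2 * (D.q : ℤ))
    rw [← zpow_mul] at h2
    have h3 : D.x ^ (2 * (1 - 2 * (D.q : ℤ)) * (1 - 2 * (D.q : ℤ))) = D.x ^ (2 : ℤ) := by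
      rw [D.zpow_eq_iff]
      exact ⟨(D.q : ℤ) - 1, by ring⟩
    rwa [h3] at h2
  · obtain ⟨D⟩ := CfsgLib.Wreath.exists_data h
    obtain ⟨c, d, hr⟩ := wreath_refl_mem D ha hb hab
    rw [D.commutator_eq, zpowers_le]
    have h1 := mul_mem (‹Q.Normal›.conj_mem _ hr (D.e 1 0)) (inv_mem hr)
    rw [D.refl_conj, mul_inv_rev, ← mul_assoc, mul_inv_cancel_right, D.e_inv, D.e_mul,
      show c + 1 - 0 + -c = 1 by ring, show d + 0 - 1 + -d = -1 by ring] at h1
    exact h1

/-- A normal quaternion subgroup of order eight is not a factor with its centralizer. -/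
theorem quaternion_eight_sup_ne (h : Cfsg.IsQuasiDihedral S ∨ Cfsg.IsWreathed S) {Q : Subgroup S} [Q.Normal]
    (e : Q ≃* QuaternionGroup (2 ^ 1)) : Q ⊔ centralizer (Q : Set S) ≠ ⊤ := by
  intro htop
  have hC := quaternion_centralizer_le h e le_rfl
  have hQ := quaternion_commutator_le h e le_rfl
  -- the centre meets `Q`, and its index exceeds four
  obtain ⟨hidx, z, hzC, hz1, hzQ⟩ :
      8 ≤ (center S).index ∧ ∃ z ∈ center S, z ≠ 1 ∧ z ∈ Q := by
    rcases h with h | h
    · obtain ⟨D⟩ := CfsgLib.QD.exists_data h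
      refine ⟨?_, D.z, D.z_mem_center, D.z_ne_one, hQ ?_⟩
      · have h1 := (center S).index_mul_card
        rw [D.card_center, D.card_eq] at h1
        have := D.q_pos
        omega
      · rw [D.commutator_eq.1]
        refine mem_zpowers_iff.2 ⟨2 * (D.q : ℤ), ?_⟩
        rw [← zpow_mul, CfsgLib.QD.Data.z]
        congr 1; ring
    · obtain ⟨D⟩ := CfsgLib.Wreath.exists_data h
      refine ⟨?_, D.e D.h D.h, D.diag_mem_center _, fun h0 => D.not_dvd_h (D.e_eq_one_iff.1 h0).1, hQ ?_⟩
      · have h1 := (center S).index_mul_card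
        rw [D.card_center, D.card_eq] at h1
        have := D.q_pos
        nlinarith
      · rw [D.commutator_eq]
        refine mem_zpowers_iff.2 ⟨D.h, ?_⟩
        rw [D.e_zpow, D.e_eq_iff]
        exact ⟨⟨0, by ring⟩, ⟨-1, by rw [← D.h_two]; ring⟩⟩
  let f : Q →* S ⧸ center S := (QuotientGroup.mk' (center S)).comp Q.subtype
  have hf : f.range = ⊤ := by
    rw [MonoidHom.range_comp, range_subtype, eq_top_iff, ← map_top_of_surjective _ (QuotientGroup.mk'_surjective (center S)),
      ← htop, Subgroup.map_sup]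
    refine sup_le le_rfl ?_
    have : (centralizer (Q : Set S)).map (QuotientGroup.mk' (center S)) = ⊥ := by
      rw [Subgroup.map_eq_bot_iff, QuotientGroup.ker_mk']; exact hC
    rw [this]; exact bot_le
  have hk : f.ker ≠ ⊥ := fun hk => by
    have h1 : (⟨z, hzQ⟩ : Q) ∈ f.ker := (QuotientGroup.eq_one_iff z).2 hzC
    rw [hk, mem_bot] at h1
    exact hz1 (congrArg Subtype.val h1)
  have h2 := f.ker.card_mul_index
  rw [index_ker, hf, card_top, ← index_eq_card, Nat.card_congr e.toEquiv, Nat.card_eq_fintype_card (α := QuaternionGroup _),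
    QuaternionGroup.card] at h2
  have h3 := f.ker.one_lt_card_iff_ne_bot.2 hk
  rw [show (4 : ℕ) * 2 ^ 1 = 8 by norm_num] at h2
  nlinarith

/-- A normal quaternion subgroup of order at least sixteen is not centralized by all fourth powers. -/
theorem quaternion_fourth_power (h : Cfsg.IsQuasiDihedral S ∨ Cfsg.IsWreathed S) {Q : Subgroup S}
    (e : Q ≃* QuaternionGroup (2 ^ 2)) : ∃ x : S, x ^ 4 ∉ centralizer (Q : Set S) := by
  suffices hx : ∃ x : S, x ^ 4 ∉ center S by
    obtain ⟨x, hx⟩ := hx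
    exact ⟨x, fun h' => hx (quaternion_centralizer_le h e (by omega) h')⟩
  set g : Q := e.symm (QuaternionGroup.a 1) with hg
  haveI : NeZero (2 ^ 2) := ⟨by norm_num⟩
  have ho : orderOf g = 8 := by rw [hg, MulEquiv.orderOf_eq, QuaternionGroup.orderOf_a_one]; norm_num
  rcases h with h | h
  · obtain ⟨D⟩ := CfsgLib.QD.exists_data h
    refine ⟨D.x, fun h' => ?_⟩
    have h1 : Commute (D.x ^ (4 : ℤ)) (D.x ^ (0 : ℤ) * D.y) := by
      rw [show D.x ^ (4 : ℤ) = D.x ^ 4 by rw [← zpow_natCast]; norm_num]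
      exact (mem_center_iff.1 h' _).symm
    have hq : D.q = 1 := by
      have := D.q_pos
      rcases D.rot_commute_iff.1 h1 with h2 | h2
      · rw [← zpow_zero D.x, D.zpow_eq_iff] at h2
        have := Int.le_of_dvd (by norm_num) h2
        omega
      · rw [CfsgLib.QD.Data.z, D.zpow_eq_iff] at h2
        obtain ⟨c, hc⟩ := h2
        have h4 : (D.q : ℤ) ∣ 1 := ⟨2 * c + 1, by linarith⟩
        have := Int.le_of_dvd one_pos h4
        omega
    -- then `Q` would be the whole group, which has two involutions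
    have hcard : Nat.card Q = Nat.card S := by
      rw [Nat.card_congr e.toEquiv, Nat.card_eq_fintype_card, QuaternionGroup.card, D.card_eq, hq]; norm_num
    have htop : Q = ⊤ := Q.card_eq_iff_eq_top.1 hcard
    obtain ⟨-, w, -, huniq, -⟩ := InvChar.quaternion_facts 2 (by omega)
    have key : ∀ u : S, orderOf u = 2 → e ⟨u, htop ▸ mem_top u⟩ = w := fun u hu =>
      huniq _ (by rw [e.orderOf_eq, Subgroup.orderOf_mk, hu])
    have := e.injective ((key _ D.hy).trans (key _ D.orderOf_z).symm)
    exact D.ne_z 0 (by simpa using congrArg Subtype.val this)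
  · obtain ⟨D⟩ := CfsgLib.Wreath.exists_data h
    by_contra hall
    push Not at hall
    have hq : D.q = 1 := by
      have h2 := hall (D.e 1 0)
      rw [← zpow_natCast, D.e_zpow, D.mem_center_iff'] at h2
      have h3 := Int.le_of_dvd (by norm_num) h2
      have hN : D.N = 4 * (D.q : ℤ) := rfl
      have := D.q_pos
      norm_num at h3
      omega
    have hN : D.N = 4 := by show 4 * (D.q : ℤ) = 4; rw [hq]; norm_num
    rcases D.cases (g : S) with ⟨c, d, hcd⟩ | ⟨c, d, hcd⟩
    · have h4 : g ^ 4 = 1 := Subtype.ext (by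
        rw [SubmonoidClass.coe_pow, hcd, ← zpow_natCast, D.e_zpow]
        refine D.e_eq_one_iff.2 ⟨?_, ?_⟩ <;> rw [hN] <;> exact ⟨_, mul_comm _ _⟩)
      have := Nat.le_of_dvd (by norm_num) (orderOf_dvd_of_pow_eq_one h4)
      omega
    · have hc2 : (g : S) * g ∈ center S := by rw [hcd, D.refl_sq]; exact D.diag_mem_center _
      have h5 := congrArg e (Subtype.ext (mem_center_iff.1 hc2 (e.symm (QuaternionGroup.xa 0) : S)) :
        e.symm (QuaternionGroup.xa 0) * (g * g) = g * g * e.symm (QuaternionGroup.xa 0))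
      simp only [map_mul, hg, MulEquiv.apply_symm_apply] at h5
      revert h5
      decide

end CfsgLib.GWApps
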