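import Cfsg.Agent.GWApps.RankOne
import Cfsg.Agent.GWApps.Dihedral
import Cfsg.Agent.GWApps.QDNormalQuaternion
import Cfsg.Agent.Invol.CentralizerPattern
import Cfsg.Agent.AutPSL.Out
import Cfsg.Agent.AutAlt.Main
import Cfsg.Agent.S2879

/-!
# Involution centralizers modulo core: quasi-dihedral and wreathed Sylow 2-subgroups
-/

set_option autoImplicit false
set_option linter.unusedSectionVars false
set_option linter.style.haveILetI false

namespace CfsgLib.GWApps

open Subgroup
open scoped commutatorElement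

universe u v w

/-- The action on the quotient by the centre. -/
def quotCenterAut (G : Type u) [Group G] : MulAut G →* MulAut (G ⧸ center G) where
  toFun φ := QuotientGroup.congr (center G) (center G) φ (characteristic_iff_map_eq.1 inferInstance φ)
  map_one' := by
    ext x
    induction x using QuotientGroup.induction_on
    rfl
  map_mul' a b := by
    ext x
    induction x using QuotientGroup.induction_on
    rfl

theorem quotCenterAut_apply {G : Type u} [Group G] (φ : MulAut G) (x : G) :
    quotCenterAut G φ (x : G ⧸ center G) = (φ x : G) := rfl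

/-- Automorphisms trivial modulo a centre of order two are trivial without subgroups of index two. -/
theorem aut_eq_one_of_quot {G : Type u} [Group G] [Finite G] (hG : ∀ H : Subgroup G, H.index ≠ 2)
    (h2 : Nat.card (center G) = 2) {φ : MulAut G} (hφ : quotCenterAut G φ = 1) : φ = 1 := by
  have hz : ∀ x : G, x⁻¹ * φ x ∈ center G := fun x => by
    have h := DFunLike.congr_fun hφ (x : G ⧸ center G)
    rw [quotCenterAut_apply, MulAut.one_apply] at h
    exact QuotientGroup.eq.1 h.symm
  let f : G →* center G := MonoidHom.mk' (fun x => ⟨_, hz x⟩) fun a b => Subtype.ext (by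
    show (a * b)⁻¹ * φ (a * b) = a⁻¹ * φ a * (b⁻¹ * φ b)
    have hc := mem_center_iff.1 (hz a) b⁻¹
    rw [map_mul, mul_inv_rev, show b⁻¹ * a⁻¹ * (φ a * φ b) = b⁻¹ * (a⁻¹ * φ a) * φ b by group, hc]
    group)
  have hker : f.ker = ⊤ := by
    have hd : f.ker.index ∣ 2 := by rw [index_ker, ← h2]; exact card_subgroup_dvd_card _
    rcases (Nat.dvd_prime Nat.prime_two).1 hd with h | h
    · exact index_eq_one.1 h
    · exact absurd h (hG _)
  ext x
  have h : f x = 1 := MonoidHom.mem_ker.1 (hker ▸ mem_top x)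
  exact (inv_mul_eq_one.1 (congrArg Subtype.val h : x⁻¹ * φ x = 1)).symm

theorem centralizer_of_quot {D : Type u} [Group D] {L : Subgroup D} [L.Normal] [Finite L]
    (hL : ∀ H : Subgroup L, H.index ≠ 2) (h2 : Nat.card (center L) = 2) {x : D}
    (hx : quotCenterAut L (MulAut.conjNormal x) = 1) : x ∈ centralizer (L : Set D) := by
  have h := aut_eq_one_of_quot hL h2 hx
  refine mem_centralizer_iff.2 fun l hl => ?_
  have h' := congrArg Subtype.val (DFunLike.congr_fun h ⟨l, hl⟩)
  rw [MulAut.conjNormal_apply, MulAut.one_apply] at h'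
  exact (mul_inv_eq_iff_eq_mul.1 h').symm

theorem no_index_two_of_surj {A : Type u} {B : Type v} [Group A] [Group B] {f : A →* B}
    (hf : Function.Surjective f) (h : ∀ H : Subgroup A, H.index ≠ 2) (H : Subgroup B) : H.index ≠ 2 :=
  fun hH => h (H.comap f) (by rw [index_comap_of_surjective _ hf, hH])

theorem no_index_two_of_perfect {A : Type u} [Group A] (h : commutator A = ⊤) (H : Subgroup A) :
    H.index ≠ 2 := by
  intro hH
  haveI := normal_of_index_eq_two hH
  haveI : Fact (Nat.Prime 2) := ⟨Nat.prime_two⟩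
  haveI : IsCyclic (A ⧸ H) := isCyclic_of_prime_card (p := 2) (by rw [← index_eq_card, hH])
  have hle : commutator A ≤ H := by
    rw [_root_.commutator_def, Subgroup.commutator_le]
    intro a _ b _
    refine (QuotientGroup.eq_one_iff _).1 ?_
    show QuotientGroup.mk' H ⁅a, b⁆ = 1
    rw [map_commutatorElement, commutatorElement_eq_one_iff_mul_comm]
    exact IsMulCommutative.is_comm.comm _ _
  rw [h, top_le_iff] at hle
  rw [hle, index_top] at hH
  norm_num at hH

/-- An automorphism centralizing the inner ones is trivial. -/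
theorem eq_one_of_commute_inner {P : Type u} [Group P] (hP : center P = ⊥) {φ : MulAut P}
    (h : ∀ p : P, φ * MulAut.conj p = MulAut.conj p * φ) : φ = 1 := by
  ext p
  have h1 : ∀ x : P, φ p * x * (φ p)⁻¹ = p * x * p⁻¹ := fun x => by
    have := DFunLike.congr_fun (h p) (φ.symm x)
    simpa [MulAut.mul_apply] using this
  have h2 : p⁻¹ * φ p ∈ center P := mem_center_iff.2 fun x => by
    calc x * (p⁻¹ * φ p) = p⁻¹ * (p * x * p⁻¹) * φ p := by group
      _ = p⁻¹ * (φ p * x * (φ p)⁻¹) * φ p := by rw [h1]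
      _ = p⁻¹ * φ p * x := by group
  rw [hP, mem_bot] at h2
  exact (inv_mul_eq_one.1 h2).symm

section PSL

variable {F : Type} [Field F] [Fintype F]

/-- The outer automorphism group of `PSL₂` is abelian. -/
theorem out_psl_commutator :
    commutator (MulAut (Matrix.ProjectiveSpecialLinearGroup (Fin 2) F)) ≤
      Cfsg.Inn (Matrix.ProjectiveSpecialLinearGroup (Fin 2) F) := by
  obtain ⟨φ, -, -, hcard⟩ := AutPSL.inndiag_mod_inn le_rfl (AutPSL.fieldData (F := F))
    AutPSL.fieldData_surjective AutPSL.ker_fieldData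
  obtain ⟨p, hp⟩ := CharP.exists F
  obtain ⟨k, hpp, hk⟩ := FiniteField.card F p
  haveI := Fact.mk hpp
  obtain ⟨eA⟩ := AutPSL.nonempty_ringAut_equiv (p := p) k.2 hk
  haveI : IsCyclic (RingAut F) := isCyclic_of_surjective eA.symm.toMonoidHom eA.symm.surjective
  have hc : φ.ker ≤ center (Cfsg.Out (Matrix.ProjectiveSpecialLinearGroup (Fin 2) F)) := by
    have hle : Nat.card φ.ker ≤ 2 := hcard.trans_le (Nat.gcd_le_left _ two_pos)
    intro c hc
    refine mem_center_iff.2 fun g => ?_
    have hm : g * c * g⁻¹ ∈ φ.ker := (inferInstance : φ.ker.Normal).conj_mem c hc g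
    by_cases hc1 : c = 1
    · simp [hc1]
    have heq : g * c * g⁻¹ = c := by
      by_contra hne
      have hg1 : g * c * g⁻¹ ≠ 1 := fun h => hc1 (by
        rw [mul_inv_eq_one] at h; exact mul_eq_left.1 h)
      have h3 : ({⟨1, one_mem _⟩, ⟨c, hc⟩, ⟨_, hm⟩} : Set φ.ker).ncard = 3 :=
        Set.ncard_eq_three.2 ⟨_, _, _, by simp [Subtype.ext_iff, Ne.symm hc1],
          by simp [Subtype.ext_iff, Ne.symm hg1], by simp [Subtype.ext_iff, Ne.symm hne], rfl⟩
      have := Set.ncard_le_card ({⟨1, one_mem _⟩, ⟨c, hc⟩, ⟨_, hm⟩} : Set φ.ker)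
      omega
    exact mul_inv_eq_iff_eq_mul.1 heq
  rw [_root_.commutator_def, Subgroup.commutator_le]
  intro a _ b _
  refine (QuotientGroup.eq_one_iff _).1 ?_
  show QuotientGroup.mk' _ ⁅a, b⁆ = 1
  rw [map_commutatorElement, commutatorElement_eq_one_iff_mul_comm]
  exact (φ.isMulCommutative_of_isCyclic_of_ker_le_center hc).is_comm.comm _ _

theorem out_psl_card_three (hF : Fintype.card F = 3) :
    Nat.card (Cfsg.Out (Matrix.ProjectiveSpecialLinearGroup (Fin 2) F)) = 2 := by
  obtain ⟨φ, hφ, -, hcard⟩ := AutPSL.inndiag_mod_inn le_rfl (AutPSL.fieldData (F := F))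
    AutPSL.fieldData_surjective AutPSL.ker_fieldData
  haveI : Fact (Nat.Prime 3) := ⟨Nat.prime_three⟩
  obtain ⟨eA⟩ := AutPSL.nonempty_ringAut_equiv (F := F) (p := 3) le_rfl (by rw [hF]; norm_num)
  rw [AutPSL.card_eq_card_mul_ker φ hφ, hcard, Nat.card_congr eA.toEquiv,
    Nat.card_congr Multiplicative.toAdd, Nat.card_zmod, Nat.card_eq_fintype_card (α := F), hF]
  norm_num

end PSL

variable {D : Type u} [Group D] [Finite D]

/-- The common hypotheses: a normal subgroup `N` with quaternion Sylow 2-subgroup `N ⊓ S`. -/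
structure QDSetup (S : Sylow 2 D) (N : Subgroup D) (m : ℕ) : Prop where
  qd : Cfsg.IsQuasiDihedral (S : Subgroup D) ∨ Cfsg.IsWreathed (S : Subgroup D)
  hm : 1 ≤ m
  noTwo : ∀ H : Subgroup N, H.index ≠ 2
  quat : Nonempty (N.subgroupOf (S : Subgroup D) ≃* QuaternionGroup (2 ^ m))
  sup : N ⊔ (S : Subgroup D) = ⊤
  centre : Nat.card (center N) = 2

namespace QDSetup

variable {S : Sylow 2 D} {N : Subgroup D} [N.Normal] {m : ℕ} (h : QDSetup S N m)
include h

theorem centralizes {s : (S : Subgroup D)} (hs : (s : D) ∈ centralizer (N : Set D)) :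
    s ∈ centralizer ((N.subgroupOf (S : Subgroup D)) : Set (S : Subgroup D)) :=
  mem_centralizer_iff.2 fun q hq => Subtype.ext (mem_centralizer_iff.1 hs q hq)

theorem commutator_le : commutator D ≤ N := by
  obtain ⟨e⟩ := h.quat
  have hQ := quaternion_commutator_le h.qd e h.hm
  have hsurj : ∀ a : D, ∃ s : (S : Subgroup D), QuotientGroup.mk' N (s : D) = QuotientGroup.mk' N a := fun a => by
    have hm : QuotientGroup.mk' N a ∈ (S : Subgroup D).map (QuotientGroup.mk' N) := by
      have h1 : (⊤ : Subgroup D).map (QuotientGroup.mk' N) ≤ (S : Subgroup D).map (QuotientGroup.mk' N) := by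
        rw [← h.sup, Subgroup.map_sup, QuotientGroup.map_mk'_self, bot_sup_eq]
      exact h1 (mem_map_of_mem _ (mem_top a))
    obtain ⟨s, hs, he⟩ := hm
    exact ⟨⟨s, hs⟩, he⟩
  rw [_root_.commutator_def, Subgroup.commutator_le]
  intro a _ b _
  obtain ⟨s, hs⟩ := hsurj a
  obtain ⟨t, ht⟩ := hsurj b
  refine (QuotientGroup.eq_one_iff _).1 ?_
  show QuotientGroup.mk' N ⁅a, b⁆ = 1
  rw [map_commutatorElement, ← hs, ← ht, ← map_commutatorElement]
  refine (QuotientGroup.eq_one_iff _).2 ?_
  have h2 : ⁅s, t⁆ ∈ N.subgroupOf (S : Subgroup D) :=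
    hQ (Subgroup.commutator_mem_commutator (mem_top s) (mem_top t))
  exact h2

theorem no_A7 (hm2 : m = 2) (eX : N ⧸ center N ≃* alternatingGroup (Fin 7)) : False := by
  classical
  obtain ⟨e⟩ := h.quat
  subst hm2
  obtain ⟨x, hx⟩ := quaternion_fourth_power h.qd e
  apply hx
  let c : Equiv.Perm (Fin 7) →* MulAut (alternatingGroup (Fin 7)) := MulAut.conjNormal
  obtain ⟨σ, hσ⟩ := AutAlt.exists_conj (by simp) (by simp) (show (0 : Fin 7) ≠ 1 by decide)
    (MulAut.congr eX (quotCenterAut N (MulAut.conjNormal (x : D))))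
  refine h.centralizes (centralizer_of_quot h.noTwo h.centre ?_)
  rw [Subgroup.coe_pow, map_pow, map_pow]
  set φ := quotCenterAut N (MulAut.conjNormal (x : D))
  obtain ⟨k, hk⟩ := IsPGroup.iff_orderOf.1 S.2 x
  have hd : orderOf φ ∣ 2 ^ k := by
    rw [← hk, ← Subgroup.orderOf_coe]
    exact orderOf_map_dvd ((quotCenterAut N).comp MulAut.conjNormal) (x : D)
  obtain ⟨j, -, hj⟩ := (Nat.dvd_prime_pow Nat.prime_two).1 hd
  have hφσ : orderOf φ ∣ orderOf σ := by
    rw [← (MulAut.congr eX).orderOf_eq, ← hσ]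
    exact orderOf_map_dvd c σ
  by_contra hne
  have hj3 : 3 ≤ j := by
    by_contra hlt
    exact hne (orderOf_dvd_iff_pow_eq_one.1 (hj ▸ pow_dvd_pow 2 (show j ≤ 2 by omega)))
  have h8 : 8 ∣ orderOf σ := ((pow_dvd_pow 2 hj3).trans (hj ▸ dvd_refl _)).trans hφσ
  exact perm_seven_no_eight (σ ^ (orderOf σ / 8)) (orderOf_pow_orderOf_div (orderOf_pos σ).ne' h8)

theorem invol_unique {u z : N} (hu : orderOf u = 2) (hz : orderOf z = 2) (hzc : z ∈ center N) : u = z := by
  haveI : Fact (Nat.Prime 2) := ⟨Nat.prime_two⟩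
  obtain ⟨e⟩ := h.quat
  obtain ⟨-, w, -, huniq, -⟩ := InvChar.quaternion_facts m h.hm
  have hp : IsPGroup 2 (zpowers (u : D)) := IsPGroup.of_card (n := 1) (by
    rw [Nat.card_zpowers, Subgroup.orderOf_coe, hu, pow_one])
  obtain ⟨T, hT⟩ := hp.exists_le_sylow
  obtain ⟨g, hg⟩ := MulAction.exists_smul_eq D T S
  have hu' : g * u * g⁻¹ ∈ (S : Subgroup D) := by
    rw [← hg]
    show g * u * g⁻¹ ∈ (T : Subgroup D).map (MulAut.conj g).toMonoidHom
    exact ⟨u, hT (mem_zpowers _), rfl⟩
  have hz' : (z : D) ∈ (S : Subgroup D) := by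
    have hzp : IsPGroup 2 ((center N).map N.subtype) := IsPGroup.of_card (n := 1) (by
      rw [card_map_of_injective N.subtype_injective, h.centre, pow_one])
    obtain ⟨T', hT'⟩ := hzp.exists_le_sylow
    obtain ⟨g', hg'⟩ := MulAction.exists_smul_eq D T' S
    have h1 : g' * (g'⁻¹ * z * g') * g'⁻¹ ∈ (S : Subgroup D) := by
      rw [← hg']
      refine ⟨g'⁻¹ * z * g', hT' ?_, rfl⟩
      simpa using (inferInstance : ((center N).map N.subtype).Normal).conj_mem _
        (mem_map_of_mem N.subtype hzc) g'⁻¹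
    rwa [show g' * (g'⁻¹ * z * g') * g'⁻¹ = (z : D) by group] at h1
  have hkey : ∀ v : D, (hv : v ∈ (S : Subgroup D)) → v ∈ N → orderOf v = 2 → v = (z : D) := by
    intro v hv hvN hvo
    have h1 : e ⟨⟨v, hv⟩, hvN⟩ = w := huniq _ (by rwa [e.orderOf_eq, ← Subgroup.orderOf_coe, ← Subgroup.orderOf_coe])
    have h2 : e ⟨⟨z, hz'⟩, z.2⟩ = w := huniq _ (by
      rw [e.orderOf_eq, ← Subgroup.orderOf_coe, ← Subgroup.orderOf_coe]
      exact (Subgroup.orderOf_coe z).trans hz)
    exact congrArg (fun q : N.subgroupOf (S : Subgroup D) => ((q : (S : Subgroup D)) : D))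
      (e.injective (h1.trans h2.symm))
  have h1 := hkey _ hu' (‹N.Normal›.conj_mem _ u.2 g) (by
    rw [show g * (u : D) * g⁻¹ = MulAut.conj g (u : D) from rfl, MulEquiv.orderOf_eq, Subgroup.orderOf_coe, hu])
  refine Subtype.ext ?_
  have hzg : g⁻¹ * z * g = (z : D) := by
    obtain ⟨w', hw', he⟩ :=
      (inferInstance : ((center N).map N.subtype).Normal).conj_mem _ (mem_map_of_mem N.subtype hzc) g⁻¹
    rw [inv_inv] at he
    have hw1 : w' ≠ 1 := fun h' => Invol.ne_one hz (Subtype.ext (by
      rw [h', map_one] at he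
      change (1 : D) = g⁻¹ * (z : D) * g at he
      show (z : D) = 1
      rw [show (z : D) = g * (g⁻¹ * z * g) * g⁻¹ by group, ← he, mul_one, mul_inv_cancel]))
    obtain ⟨c, hc, huq⟩ := (Nat.card_eq_two_iff' (1 : center N)).1 h.centre
    have e1 := huq ⟨z, hzc⟩ (fun h' => Invol.ne_one hz (congrArg Subtype.val h'))
    have e2 := huq ⟨w', hw'⟩ (fun h' => hw1 (congrArg Subtype.val h'))
    have e3 : w' = z := congrArg Subtype.val (e2.trans e1.symm)
    rw [e3] at he
    exact he.symm
  calc (u : D) = g⁻¹ * (g * u * g⁻¹) * g := by group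
    _ = (z : D) := by rw [h1, hzg]

theorem exists_center_invol : ∃ z : N, z ∈ center N ∧ orderOf z = 2 := by
  haveI : Fact (Nat.Prime 2) := ⟨Nat.prime_two⟩
  obtain ⟨⟨z, hz⟩, hzo⟩ := exists_prime_orderOf_dvd_card' (G := center N) 2 (by rw [h.centre])
  exact ⟨z, hz, by rwa [Subgroup.orderOf_mk] at hzo⟩

/-- The case `q > 3`. -/
theorem large {F : Type} [Field F] [Fintype F] (hodd : Odd (Fintype.card F)) (h3 : 3 < Fintype.card F)
    (K : Subgroup (MulAut (Matrix.ProjectiveSpecialLinearGroup (Fin 2) F)))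
    (hK : Cfsg.Inn (Matrix.ProjectiveSpecialLinearGroup (Fin 2) F) ≤ K) (eX : N ⧸ center N ≃* K) :
    Nonempty (commutator D ≃* Matrix.SpecialLinearGroup (Fin 2) F) := by
  classical
  haveI hsimple : IsSimpleGroup (Matrix.ProjectiveSpecialLinearGroup (Fin 2) F) :=
    CfsgLib.Linear.isSimpleGroup_PSL (Or.inr (CfsgLib.Linear.Small.exists_sq_ne_one (F := F) (by omega)))
  set P := Matrix.ProjectiveSpecialLinearGroup (Fin 2) F with hPdef
  have hsl : commutator (Matrix.SpecialLinearGroup (Fin 2) F) = ⊤ :=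
    CfsgLib.Linear.commutator_SL_eq_top (Or.inr (CfsgLib.Linear.Small.exists_sq_ne_one (F := F) (by omega)))
  let π : Matrix.SpecialLinearGroup (Fin 2) F →* P := QuotientGroup.mk' _
  have hπ : Function.Surjective π := QuotientGroup.mk'_surjective _
  have hP : commutator P = ⊤ := by
    rw [_root_.commutator_def, ← map_top_of_surjective π hπ, ← map_commutator, ← _root_.commutator_def, hsl]
  have hPc : center P = ⊥ := by
    refine ((inferInstance : (center P).Normal).eq_bot_or_eq_top).resolve_right fun htop => ?_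
    haveI : Nontrivial P := hsimple.toNontrivial
    obtain ⟨p, hp⟩ := exists_ne (1 : P)
    have hle : commutator P ≤ ⊥ := by
      rw [_root_.commutator_def, Subgroup.commutator_le]
      intro a _ b _
      rw [mem_bot, commutatorElement_eq_one_iff_mul_comm]
      exact (mem_center_iff.1 (htop ▸ mem_top a) b).symm
    rw [hP] at hle
    exact hp (mem_bot.1 (hle (mem_top p)))
  let σ : N →* MulAut P := K.subtype.comp (eX.toMonoidHom.comp (QuotientGroup.mk' (center N)))
  have hσr : σ.range = K := by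
    refine le_antisymm ?_ fun k hk => ?_
    · rintro _ ⟨n, rfl⟩; exact (eX _).2
    · obtain ⟨n, hn⟩ := QuotientGroup.mk'_surjective (center N) (eX.symm ⟨k, hk⟩)
      exact ⟨n, by show ((eX (QuotientGroup.mk' (center N) n) : K) : MulAut P) = k; rw [hn, eX.apply_symm_apply]⟩
  have hσk : ∀ n : N, σ n = 1 ↔ n ∈ center N := fun n => by
    refine Iff.trans ⟨fun h' => ?_, fun h' => ?_⟩ (QuotientGroup.eq_one_iff n)
    · exact eX.injective (by rw [map_one]; exact Subtype.ext h')
    · show ((eX (n : N ⧸ center N) : K) : MulAut P) = 1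
      rw [h', map_one]; rfl
  set L := commutator N
  have hLI : L.map σ = Cfsg.Inn P := by
    show (commutator N).map σ = _
    rw [_root_.commutator_def, map_commutator, ← MonoidHom.range_eq_map, hσr]
    refine le_antisymm ((Subgroup.commutator_mono le_top le_top).trans out_psl_commutator) ?_
    calc Cfsg.Inn P = (commutator P).map MulAut.conj := by rw [hP, ← MonoidHom.range_eq_map]
      _ = ⁅Cfsg.Inn P, Cfsg.Inn P⁆ := by rw [_root_.commutator_def, map_commutator, ← MonoidHom.range_eq_map]
      _ ≤ ⁅K, K⁆ := Subgroup.commutator_mono hK hK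
  obtain ⟨z, hzc, hzo⟩ := h.exists_center_invol
  have hzZ : ∀ n ∈ center N, n = 1 ∨ n = z := fun n hn => by
    obtain ⟨c, hc, huq⟩ := (Nat.card_eq_two_iff' (1 : center N)).1 h.centre
    by_cases h1 : n = 1
    · exact Or.inl h1
    · exact Or.inr (congrArg Subtype.val ((huq ⟨n, hn⟩ fun e => h1 (congrArg Subtype.val e)).trans
        (huq ⟨z, hzc⟩ fun e => Invol.ne_one hzo (congrArg Subtype.val e)).symm))
  have hzmem : ∀ M : Subgroup N, M.map σ = Cfsg.Inn P → z ∈ M := fun M hM => by
    haveI : Fact (Nat.Prime 2) := ⟨Nat.prime_two⟩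
    have he : Even (Nat.card P) := by
      let w : Matrix.SpecialLinearGroup (Fin 2) F := ⟨!![0, 1; -1, 0], by simp [Matrix.det_fin_two]⟩
      have hw2 : π w * π w = 1 := by
        rw [← map_mul]
        refine (QuotientGroup.eq_one_iff _).2 (mem_center_iff.2 fun g => Subtype.ext ?_)
        show (g : Matrix (Fin 2) (Fin 2) F) * (!![0, 1; -1, 0] * !![0, 1; -1, 0]) =
          !![0, 1; -1, 0] * !![0, 1; -1, 0] * (g : Matrix (Fin 2) (Fin 2) F)
        ext i j
        fin_cases i <;> fin_cases j <;> simp [Matrix.mul_apply, Fin.sum_univ_two]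
      have hw1 : π w ≠ 1 := fun h1 => by
        have h2 := mem_center_iff.1 ((QuotientGroup.eq_one_iff _).1 h1)
          (⟨!![1, 1; 0, 1], by simp [Matrix.det_fin_two]⟩ : Matrix.SpecialLinearGroup (Fin 2) F)
        have h3 : (!![1, 1; 0, 1] * !![0, 1; -1, 0] : Matrix (Fin 2) (Fin 2) F) 0 0 =
            (!![0, 1; -1, 0] * !![1, 1; 0, 1] : Matrix (Fin 2) (Fin 2) F) 0 0 :=
          congrArg (fun g : Matrix.SpecialLinearGroup (Fin 2) F => (g : Matrix (Fin 2) (Fin 2) F) 0 0) h2
        simp [Matrix.mul_apply, Fin.sum_univ_two] at h3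
      exact even_iff_two_dvd.2 (Invol.orderOf_eq_two hw2 hw1 ▸ orderOf_dvd_natCard _)
    have hd : 2 ∣ Nat.card M := by
      refine dvd_trans ?_ (card_map_dvd M σ)
      rw [hM]
      refine (even_iff_two_dvd.1 he).trans (dvd_of_eq ?_)
      refine Nat.card_congr (MonoidHom.ofInjective ?_).toEquiv
      rw [← MonoidHom.ker_eq_bot_iff, eq_bot_iff, ← hPc]
      intro p hp
      refine mem_center_iff.2 fun x => ?_
      have := DFunLike.congr_fun (MonoidHom.mem_ker.1 hp) x
      rw [MulAut.conj_apply, MulAut.one_apply, mul_inv_eq_iff_eq_mul] at this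
      exact this.symm
    obtain ⟨⟨v, hv⟩, hvo⟩ := exists_prime_orderOf_dvd_card' (G := M) 2 hd
    rw [Subgroup.orderOf_mk] at hvo
    exact h.invol_unique hvo hzo hzc ▸ hv
  have hL' : ⁅L, L⁆ = L := by
    refine le_antisymm (commutator_le_self _) fun n hn => ?_
    have h1 : (⁅L, L⁆).map σ = Cfsg.Inn P := by
      rw [map_commutator, hLI]
      refine le_antisymm (commutator_le_self _) ?_
      calc Cfsg.Inn P = (commutator P).map MulAut.conj := by rw [hP, ← MonoidHom.range_eq_map]
        _ ≤ _ := by rw [_root_.commutator_def, map_commutator, ← MonoidHom.range_eq_map]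
    obtain ⟨n', hn', he⟩ := h1.ge (hLI.le (mem_map_of_mem σ hn))
    have hd : n'⁻¹ * n ∈ center N := (hσk _).1 (by rw [map_mul, map_inv, he, inv_mul_cancel])
    have hd' : n'⁻¹ * n ∈ ⁅L, L⁆ := by
      rcases hzZ _ hd with e | e <;> rw [e]
      exacts [one_mem _, hzmem _ h1]
    have := mul_mem hn' hd'
    rwa [mul_inv_cancel_left] at this
  have hLp : commutator L = ⊤ := by
    apply map_injective (f := L.subtype) L.subtype_injective
    rw [map_subtype_commutator, hL', ← MonoidHom.range_eq_map, range_subtype]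
  let ιP : P ≃* Cfsg.Inn P := MonoidHom.ofInjective (by
    rw [injective_iff_map_eq_one]
    intro p hp
    have hpz : p ∈ center P := mem_center_iff.2 fun x => by
      have := DFunLike.congr_fun hp x
      rw [MulAut.conj_apply, MulAut.one_apply, mul_inv_eq_iff_eq_mul] at this
      exact this.symm
    rwa [hPc, mem_bot] at hpz)
  let σL : L →* P := ιP.symm.toMonoidHom.comp
    ((σ.comp L.subtype).codRestrict (Cfsg.Inn P) fun l => hLI.le (mem_map_of_mem σ l.2))
  have hσL : Function.Surjective σL := by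
    refine ιP.symm.surjective.comp ?_
    rintro ⟨i, hi⟩
    obtain ⟨n, hn, rfl⟩ := hLI.ge hi
    exact ⟨⟨n, hn⟩, rfl⟩
  have hk : ∀ l : L, σL l = 1 ↔ (l : N) ∈ center N := fun l => by
    rw [← hσk]
    show ιP.symm _ = 1 ↔ _
    rw [MulEquiv.map_eq_one_iff, Subtype.ext_iff]
    rfl
  obtain ⟨eL⟩ := cover_sl hodd h3 hLp σL hσL
    (fun l hl => mem_center_iff.2 fun l' => Subtype.ext (mem_center_iff.1 ((hk l).1 hl) l'))
    (by
      refine Eq.trans (Nat.card_congr ?_) h.centre
      exact
        { toFun := fun l => ⟨l.1.1, (hk l.1).1 l.2⟩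
          invFun := fun c => ⟨⟨c.1, by
            rcases hzZ _ c.2 with e | e <;> rw [e]
            exacts [one_mem _, hzmem _ hLI]⟩, (hk _).2 c.2⟩
          left_inv := fun l => rfl
          right_inv := fun c => rfl })
  set LD := L.map N.subtype with hLD
  haveI : LD.Normal := inferInstance
  let eD : LD ≃* Matrix.SpecialLinearGroup (Fin 2) F :=
    (equivMapOfInjective L N.subtype N.subtype_injective).symm.trans eL
  have hLDp : ∀ H : Subgroup LD, H.index ≠ 2 :=
    no_index_two_of_surj (f := eD.symm.toMonoidHom) eD.symm.surjective (no_index_two_of_perfect hsl)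
  have hLDc : Nat.card (center LD) = 2 := by
    rw [Nat.card_congr (Subgroup.centerCongr eD).toEquiv, CfsgLib.Linear.card_center_SL, Fintype.card_fin,
      Nat.card_eq_fintype_card (α := F)]
    refine Nat.gcd_eq_left ?_
    obtain ⟨j, hj⟩ := hodd
    omega
  let e' : LD ⧸ center LD ≃* P := QuotientGroup.congr (center LD) (center _) eD (by
    ext y
    rw [mem_map, mem_center_iff]
    constructor
    · rintro ⟨l, hl, rfl⟩ g
      obtain ⟨g', rfl⟩ := eD.surjective g
      show eD g' * eD l = eD l * eD g'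
      rw [← map_mul, ← map_mul, mem_center_iff.1 hl g']
    · intro hy
      refine ⟨eD.symm y, mem_center_iff.2 fun g => eD.injective ?_, eD.apply_symm_apply y⟩
      rw [map_mul, map_mul, eD.apply_symm_apply, hy])
  let ψ : D →* MulAut P := (MulAut.congr e').toMonoidHom.comp ((quotCenterAut LD).comp MulAut.conjNormal)
  have hψl : ∀ p : P, ∃ l ∈ LD, ψ l = MulAut.conj p := fun p => by
    obtain ⟨q, rfl⟩ := e'.surjective p
    obtain ⟨l, rfl⟩ := QuotientGroup.mk_surjective q
    refine ⟨l, l.2, MulEquiv.ext fun x => ?_⟩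
    obtain ⟨y, rfl⟩ := e'.surjective x
    obtain ⟨y, rfl⟩ := QuotientGroup.mk_surjective y
    show e' (quotCenterAut LD (MulAut.conjNormal (l : D)) (e'.symm (e' y))) = e' l * e' y * (e' l)⁻¹
    rw [e'.symm_apply_apply, quotCenterAut_apply, ← map_inv, ← map_mul, ← map_mul]
    exact congrArg e' (congrArg QuotientGroup.mk (Subtype.ext (MulAut.conjNormal_apply _ _)))
  have hup : LD ≤ commutator D := by
    rw [hLD, map_subtype_commutator]
    exact Subgroup.commutator_mono le_top le_top
  have hdown : commutator D ≤ LD := by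
    intro y hy
    obtain ⟨p, hp⟩ : ψ y ∈ Cfsg.Inn P := out_psl_commutator
      ((map_commutator (⊤ : Subgroup D) ⊤ ψ).le.trans (Subgroup.commutator_mono le_top le_top)
        (mem_map_of_mem ψ hy))
    obtain ⟨l, hl, hle⟩ := hψl p
    have hu : ψ (y * l⁻¹) = 1 := by rw [map_mul, map_inv, hle, ← hp, mul_inv_cancel]
    have hucen : y * l⁻¹ ∈ centralizer (LD : Set D) := centralizer_of_quot hLDp hLDc
      ((MulAut.congr e').injective (hu.trans (map_one _).symm))
    have hlN : l ∈ N := map_subtype_le _ hl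
    set w : N := ⟨y * l⁻¹, mul_mem (h.commutator_le hy) (inv_mem hlN)⟩
    have hσw : σ w = 1 := eq_one_of_commute_inner hPc fun q => by
      obtain ⟨n, hn, he⟩ := hLI.ge (⟨q, rfl⟩ : MulAut.conj q ∈ Cfsg.Inn P)
      rw [← he, ← map_mul, ← map_mul]
      exact congrArg σ (Subtype.ext (mem_centralizer_iff.1 hucen _ (mem_map_of_mem N.subtype hn)).symm)
    have hwL : w ∈ L := by
      rcases hzZ _ ((hσk w).1 hσw) with e | e <;> rw [e]
      exacts [one_mem _, hzmem _ hLI]
    have := mul_mem (mem_map_of_mem N.subtype hwL) hl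
    rwa [show N.subtype w * l = y from inv_mul_cancel_right y l] at this
  exact ⟨(MulEquiv.subgroupCongr (le_antisymm hdown hup)).trans eD⟩

end QDSetup

theorem a4_sq : ∀ a : alternatingGroup (Fin 4), a * a = 1 →
    ∃ c d : alternatingGroup (Fin 4), a = c * d * c⁻¹ * d⁻¹ := by
  decide +kernel

theorem a4_top : ∀ a b : alternatingGroup (Fin 4), a * a ≠ 1 →
    b * b = 1 ∨ (b * a⁻¹) * (b * a⁻¹) = 1 ∨ (b * (a * a)⁻¹) * (b * (a * a)⁻¹) = 1 := by
  decide +kernel

theorem s4_even : ∀ π : Equiv.Perm (Fin 4),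
    (∀ a : Equiv.Perm (Fin 4), Equiv.Perm.sign a = 1 →
      (π * a * π⁻¹ * a⁻¹) * (π * a * π⁻¹ * a⁻¹) = 1) → Equiv.Perm.sign π = 1 := by
  decide +kernel

theorem a4_three : ∀ a : alternatingGroup (Fin 4), a * a = 1 ∨ a * a * a = 1 := by decide +kernel

theorem a4_comm : ∀ a b : alternatingGroup (Fin 4), a ≠ 1 → a * a * a = 1 → b ≠ 1 → b * b = 1 → a * b ≠ b * a := by
  decide +kernel

theorem a4_card : Nat.card {a : alternatingGroup (Fin 4) // a * a = 1} = 4 := by
  rw [Nat.card_eq_fintype_card]; decide +kernel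

/-- The Klein four-group in `A₄`. -/
def a4Four : Subgroup (alternatingGroup (Fin 4)) where
  carrier := {a | a * a = 1}
  one_mem' := one_mul 1
  mul_mem' {a b} := by
    show a * a = 1 → b * b = 1 → a * b * (a * b) = 1
    revert a b
    decide +kernel
  inv_mem' {a} := by
    show a * a = 1 → a⁻¹ * a⁻¹ = 1
    intro ha
    rw [← mul_inv_rev, ha, inv_one]

instance a4Four_normal : a4Four.Normal := ⟨fun n (hn : n * n = 1) g => by
  show g * n * g⁻¹ * (g * n * g⁻¹) = 1
  rw [conj_mul, hn, mul_one, mul_inv_cancel]⟩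

theorem a4_center_free : ∀ a : alternatingGroup (Fin 4), (∀ b, a * b = b * a) → a = 1 := by decide +kernel

namespace QDSetup

variable {S : Sylow 2 D} {N : Subgroup D} [N.Normal] {m : ℕ} (h : QDSetup S N m)
include h

/-- The case `q = 3`. -/
theorem small (eX : N ⧸ center N ≃* alternatingGroup (Fin 4)) :
    Nonempty (commutator D ≃* Matrix.SpecialLinearGroup (Fin 2) (ZMod 3)) := by
  classical
  haveI : Fact (Nat.Prime 2) := ⟨Nat.prime_two⟩
  obtain ⟨e⟩ := h.quat
  let σ : N →* alternatingGroup (Fin 4) := eX.toMonoidHom.comp (QuotientGroup.mk' (center N))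
  have hσ : Function.Surjective σ := eX.surjective.comp (QuotientGroup.mk'_surjective _)
  have hσk : σ.ker = center N := by ext; simp [σ]
  have hA : Nat.card (alternatingGroup (Fin 4)) = 12 := by
    rw [Nat.card_eq_fintype_card, card_alternatingGroup, Fintype.card_fin]; rfl
  have hN : Nat.card N = 24 := by
    rw [← σ.ker.card_mul_index, index_ker, MonoidHom.range_eq_top.2 hσ, card_top, hσk, h.centre, hA]
  set Q0 := a4Four.comap σ
  have hQ0 : Nat.card Q0 = 8 := by
    have h1 := Q0.card_mul_index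
    rw [index_comap_of_surjective _ hσ, hN] at h1
    have h2 := a4Four.card_mul_index
    rw [show Nat.card a4Four = 4 from a4_card, hA] at h2
    rw [show a4Four.index = 3 by omega] at h1
    omega
  -- it is the trace of `S`
  have hQ0S : Q0.map N.subtype ≤ (S : Subgroup D) := by
    have hp : IsPGroup 2 (Q0.map N.subtype) :=
      IsPGroup.of_card (n := 3) (by rw [card_map_of_injective N.subtype_injective, hQ0]; norm_num)
    haveI : (Q0.map N.subtype).Normal := by
      haveI : Q0.Normal := Normal.comap inferInstance σ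
      refine ⟨?_⟩
      rintro _ ⟨n, hn, rfl⟩ g
      refine ⟨MulAut.conjNormal g n, ?_, MulAut.conjNormal_apply g n⟩
      show σ (MulAut.conjNormal g n) * σ (MulAut.conjNormal g n) = 1
      rw [← map_mul, ← map_mul, ← MonoidHom.mem_ker, hσk]
      have h1 : n * n ∈ center N := hσk ▸ MonoidHom.mem_ker.2 ((map_mul σ n n).trans hn)
      rw [← (characteristic_iff_map_eq.1 (inferInstance : (center N).Characteristic) (MulAut.conjNormal g))]
      exact mem_map_of_mem _ h1
    exact IsPGroup.le_sylow_of_normal hp S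
  have hSN : N.subgroupOf (S : Subgroup D) = (Q0.map N.subtype).subgroupOf (S : Subgroup D) := by
    refine (eq_of_le_of_card_ge
      (show (Q0.map N.subtype).subgroupOf (S : Subgroup D) ≤ N.subgroupOf (S : Subgroup D) from
        fun s hs => map_subtype_le Q0 hs) ?_).symm
    rw [Nat.card_congr (subgroupOfEquivOfLe hQ0S).toEquiv, card_map_of_injective N.subtype_injective, hQ0]
    have hd : Nat.card (N.subgroupOf (S : Subgroup D)) ∣ 24 := by
      rw [← hN]
      let f : N.subgroupOf (S : Subgroup D) →* N :=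
        MonoidHom.mk' (fun q => ⟨(q : D), q.2⟩) fun _ _ => rfl
      exact card_dvd_of_injective f fun a b hab => Subtype.ext (Subtype.ext (congrArg Subtype.val hab :))
    obtain ⟨j, hj⟩ := IsPGroup.iff_card.1 (S.2.to_subgroup (N.subgroupOf (S : Subgroup D)))
    rw [hj] at hd ⊢
    have : j ≤ 3 := by
      by_contra hlt
      have := (pow_dvd_pow 2 (show 4 ≤ j by omega)).trans hd
      norm_num at this
    calc 2 ^ j ≤ 2 ^ 3 := Nat.pow_le_pow_right two_pos this
      _ = 8 := rfl
  have eQ : Q0 ≃* N.subgroupOf (S : Subgroup D) :=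
    ((equivMapOfInjective Q0 N.subtype N.subtype_injective).trans (subgroupOfEquivOfLe hQ0S).symm).trans
      (MulEquiv.subgroupCongr hSN.symm)
  have hm1 : m = 1 := by
    have h1 := Nat.card_congr (eQ.trans e).toEquiv
    haveI : NeZero (2 ^ m) := ⟨by positivity⟩
    rw [hQ0, Nat.card_eq_fintype_card (α := QuaternionGroup _), QuaternionGroup.card] at h1
    have h2 : 2 ^ m = 2 ^ 1 := by omega
    exact Nat.pow_right_injective le_rfl h2
  subst hm1
  -- `N` is `SL₂(3)`
  haveI : Fact (Nat.Prime 3) := ⟨Nat.prime_three⟩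
  obtain ⟨g, hg⟩ := exists_prime_orderOf_dvd_card' (G := N) 3 (by rw [hN]; norm_num)
  have hgC : g ∉ centralizer (Q0 : Set N) := by
    intro hc
    have hg3 : σ g * σ g * σ g = 1 := by
      rw [← map_mul, ← map_mul, ← pow_three', ← hg, pow_orderOf_eq_one, map_one]
    have hg1 : σ g ≠ 1 := fun h1 => by
      have hm : g ∈ σ.ker := h1
      rw [hσk] at hm
      have := Subgroup.orderOf_dvd_natCard _ hm
      rw [hg, h.centre] at this
      norm_num at this
    obtain ⟨b, hb, hb1⟩ : ∃ b : alternatingGroup (Fin 4), b * b = 1 ∧ b ≠ 1 := by decide +kernel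
    obtain ⟨q, rfl⟩ := hσ b
    refine a4_comm _ _ hg1 hg3 hb1 hb ?_
    rw [← map_mul, ← map_mul, mem_centralizer_iff.1 hc q hb]
  haveI : Q0.Normal := Normal.comap inferInstance σ
  obtain ⟨eS⟩ := Cfsg.Agent.S2879.sup_iso Q0 (eQ.trans e) g
    (by rw [normalizer_eq_top]; exact mem_top g) hg hgC
  have htop : Q0 ⊔ zpowers g = ⊤ := eq_top_of_card_eq _ (by
    rw [Nat.card_congr eS.toEquiv, CfsgLib.KnownB.card_SL23, hN])
  let eN : N ≃* Matrix.SpecialLinearGroup (Fin 2) (ZMod 3) :=
    (topEquiv.symm.trans (MulEquiv.subgroupCongr htop.symm)).trans eS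
  suffices hle : N ≤ commutator D by
    exact ⟨(MulEquiv.subgroupCongr (le_antisymm h.commutator_le hle)).trans eN⟩
  by_contra hle
  set M := (commutator D).subgroupOf N
  have hMne : M.map σ ≠ ⊤ := fun ht => by
    apply hle
    have h1 : M ⊔ center N = ⊤ := by
      rw [← hσk, ← comap_map_eq, ht, comap_top]
    haveI : M.Normal := inferInstance
    have h2 : M.index ∣ 2 := by
      rw [← relIndex_top_right, ← h1, sup_comm, relIndex_sup_right, ← h.centre]
      exact relIndex_dvd_card M (center N)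
    rcases (Nat.dvd_prime Nat.prime_two).1 h2 with h3 | h3
    · exact subgroupOf_eq_top.1 (index_eq_one.1 h3)
    · exact absurd h3 (h.noTwo M)
  have hsq : ∀ a ∈ M.map σ, a * a = 1 := fun a ha => by
    by_contra hne
    refine hMne (eq_top_iff.2 fun b _ => ?_)
    have hV : ∀ v : alternatingGroup (Fin 4), v * v = 1 → v ∈ M.map σ := fun v hv => by
      obtain ⟨c, d, rfl⟩ := a4_sq v hv
      obtain ⟨c, rfl⟩ := hσ c
      obtain ⟨d, rfl⟩ := hσ d
      rw [← commutatorElement_def, ← map_commutatorElement]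
      refine mem_map_of_mem σ ?_
      show N.subtype ⁅c, d⁆ ∈ commutator D
      rw [map_commutatorElement]
      exact Subgroup.commutator_mem_commutator (mem_top _) (mem_top _)
    rcases a4_top a b hne with h1 | h1 | h1
    · exact hV _ h1
    · simpa using mul_mem (hV _ h1) ha
    · rw [← inv_mul_cancel_right b (a * a)]
      exact mul_mem (hV _ h1) (mul_mem ha ha)
  apply quaternion_eight_sup_ne h.qd e
  rw [eq_top_iff]
  intro s _
  set φ : MulAut (alternatingGroup (Fin 4)) :=
    MulAut.congr eX (quotCenterAut N (MulAut.conjNormal (s : D))) with hφ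
  have hφσ : ∀ n : N, φ (σ n) = σ (MulAut.conjNormal (s : D) n) := fun n => by
    show eX (quotCenterAut N _ (eX.symm (eX (n : N ⧸ center N)))) = _
    rw [eX.symm_apply_apply]
    rfl
  obtain ⟨π, hπ⟩ := AutAlt.exists_conj (by simp) (by simp) (show (0 : Fin 4) ≠ 1 by decide) φ
  have heven : Equiv.Perm.sign π = 1 := s4_even π fun a ha => by
    obtain ⟨n, hn⟩ := hσ ⟨a, Equiv.Perm.mem_alternatingGroup.2 ha⟩
    have h1 := hsq _ (mem_map_of_mem σ (show MulAut.conjNormal (s : D) n * n⁻¹ ∈ M by
      show N.subtype (MulAut.conjNormal (s : D) n * n⁻¹) ∈ commutator D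
      rw [map_mul, map_inv, show N.subtype (MulAut.conjNormal (s : D) n) = (s : D) * n * (s : D)⁻¹ from
        MulAut.conjNormal_apply _ _]
      exact Subgroup.commutator_mem_commutator (mem_top (s : D)) (mem_top (n : D))))
    rw [map_mul, map_inv, ← hφσ, hn, ← hπ] at h1
    have h2 := congrArg (Subtype.val : alternatingGroup (Fin 4) → Equiv.Perm (Fin 4)) h1
    simpa [MulAut.conjNormal_apply] using h2
  set a : alternatingGroup (Fin 4) := ⟨π, Equiv.Perm.mem_alternatingGroup.2 heven⟩
  have hφa : φ = MulAut.conj a := by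
    rw [← hπ]
    exact MulEquiv.ext fun b => Subtype.ext (MulAut.conjNormal_apply π b)
  have hinj : Function.Injective (MulAut.conj : alternatingGroup (Fin 4) →* _) := by
    rw [injective_iff_map_eq_one]
    intro b hb
    refine a4_center_free b fun c => ?_
    have := DFunLike.congr_fun hb c
    rw [MulAut.conj_apply, MulAut.one_apply, mul_inv_eq_iff_eq_mul] at this
    exact this
  have ha2 : a * a = 1 := by
    obtain ⟨k, hk⟩ := IsPGroup.iff_orderOf.1 S.2 s
    have h1 : orderOf a ∣ 2 ^ k := by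
      rw [← orderOf_injective _ hinj a, ← hφa, hφ, MulEquiv.orderOf_eq, ← hk, ← Subgroup.orderOf_coe]
      exact orderOf_map_dvd ((quotCenterAut N).comp MulAut.conjNormal) (s : D)
    rcases a4_three a with h2 | h2
    · exact h2
    · have h3 : orderOf a ∣ 3 := orderOf_dvd_of_pow_eq_one (by rw [pow_three', h2])
      rw [orderOf_eq_one_iff.1 (Nat.eq_one_of_dvd_coprimes
        (((Nat.coprime_primes Nat.prime_two Nat.prime_three).2 (by norm_num)).pow_left k) h1 h3), one_mul]
  obtain ⟨n, hn⟩ := hσ a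
  have hnQ : n ∈ Q0 := by show σ n * σ n = 1; rw [hn]; exact ha2
  have hnS : (n : D) ∈ (S : Subgroup D) := hQ0S (mem_map_of_mem N.subtype hnQ)
  set q : (S : Subgroup D) := ⟨n, hnS⟩
  have hc : ((q⁻¹ * s : (S : Subgroup D)) : D) ∈ centralizer (N : Set D) := by
    refine centralizer_of_quot h.noTwo h.centre ?_
    apply (MulAut.congr eX).injective
    rw [map_one, Subgroup.coe_mul, Subgroup.coe_inv, map_mul, map_inv, map_mul, map_inv, map_mul, map_inv, ← hφ,
      hφa, inv_mul_eq_one]
    refine MulEquiv.ext fun b => ?_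
    obtain ⟨n', rfl⟩ := hσ b
    show eX (quotCenterAut N (MulAut.conjNormal (n : D)) (eX.symm (eX (n' : N ⧸ center N)))) = a * σ n' * a⁻¹
    rw [eX.symm_apply_apply, quotCenterAut_apply, ← hn, ← map_inv, ← map_mul, ← map_mul]
    exact congrArg σ (Subtype.ext (MulAut.conjNormal_apply _ _))
  have := mul_mem (mem_sup_left (T := centralizer ((N.subgroupOf (S : Subgroup D)) : Set (S : Subgroup D)))
    (show q ∈ N.subgroupOf (S : Subgroup D) from n.2)) (mem_sup_right (h.centralizes hc))
  rwa [mul_inv_cancel_left] at this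

end QDSetup

/-- Groups with a normal subgroup of 2-power index having quaternion Sylow 2-subgroups. -/
theorem qd_mod_core (hGW : Statement.{u}) {C : Type u} [Group C] [Finite C] (R : Sylow 2 C)
    (hR : Cfsg.IsQuasiDihedral (R : Subgroup C) ∨ Cfsg.IsWreathed (R : Subgroup C))
    (K : Subgroup C) [K.Normal] {a : ℕ} (hKa : K.index = 2 ^ a) (hK : ∀ H : Subgroup K, H.index ≠ 2)
    (hKP : ∀ P : Sylow 2 K, ∃ m : ℕ, 1 ≤ m ∧ Nonempty ((P : Subgroup K) ≃* QuaternionGroup (2 ^ m))) :
    ∃ (F : Type) (_ : Field F) (_ : Fintype F), Odd (Fintype.card F) ∧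
      Nonempty (commutator (C ⧸ Cfsg.oddCore C) ≃* Matrix.SpecialLinearGroup (Fin 2) F) := by
  classical
  haveI : Fact (Nat.Prime 2) := ⟨Nat.prime_two⟩
  set D := C ⧸ Cfsg.oddCore C with hDdef
  let π : C →* D := QuotientGroup.mk' _
  have hπ : Function.Surjective π := QuotientGroup.mk'_surjective _
  obtain ⟨T₀, ⟨e₀⟩⟩ := sylow_mod_core R
  set N : Subgroup D := K.map π with hN
  haveI : N.Normal := Normal.map inferInstance π hπ
  let f : K →* N := π.subgroupMap K
  have hf : Function.Surjective f := π.subgroupMap_surjective K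
  have hnt : ∀ H : Subgroup N, H.index ≠ 2 := no_index_two_of_surj hf hK
  have hON : Cfsg.oddCore N = ⊥ := by
    haveI : (Cfsg.oddCore N).Characteristic := characteristic_iff_map_le.2 fun φ => by
      refine DGroup.le_oddCore (Normal.map inferInstance _ φ.surjective) ?_
      rw [card_map_of_injective (show Function.Injective φ.toMonoidHom from φ.injective)]
      exact DGroup.odd_oddCore N
    have h := DGroup.le_oddCore (K := D) (N := (Cfsg.oddCore N).map N.subtype) inferInstance
      (by rw [card_map_of_injective N.subtype_injective]; exact DGroup.odd_oddCore N)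
    rwa [LocalB.oddCore_quotient, le_bot_iff, Subgroup.map_eq_bot_iff_of_injective _ N.subtype_injective] at h
  -- a Sylow subgroup of `N`
  obtain ⟨P₀⟩ : Nonempty (Sylow 2 K) := inferInstance
  obtain ⟨m, hm, ⟨e⟩⟩ := hKP P₀
  set P : Sylow 2 N := P₀.mapSurjective hf
  have eP : (P₀ : Subgroup K) ≃* (P : Subgroup N) := by
    refine MulEquiv.ofBijective (f.subgroupMap (P₀ : Subgroup K)) ⟨?_, f.subgroupMap_surjective _⟩
    refine (injective_iff_map_eq_one _).2 fun x hx => Subtype.ext (Subtype.ext ?_)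
    obtain ⟨k, hk⟩ := IsPGroup.iff_orderOf.1 P₀.2 x
    have h1 : ((x : K) : C) ∈ Cfsg.oddCore C :=
      (QuotientGroup.eq_one_iff _).1 (congrArg (fun y : (P : Subgroup N) => ((y : N) : D)) hx)
    have h2 := DGroup.odd_orderOf (DGroup.odd_oddCore C) h1
    rw [Subgroup.orderOf_coe, Subgroup.orderOf_coe, hk] at h2
    rcases k.eq_zero_or_pos with rfl | h
    · exact congrArg (fun y : (P₀ : Subgroup K) => ((y : K) : C)) (orderOf_eq_one_iff.1 (hk.trans (pow_zero 2)))
    · exact absurd (Nat.even_pow.2 ⟨even_two, by omega⟩) (Nat.not_even_iff_odd.2 h2)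
  obtain ⟨S, hS⟩ := (P.2.map N.subtype).exists_le_sylow
  have hPS : (P : Subgroup N) = (S : Subgroup D).comap N.subtype :=
    (P.3 (S.2.comap_of_injective N.subtype N.subtype_injective) (map_le_iff_le_comap.1 hS)).symm
  have eS : N.subgroupOf (S : Subgroup D) ≃* (P : Subgroup N) :=
    { toFun := fun q => ⟨⟨q, q.2⟩, by rw [hPS]; exact (q : (S : Subgroup D)).2⟩
      invFun := fun p => ⟨⟨p, (hPS ▸ p.2 : (p : N) ∈ (S : Subgroup D).comap N.subtype)⟩, (p : N).2⟩
      left_inv := fun _ => rfl
      right_inv := fun _ => rfl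
      map_mul' := fun _ _ => rfl }
  have hqd : Cfsg.IsQuasiDihedral (S : Subgroup D) ∨ Cfsg.IsWreathed (S : Subgroup D) :=
    hR.imp (InvolPattern.isQuasiDihedral_congr (e₀.trans (T₀.equiv S)))
      (InvolPattern.isWreathed_congr (e₀.trans (T₀.equiv S)))
  have hsup : N ⊔ (S : Subgroup D) = ⊤ := by
    have hd : N.index ∣ 2 ^ a := hKa ▸ index_map_dvd K hπ
    refine index_eq_one.1 (Nat.eq_one_of_dvd_coprimes (Nat.Coprime.pow_left a ?_)
      ((index_dvd_of_le le_sup_left).trans hd) (index_dvd_of_le (le_sup_right : (S : Subgroup D) ≤ N ⊔ S)))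
    exact (Nat.Prime.coprime_iff_not_dvd Nat.prime_two).2 S.not_dvd_index
  obtain ⟨hz2, hOX, T, ⟨eT⟩⟩ := quaternion_mod_core hm P (eP.symm.trans e)
  let bot : N ⧸ Cfsg.oddCore N ≃* N :=
    (QuotientGroup.quotientMulEquivOfEq hON).trans QuotientGroup.quotientBot
  rw [Nat.card_congr (Subgroup.centerCongr bot).toEquiv] at hz2
  have hset : QDSetup S N m := ⟨hqd, hm, hnt, ⟨eS.trans (eP.symm.trans e)⟩, hsup, hz2⟩
  let eX : (N ⧸ Cfsg.oddCore N) ⧸ center (N ⧸ Cfsg.oddCore N) ≃* N ⧸ center N :=
    QuotientGroup.congr _ _ bot (by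
      ext y
      rw [mem_map, mem_center_iff]
      constructor
      · rintro ⟨l, hl, rfl⟩ g
        obtain ⟨g', rfl⟩ := bot.surjective g
        show bot g' * bot l = bot l * bot g'
        rw [← map_mul, ← map_mul, mem_center_iff.1 hl g']
      · intro hy
        refine ⟨bot.symm y, mem_center_iff.2 fun g => bot.injective ?_, bot.apply_symm_apply y⟩
        rw [map_mul, map_mul, bot.apply_symm_apply, hy])
  have hntX : ∀ H : Subgroup (N ⧸ center N), H.index ≠ 2 :=
    no_index_two_of_surj (QuotientGroup.mk'_surjective _) hnt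
  rcases dihedral_structure hGW hOX T eT with hp | ⟨F, iF, iFF, hodd, K', hK', ⟨eK⟩⟩ | ⟨⟨eA⟩⟩
  · exfalso
    have hp' : IsPGroup 2 (N ⧸ center N) := hp.of_equiv eX
    rcases eq_or_ne (Nat.card (N ⧸ center N)) 1 with h1 | h1
    · refine hnt ⊥ ?_
      rw [index_bot, Subgroup.card_eq_card_quotient_mul_card_subgroup (center N), h1, one_mul, hz2]
    · obtain ⟨H, hH⟩ := SmallSylow.exists_index_two_of_isPGroup hp' h1
      exact hntX H hH
  · letI := iF
    letI := iFF
    by_cases h3 : Fintype.card F = 3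
    · let Φ : K' →* Cfsg.Out (Matrix.ProjectiveSpecialLinearGroup (Fin 2) F) :=
        (QuotientGroup.mk' _).comp K'.subtype
      have hker : Φ.ker = ⊤ := by
        have hd : Φ.ker.index ∣ 2 := by
          rw [index_ker]
          exact (card_subgroup_dvd_card _).trans (dvd_of_eq (out_psl_card_three h3))
        rcases (Nat.dvd_prime Nat.prime_two).1 hd with h | h
        · exact index_eq_one.1 h
        · exact absurd h (no_index_two_of_surj (f := (eX.symm.trans eK).toMonoidHom)
            (eX.symm.trans eK).surjective hntX _)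
      have hKI : K' = Cfsg.Inn (Matrix.ProjectiveSpecialLinearGroup (Fin 2) F) := le_antisymm
        (fun k hk => (QuotientGroup.eq_one_iff k).1 (MonoidHom.mem_ker.1 (hker ▸ mem_top (⟨k, hk⟩ : K')) :)) hK'
      obtain ⟨eP4⟩ := CfsgLib.Linear.Small.nonempty_psl_two_three (F := F) h3
      have hinj : Function.Injective
          (MulAut.conj : Matrix.ProjectiveSpecialLinearGroup (Fin 2) F →* _) := by
        rw [injective_iff_map_eq_one]
        intro p hp
        refine eP4.injective ((a4_center_free _ fun c => ?_).trans (map_one eP4).symm)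
        obtain ⟨q, rfl⟩ := eP4.surjective c
        rw [← map_mul, ← map_mul]
        have := DFunLike.congr_fun hp q
        rw [MulAut.conj_apply, MulAut.one_apply, mul_inv_eq_iff_eq_mul] at this
        rw [this]
      refine ⟨ZMod 3, inferInstance, inferInstance, by rw [ZMod.card]; decide, ?_⟩
      exact hset.small (((eX.symm.trans eK).trans
        ((MulEquiv.subgroupCongr hKI).trans (MonoidHom.ofInjective hinj).symm)).trans eP4)
    · have : 1 < Fintype.card F := Fintype.one_lt_card
      obtain ⟨j, hj⟩ := id hodd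
      exact ⟨F, iF, iFF, hodd, hset.large hodd (by omega) K' hK' (eX.symm.trans eK)⟩
  · exfalso
    refine hset.no_A7 ?_ (eX.symm.trans eA)
    have hA : Nat.card (alternatingGroup (Fin 7)) = 2520 := by
      rw [Nat.card_eq_fintype_card, card_alternatingGroup, Fintype.card_fin]; rfl
    obtain ⟨j, hj⟩ := IsPGroup.iff_card.1 T.2
    have hmul := T.1.index_mul_card
    rw [hj, Nat.card_congr eA.toEquiv, hA] at hmul
    have hodd : ¬ 2 ∣ T.1.index := T.not_dvd_index
    have hj3 : j = 3 := by
      have hle : 2 ^ j ∣ 2 ^ 3 * 315 :=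
        ⟨T.1.index, by rw [mul_comm ((2:ℕ) ^ j), hmul]; norm_num⟩
      have h1 : j ≤ 3 := by
        by_contra h
        push Not at h
        have := (pow_dvd_pow 2 (show 4 ≤ j by omega)).trans hle
        norm_num at this
      interval_cases j <;> omega
    have h := Nat.card_congr eT.toEquiv
    rw [hj, hj3, DihedralGroup.nat_card] at h
    have h2 : 2 ^ m = 2 ^ 2 := by omega
    exact Nat.pow_right_injective le_rfl h2

/-- Involution centralizers modulo core in the one-class quasi-dihedral and wreathed case. -/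
theorem qd_centralizer_mod_core (hGW : Statement.{u}) {G : Type u} [Group G] [Finite G] (S : Sylow 2 G)
    (hS : Cfsg.IsQuasiDihedral (S : Subgroup G) ∨ Cfsg.IsWreathed (S : Subgroup G))
    (hG : ∀ H : Subgroup G, H.index ≠ 2) (t : G) (ht : orderOf t = 2) :
    ∃ (F : Type) (_ : Field F) (_ : Fintype F), Odd (Fintype.card F) ∧
      Nonempty (commutator (centralizer ({t} : Set G) ⧸ Cfsg.oddCore (centralizer ({t} : Set G))) ≃*
        Matrix.SpecialLinearGroup (Fin 2) F) := by
  haveI : Fact (Nat.Prime 2) := ⟨Nat.prime_two⟩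
  set H := centralizer ({t} : Set G)
  obtain ⟨R, hcard, ⟨K, hKn, ⟨a, hKa⟩, hK, hKP⟩, -⟩ := InvolPattern.centralizer_pattern S hS hG t ht
  haveI := hKn
  obtain ⟨S', hS'⟩ := (R.2.map H.subtype).exists_le_sylow
  have hc : Nat.card ((R : Subgroup H).map H.subtype) = Nat.card S := by
    rw [card_map_of_injective H.subtype_injective]; exact hcard
  have heq : (R : Subgroup H).map H.subtype = (S' : Subgroup G) := eq_of_le_of_card_ge hS' (by
    rw [hc, S.card_eq_multiplicity, S'.card_eq_multiplicity])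
  have e : (S : Subgroup G) ≃* (R : Subgroup H) :=
    ((S.equiv S').trans (MulEquiv.subgroupCongr heq.symm)).trans
      (equivMapOfInjective _ _ H.subtype_injective).symm
  exact qd_mod_core hGW R (hS.imp (InvolPattern.isQuasiDihedral_congr e) (InvolPattern.isWreathed_congr e))
    K hKa hK hKP

end CfsgLib.GWApps
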