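import Cfsg.Agent.GWApps.QDCentralizer
import Cfsg.Agent.FTRows.MetacyclicSol
import Cfsg.Agent.SL2Mult.Main
import Cfsg.Agent.InvChar.OneSixtyEight
import Mathlib.GroupTheory.SpecificGroups.ZGroup

/-!
# Nonsolvable groups with almost cyclic Sylow subgroups

Relative to the Gorenstein–Walter theorem and the exclusion of semidihedral Sylow 2-subgroups.
-/

set_option autoImplicit false
set_option linter.unusedSectionVars false
set_option linter.style.haveILetI false

namespace CfsgLib.GWApps

open Subgroup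
open scoped commutatorElement

universe u v

/-- No perfect group has a semidihedral Sylow 2-subgroup and cyclic Sylow subgroups of odd order. -/
def SDExclusion : Prop :=
  ∀ (X : Type u) [Group X] [Finite X] [Group.IsPerfect X] (S : Sylow 2 X),
    Cfsg.IsQuasiDihedral (S : Subgroup X) → (∀ p : ℕ, p.Prime → p ≠ 2 → ∀ P : Sylow p X, IsCyclic P) → False

/-- Odd Sylow subgroups cyclic, Sylow 2-subgroups with a cyclic subgroup of index at most two. -/
structure AlmostCyclic (G : Type u) [Group G] : Prop where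
  odd : ∀ p : ℕ, p.Prime → p ≠ 2 → ∀ P : Sylow p G, IsCyclic P
  two : ∀ S : Sylow 2 G, ∃ C : Subgroup (S : Subgroup G), IsCyclic C ∧ C.index ∣ 2

theorem cyclic_sylow_subgroup {G : Type u} [Group G] [Finite G] {p : ℕ}
    (h : ∀ P : Sylow p G, IsCyclic P) (H : Subgroup G) (P : Sylow p H) : IsCyclic P := by
  obtain ⟨Q, hQ⟩ := (P.2.map H.subtype).exists_le_sylow
  haveI := h Q
  let f : (P : Subgroup H) →* (Q : Subgroup G) :=
    (H.subtype.comp (P : Subgroup H).subtype).codRestrict _ fun x => hQ (mem_map_of_mem H.subtype x.2)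
  exact isCyclic_of_injective f fun a b hab =>
    Subtype.ext (Subtype.ext (Subtype.ext_iff.1 hab :))

theorem cyclic_sylow_quotient {G : Type u} [Group G] [Finite G] {Y : Type v} [Group Y] [Finite Y] {p : ℕ}
    [Fact p.Prime] (h : ∀ P : Sylow p G, IsCyclic P) {f : G →* Y} (hf : Function.Surjective f)
    (P : Sylow p Y) : IsCyclic P := by
  obtain ⟨Q, rfl⟩ := Sylow.mapSurjective_surjective hf p P
  haveI := h Q
  exact isCyclic_of_surjective (f.subgroupMap (Q : Subgroup G)) (f.subgroupMap_surjective _)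

theorem AlmostCyclic.subgroup {G : Type u} [Group G] [Finite G] (h : AlmostCyclic G) (H : Subgroup G) :
    AlmostCyclic H := by
  refine ⟨fun p hp hp2 => cyclic_sylow_subgroup (h.odd p hp hp2) H, fun S => ?_⟩
  obtain ⟨Q, hQ⟩ := (S.2.map H.subtype).exists_le_sylow
  obtain ⟨C, hC, hi⟩ := h.two Q
  let f : (S : Subgroup H) →* (Q : Subgroup G) :=
    (H.subtype.comp (S : Subgroup H).subtype).codRestrict _ fun x => hQ (mem_map_of_mem H.subtype x.2)
  have hf : Function.Injective f := fun a b hab =>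
    Subtype.ext (Subtype.ext (Subtype.ext_iff.1 hab :))
  haveI := hC
  refine ⟨C.comap f, ?_, ?_⟩
  · exact isCyclic_of_injective (f.subgroupComap C) fun a b hab => Subtype.ext (hf (congrArg Subtype.val hab))
  · haveI : C.Normal := by
      rcases (Nat.dvd_prime Nat.prime_two).1 hi with h1 | h1
      · rw [index_eq_one.1 h1]; infer_instance
      · exact normal_of_index_eq_two h1
    refine dvd_trans ?_ hi
    rw [index_comap]
    exact relIndex_dvd_index_of_normal C f.range

/-- Roots of unity in a cyclic subgroup. -/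
theorem mem_zpowers_of_cyclic {G : Type u} [Group G] [Finite G] {H : Subgroup G} [IsCyclic H] {a b : G}
    (ha : a ∈ H) (hb : b ∈ H) (hab : b ^ orderOf a = 1) : b ∈ zpowers a := by
  classical
  haveI := Fintype.ofFinite H
  set a' : H := ⟨a, ha⟩
  have ho : orderOf a' = orderOf a := Subgroup.orderOf_mk a ha
  have hsub : (zpowers a' : Set H).toFinset = Finset.univ.filter fun z : H => z ^ orderOf a' = 1 := by
    refine Finset.eq_of_subset_of_card_le (fun z hz => ?_) ?_
    · obtain ⟨n, rfl⟩ := mem_zpowers_iff.1 (Set.mem_toFinset.1 hz)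
      refine Finset.mem_filter.2 ⟨Finset.mem_univ _, ?_⟩
      rw [← zpow_natCast, ← zpow_mul, mul_comm, zpow_mul, zpow_natCast, pow_orderOf_eq_one, one_zpow]
    · refine (IsCyclic.card_pow_eq_one_le (orderOf_pos a')).trans ?_
      rw [Set.toFinset_card, ← Nat.card_eq_fintype_card]
      exact (Nat.card_zpowers a').ge
  have hm : (⟨b, hb⟩ : H) ∈ (zpowers a' : Set H).toFinset := by
    rw [hsub]
    refine Finset.mem_filter.2 ⟨Finset.mem_univ _, Subtype.ext ?_⟩
    rw [SubmonoidClass.coe_pow, ho]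
    exact hab
  obtain ⟨n, hn⟩ := mem_zpowers_iff.1 (Set.mem_toFinset.1 hm)
  exact mem_zpowers_iff.2 ⟨n, by simpa [a'] using congrArg Subtype.val hn⟩

theorem pair_mem_zpowers {G : Type u} [Group G] [Finite G] {p : ℕ} [Fact p.Prime]
    (h : ∀ P : Sylow p G, IsCyclic P) {a b : G} (ha : orderOf a = p) (hb : orderOf b = p) (hab : Commute a b) :
    b ∈ zpowers a := by
  haveI : IsMulCommutative (closure ({a, b} : Set G)) := isMulCommutative_closure (by
    rintro x (rfl | rfl) y (rfl | rfl) <;> first | rfl | exact hab.eq | exact hab.eq.symm)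
  have hp : IsPGroup p (closure ({a, b} : Set G)) := fun x => ⟨1, Subtype.ext (by
    rw [pow_one, SubmonoidClass.coe_pow, OneMemClass.coe_one]
    refine closure_induction (p := fun x _ => x ^ p = 1) ?_ (one_pow p) ?_ ?_ x.2
    · intro w hw
      rcases hw with hw | hw <;> rw [hw]
      · exact ha ▸ pow_orderOf_eq_one a
      · exact hb ▸ pow_orderOf_eq_one b
    · intro x y hx hy h1 h2
      rw [(show Commute x y from setLike_mul_comm hx hy).mul_pow, h1, h2, one_mul]
    · intro x _ h1; rw [inv_pow, h1, inv_one])⟩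
  obtain ⟨P, hP⟩ := hp.exists_le_sylow
  haveI := h P
  exact mem_zpowers_of_cyclic (H := (P : Subgroup G)) (hP (subset_closure (by simp)))
    (hP (subset_closure (by simp))) (ha.symm ▸ hb ▸ pow_orderOf_eq_one b)

/-- The possible Sylow 2-subgroups. -/
theorem sylow_cases {X : Type u} [Group X] [Finite X] [Group.IsPerfect X] [Nontrivial X] (h : AlmostCyclic X)
    (S : Sylow 2 X) :
    (∃ n, 2 ≤ n ∧ Nonempty ((S : Subgroup X) ≃* DihedralGroup n)) ∨
      Cfsg.IsQuasiDihedral (S : Subgroup X) ∨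
      ∃ n, 1 ≤ n ∧ Nonempty ((S : Subgroup X) ≃* QuaternionGroup (2 ^ n)) := by
  haveI : Fact (Nat.Prime 2) := ⟨Nat.prime_two⟩
  have hns := Group.IsPerfect.not_isSolvable X
  obtain ⟨C, hC, hi⟩ := h.two S
  haveI := hC
  haveI : C.Normal := by
    rcases (Nat.dvd_prime Nat.prime_two).1 hi with h1 | h1
    · exact absurd (isSolvable_of_cyclic_sylow S (by
        rw [index_eq_one.1 h1] at hC
        haveI := hC
        exact topEquiv.isCyclic.1 hC)) hns
    · exact normal_of_index_eq_two h1
  have hm : Cfsg.IsMetacyclic (S : Subgroup X) := by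
    refine ⟨C, inferInstance, hC, ?_⟩
    rcases (Nat.dvd_prime Nat.prime_two).1 hi with h1 | h1
    · haveI : Subsingleton ((S : Subgroup X) ⧸ C) := by
        rw [← not_nontrivial_iff_subsingleton, ← Finite.one_lt_card_iff_nontrivial, ← index_eq_card, h1]
        omega
      infer_instance
    · exact isCyclic_of_prime_card (p := 2) (by rw [← index_eq_card, h1])
  by_cases hd : CfsgLib.TwoMax.DSQ (S : Subgroup X)
  · rcases hd with ⟨k, he⟩ | ⟨k, hcard, a, b, ha, hb, hab⟩ | ⟨k, he⟩
    · exact Or.inl ⟨_, Nat.le_self_pow (by omega) 2, he⟩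
    · exact Or.inr (Or.inl ⟨k + 3, by omega, hcard, a, b, ha, hb, hab⟩)
    · exact Or.inr (Or.inr ⟨k + 1, by omega, he⟩)
  by_cases hA : IsPGroup 2 (MulAut (S : Subgroup X))
  · obtain ⟨P, K, hK, hc⟩ := FTRows.hasNormalPComplement_of_metacyclic S hm hd hA
    exact absurd (FTRows.isSolvable_of_complement (P := P) (K := K)
      (fun Y _ _ hY => by
        haveI := DGroup.solvable_of_odd (⊤ : Subgroup Y) (by rwa [card_top])
        exact Group.isSolvable_of_surjective (f := (Subgroup.topEquiv (G := Y)).toMonoidHom) Subgroup.topEquiv.surjective) hK hc) hns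
  rcases MetacyclicAut.quaternion_or_homocyclic S.2 hm hA with he | ⟨n, ⟨e⟩⟩
  · exact absurd (Or.inr (Or.inr ⟨0, he⟩)) hd
  have hcard : Nat.card (S : Subgroup X) = 2 ^ n * 2 ^ n := by
    rw [Nat.card_congr e.toEquiv, Nat.card_prod, Nat.card_congr Multiplicative.toAdd, Nat.card_zmod]
  have hn : n = 1 := by
    obtain ⟨⟨c, hcC⟩, hc⟩ := IsCyclic.exists_ofOrder_eq_natCard (α := C)
    rw [Subgroup.orderOf_mk] at hc
    have h1 : Nat.card C ∣ 2 ^ n := by
      rw [← hc, ← e.orderOf_eq]
      refine orderOf_dvd_of_pow_eq_one (Prod.ext ?_ ?_) <;>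
        exact orderOf_dvd_iff_pow_eq_one.1 ((_root_.orderOf_dvd_natCard _).trans
          (by rw [Nat.card_congr Multiplicative.toAdd, Nat.card_zmod]))
    have h2 := C.card_mul_index
    rw [hcard] at h2
    rcases Nat.eq_zero_or_pos n with rfl | hn
    · refine absurd (isSolvable_of_cyclic_sylow S ?_) hns
      haveI : Subsingleton (S : Subgroup X) := by
        rw [← not_nontrivial_iff_subsingleton, ← Finite.one_lt_card_iff_nontrivial, hcard]
        norm_num
      infer_instance
    by_contra hne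
    have h3 : 2 ^ n * 2 ^ n ≤ 2 ^ n * 2 := by
      rw [← h2]
      exact Nat.mul_le_mul (Nat.le_of_dvd (by positivity) h1) (Nat.le_of_dvd two_pos hi)
    have h4 : 2 ^ 2 ≤ 2 ^ n := Nat.pow_le_pow_right two_pos (by omega)
    have := Nat.le_of_mul_le_mul_left h3 (by positivity)
    omega
  subst hn
  haveI : IsKleinFour (Multiplicative (ZMod (2 ^ 1)) × Multiplicative (ZMod (2 ^ 1))) :=
    ⟨by simp, by
      refine (Monoid.exponent_eq_prime_iff Nat.prime_two).2 fun x hx => orderOf_eq_prime ?_ hx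
      refine Prod.ext ?_ ?_ <;>
        exact orderOf_dvd_iff_pow_eq_one.1 ((_root_.orderOf_dvd_natCard _).trans
          (by rw [Nat.card_congr Multiplicative.toAdd, Nat.card_zmod, pow_one]))⟩
  haveI : IsKleinFour (S : Subgroup X) := ⟨by rw [hcard]; norm_num, by
    rw [Monoid.exponent_eq_of_mulEquiv e]; exact IsKleinFour.exponent_two⟩
  exact Or.inl ⟨2, le_rfl, IsKleinFour.nonempty_mulEquiv⟩

/-- A field whose additive group has cyclic image in a Sylow subgroup is a prime field. -/
theorem card_prime_of_cyclic {Y : Type u} [Group Y] [Finite Y] {F : Type} [Field F] [Fintype F]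
    (hodd : Odd (Fintype.card F)) (e : Y ≃* Matrix.ProjectiveSpecialLinearGroup (Fin 2) F)
    (h : ∀ p : ℕ, p.Prime → p ≠ 2 → ∀ P : Sylow p Y, IsCyclic P) : (Fintype.card F).Prime := by
  classical
  obtain ⟨p, hp⟩ := CharP.exists F
  have hpp : p.Prime := CharP.char_is_prime F p
  haveI := Fact.mk hpp
  obtain ⟨n, -, hn⟩ := FiniteField.card F p
  have hp2 : p ≠ 2 := fun h2 => Nat.not_odd_iff_even.2 (by
    rw [hn, h2]; exact Nat.even_pow.2 ⟨even_two, n.ne_zero⟩) hodd
  let u : Multiplicative F →* Y :=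
    (e.symm.toMonoidHom.comp (QuotientGroup.mk' _)).comp (SL2Mult.upHom F)
  have hu : Function.Injective u := by
    refine (injective_iff_map_eq_one _).2 fun x hx => ?_
    have hc : SL2Mult.upHom F x ∈ center (Matrix.SpecialLinearGroup (Fin 2) F) :=
      (QuotientGroup.eq_one_iff _).1 (e.symm.injective (hx.trans (map_one _).symm))
    rcases SL2C.center_cases hc with h1 | h1
    · exact SL2Mult.upHom_injective (h1.trans (map_one _).symm)
    · exfalso
      have h2 := congrArg (fun g => SL2C.mt g 0 0) h1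
      simp only [SL2Mult.upHom, MonoidHom.coe_mk, OneHom.coe_mk, SL2C.mt_bor, SL2C.mt_negOne] at h2
      simp only [Matrix.of_apply, Matrix.cons_val', Matrix.cons_val_zero, Matrix.neg_apply, Matrix.one_apply_eq,
        Units.val_one, Matrix.cons_val_fin_one] at h2
      have h3 : ((2 : ℕ) : F) = 0 := by push_cast; linear_combination h2
      exact hp2 ((Nat.prime_dvd_prime_iff_eq hpp Nat.prime_two).1 ((CharP.cast_eq_zero_iff F p 2).1 h3))
  have hall : ∀ x : F, x ≠ 0 → orderOf (u (Multiplicative.ofAdd x)) = p := fun x hx => by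
    rw [orderOf_injective u hu, orderOf_ofAdd_eq_addOrderOf]
    exact addOrderOf_eq_prime (by rw [nsmul_eq_mul, CharP.cast_eq_zero, zero_mul]) hx
  have hsurj : Function.Surjective (fun i : ZMod p => (ZMod.castHom dvd_rfl F) i) := fun b => by
    by_cases hb : b = 0
    · exact ⟨0, by rw [hb]; exact map_zero _⟩
    have hm := pair_mem_zpowers (h p hpp hp2) (hall 1 one_ne_zero) (hall b hb)
      ((Commute.all _ _).map u)
    obtain ⟨i, hi⟩ := mem_zpowers_iff.1 hm
    rw [← map_zpow] at hi
    refine ⟨(i : ZMod p), ?_⟩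
    have h1 := congrArg Multiplicative.toAdd (hu hi)
    simp only [toAdd_zpow, toAdd_ofAdd, zsmul_one] at h1
    show (ZMod.castHom dvd_rfl F) (i : ZMod p) = b
    rw [map_intCast, h1]
  have h1 := Fintype.card_le_of_surjective _ hsurj
  rw [ZMod.card, hn] at h1
  have h2 : (n : ℕ) = 1 := by
    by_contra hne
    have := n.pos
    have h3 : p ^ 2 ≤ p ^ (n : ℕ) := Nat.pow_le_pow_right hpp.pos (by omega)
    have := hpp.two_le
    nlinarith
  rw [hn, h2, pow_one]; exact hpp

/-! ### The core is trivial -/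

theorem cyclic_normal_le_center {X : Type u} [Group X] [Group.IsPerfect X] (A : Subgroup X) [A.Normal]
    [IsCyclic A] : A ≤ center X := by
  have hcomm : ∀ φ ψ : MulAut A, φ * ψ = ψ * φ := fun φ ψ => by
    obtain ⟨g, hg⟩ := IsCyclic.exists_generator (α := A)
    have hgen : ∀ (φ : MulAut A), ∃ i : ℤ, φ g = g ^ i := fun φ =>
      (mem_zpowers_iff.1 (hg (φ g))).imp fun i hi => hi.symm
    obtain ⟨i, hi⟩ := hgen φ
    obtain ⟨j, hj⟩ := hgen ψ
    ext x
    obtain ⟨k, rfl⟩ := mem_zpowers_iff.1 (hg x)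
    simp only [MulAut.mul_apply, map_zpow, hi, hj]
    rw [← zpow_mul, ← zpow_mul, ← zpow_mul, ← zpow_mul]
    congr 2; ring
  let f : X →* MulAut A := MulAut.conjNormal
  have hle : commutator X ≤ f.ker := by
    rw [_root_.commutator_def, Subgroup.commutator_le]
    intro a _ b _
    rw [MonoidHom.mem_ker, map_commutatorElement, commutatorElement_eq_one_iff_mul_comm]
    exact hcomm _ _
  rw [Group.IsPerfect.commutator_eq_top] at hle
  intro a ha
  refine mem_center_iff.2 fun g => ?_
  have h := congrArg Subtype.val (DFunLike.congr_fun (MonoidHom.mem_ker.1 (hle (mem_top g))) ⟨a, ha⟩)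
  rw [MulAut.conjNormal_apply, MulAut.one_apply] at h
  exact mul_inv_eq_iff_eq_mul.1 h

theorem oddCore_le_center {X : Type u} [Group X] [Finite X] [Group.IsPerfect X]
    (h : ∀ p : ℕ, p.Prime → p ≠ 2 → ∀ P : Sylow p X, IsCyclic P) : Cfsg.oddCore X ≤ center X := by
  set O := Cfsg.oddCore X
  haveI : IsZGroup O := ⟨fun p hp P => by
    rcases eq_or_ne p 2 with rfl | hp2
    · haveI : Subsingleton (P : Subgroup O) := by
        rw [← not_nontrivial_iff_subsingleton, ← Finite.one_lt_card_iff_nontrivial, not_lt]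
        haveI : Fact (Nat.Prime 2) := ⟨hp⟩
        obtain ⟨k, hk⟩ := IsPGroup.iff_card.1 P.2
        have hd : Odd (2 ^ k) := hk ▸ (DGroup.odd_oddCore X).of_dvd_nat (card_subgroup_dvd_card _)
        rcases k.eq_zero_or_pos with rfl | hk0
        · rw [hk, pow_zero]
        · exact absurd (Nat.even_pow.2 ⟨even_two, hk0.ne'⟩) (Nat.not_even_iff_odd.2 hd)
      exact inferInstanceAs (IsCyclic (P : Subgroup O))
    · exact cyclic_sylow_subgroup (h p hp hp2) O P⟩
  set A := ⁅O, O⁆
  have hA : A = (commutator O).map O.subtype := (map_subtype_commutator O).symm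
  haveI : IsCyclic A := by
    haveI : IsCyclic (commutator O) := IsZGroup.isCyclic_commutator _
    rw [hA]
    exact isCyclic_of_surjective _ (O.subtype.subgroupMap_surjective (commutator O))
  have hAc := cyclic_normal_le_center A
  haveI : Group.IsPerfect (X ⧸ A) :=
    Group.IsPerfect.ofSurjective (f := QuotientGroup.mk' A) (QuotientGroup.mk'_surjective _)
  set B := O.map (QuotientGroup.mk' A)
  haveI : B.Normal := Normal.map inferInstance _ (QuotientGroup.mk'_surjective _)
  haveI : IsCyclic B := by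
    haveI : IsZGroup B := IsZGroup.of_surjective ((QuotientGroup.mk' A).subgroupMap_surjective O)
    haveI : IsMulCommutative B := by
      refine ⟨⟨?_⟩⟩
      rintro ⟨_, a, ha, rfl⟩ ⟨_, b, hb, rfl⟩
      refine Subtype.ext (commutatorElement_eq_one_iff_mul_comm.1 ?_)
      show ⁅QuotientGroup.mk' A a, QuotientGroup.mk' A b⁆ = 1
      rw [← map_commutatorElement]
      exact (QuotientGroup.eq_one_iff _).2 (Subgroup.commutator_mem_commutator ha hb)
    letI : CommGroup B := IsMulCommutative.instCommGroup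
    haveI : Group.IsNilpotent B := CommGroup.isNilpotent
    infer_instance
  have hBc := cyclic_normal_le_center B
  have h1 : ⁅O, (⊤ : Subgroup X)⁆ ≤ A := by
    rw [Subgroup.commutator_le]
    intro a ha g _
    refine (QuotientGroup.eq_one_iff _).1 ?_
    show QuotientGroup.mk' A ⁅a, g⁆ = 1
    rw [map_commutatorElement, commutatorElement_eq_one_iff_mul_comm]
    exact (mem_center_iff.1 (hBc (mem_map_of_mem _ ha)) _).symm
  have h2 : ⁅⁅O, (⊤ : Subgroup X)⁆, (⊤ : Subgroup X)⁆ = ⊥ := by
    rw [eq_bot_iff]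
    refine (Subgroup.commutator_mono (h1.trans hAc) le_rfl).trans ?_
    rw [Subgroup.commutator_le]
    intro a ha g _
    rw [mem_bot, commutatorElement_eq_one_iff_mul_comm]
    exact (mem_center_iff.1 ha g).symm
  have h3 : ⁅⁅(⊤ : Subgroup X), ⊤⁆, O⁆ = ⊥ :=
    commutator_commutator_eq_bot_of_rotate (by rwa [Subgroup.commutator_comm ⊤ O]) h2
  rw [← _root_.commutator_def, Group.IsPerfect.commutator_eq_top] at h3
  rw [commutator_eq_bot_iff_le_centralizer] at h3
  intro a ha
  refine mem_center_iff.2 fun g => ?_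
  exact (mem_centralizer_iff.1 (h3 (mem_top g)) a ha).symm

theorem psl_kernel_small {F : Type} [Field F] [Fintype F] (hF : (Fintype.card F).Prime) (h5 : 5 ≤ Fintype.card F)
    {Y : Type} [Group Y] [Finite Y] (hperf : commutator Y = ⊤)
    (σ : Y →* Matrix.ProjectiveSpecialLinearGroup (Fin 2) F) (hσ : Function.Surjective σ)
    (hc : σ.ker ≤ center Y) (hodd : Odd (Nat.card σ.ker)) : σ.ker = ⊥ := by
  classical
  have hFodd : Odd (Fintype.card F) := hF.odd_of_ne_two (by omega)
  have hsl : commutator (Matrix.SpecialLinearGroup (Fin 2) F) = ⊤ :=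
    CfsgLib.Linear.commutator_SL_eq_top (Or.inr (CfsgLib.Linear.Small.exists_sq_ne_one (F := F) (by omega)))
  let τ : Matrix.SpecialLinearGroup (Fin 2) F →* Matrix.ProjectiveSpecialLinearGroup (Fin 2) F :=
    QuotientGroup.mk' (center (Matrix.SpecialLinearGroup (Fin 2) F))
  let f := (Schur.psnd σ τ).comp (commutator (Schur.pullback σ τ)).subtype
  have hst : Cfsg.IsStemExtension f := SLMult.derived_stem _ (Schur.psnd_surjective σ τ hσ)
    (SLMult.psnd_ker_le_center σ τ hc) hsl
  have hk : f.ker = ⊥ := CfsgLib.SL2Mult.ker_eq_bot (F := F) (fun h => by omega)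
    (fun h => by rw [h] at hF; exact absurd hF (by norm_num)) hst
  let e := MulEquiv.ofBijective f ⟨(MonoidHom.ker_eq_bot_iff _).1 hk, hst.1⟩
  let φ : Matrix.SpecialLinearGroup (Fin 2) F →* Y :=
    ((Schur.pfst σ τ).comp (commutator (Schur.pullback σ τ)).subtype).comp e.symm.toMonoidHom
  have hφ : Function.Surjective φ := fun y => by
    obtain ⟨p, hp, rfl⟩ := (Schur.map_commutator_of_surjective _
      (Schur.pfst_surjective σ τ (QuotientGroup.mk'_surjective _))).ge (hperf ▸ mem_top y)
    exact ⟨e ⟨p, hp⟩, congrArg (fun q => Schur.pfst σ τ (q : commutator (Schur.pullback σ τ)).1)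
      (e.symm_apply_apply ⟨p, hp⟩)⟩
  have hdvd := Subgroup.card_dvd_of_surjective φ hφ
  have hS := Subgroup.card_eq_card_quotient_mul_card_subgroup (center (Matrix.SpecialLinearGroup (Fin 2) F))
  have hg : Nat.gcd 2 (Fintype.card F - 1) = 2 := by
    refine Nat.gcd_eq_left ?_
    obtain ⟨k, hk'⟩ := hFodd
    omega
  rw [CfsgLib.Linear.card_center_SL, Fintype.card_fin, Nat.card_eq_fintype_card (α := F), hg] at hS
  rw [hS, ← σ.ker.index_mul_card, index_ker, MonoidHom.range_eq_top.2 hσ, card_top] at hdvd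
  have h2 : Nat.card σ.ker ∣ 2 := Nat.dvd_of_mul_dvd_mul_left Nat.card_pos hdvd
  rcases (Nat.dvd_prime Nat.prime_two).1 h2 with h | h
  · exact card_eq_one.1 h
  · rw [h] at hodd; exact absurd hodd (by decide)

theorem psl_kernel {F : Type} [Field F] [Fintype F] (hF : (Fintype.card F).Prime) (h5 : 5 ≤ Fintype.card F)
    {Y : Type u} [Group Y] [Finite Y] [hP : Group.IsPerfect Y]
    (σ : Y →* Matrix.ProjectiveSpecialLinearGroup (Fin 2) F) (hσ : Function.Surjective σ)
    (hc : σ.ker ≤ center Y) (hodd : Odd (Nat.card σ.ker)) : σ.ker = ⊥ := by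
  let ψ : Shrink.{0} Y ≃* Y := Shrink.mulEquiv
  haveI : Group.IsPerfect (Shrink.{0} Y) :=
    Group.IsPerfect.ofSurjective (f := ψ.symm.toMonoidHom) ψ.symm.surjective
  have hk : (σ.comp ψ.toMonoidHom).ker = σ.ker.comap ψ.toMonoidHom := rfl
  have h := psl_kernel_small hF h5 Group.IsPerfect.commutator_eq_top (σ.comp ψ.toMonoidHom)
    (hσ.comp ψ.surjective)
    (fun x hx => mem_center_iff.2 fun y => ψ.injective (by
      rw [map_mul, map_mul]; exact mem_center_iff.1 (hc hx) (ψ y)))
    (by
      rw [hk, show Nat.card (σ.ker.comap ψ.toMonoidHom) = Nat.card σ.ker from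
        Nat.card_congr (ψ.toEquiv.subtypeEquiv fun _ => Iff.rfl)]
      exact hodd)
  rw [eq_bot_iff]
  intro y hy
  have h1 : ψ.symm y ∈ (σ.comp ψ.toMonoidHom).ker := by
    show σ (ψ (ψ.symm y)) = 1
    rw [ψ.apply_symm_apply]; exact hy
  rw [h, mem_bot] at h1
  rw [mem_bot, ← ψ.apply_symm_apply y, h1, map_one]

theorem sl_kernel {F : Type} [Field F] [Fintype F] (hF : (Fintype.card F).Prime) (h5 : 5 ≤ Fintype.card F)
    {Y : Type u} [Group Y] [Finite Y] [hP : Group.IsPerfect Y]
    (σ : Y →* Matrix.SpecialLinearGroup (Fin 2) F) (hσ : Function.Surjective σ)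
    (hc : σ.ker ≤ center Y) : σ.ker = ⊥ := by
  let ψ : Shrink.{0} Y ≃* Y := Shrink.mulEquiv
  haveI : Group.IsPerfect (Shrink.{0} Y) :=
    Group.IsPerfect.ofSurjective (f := ψ.symm.toMonoidHom) ψ.symm.surjective
  have hst : Cfsg.IsStemExtension (σ.comp ψ.toMonoidHom) := ⟨hσ.comp ψ.surjective,
    fun x hx => mem_center_iff.2 fun y => ψ.injective (by
      rw [map_mul, map_mul]; exact mem_center_iff.1 (hc hx) (ψ y)),
    by rw [Group.IsPerfect.commutator_eq_top]; exact le_top⟩
  have h := CfsgLib.SL2Mult.ker_eq_bot (F := F) (fun h => by omega)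
    (fun h => by rw [h] at hF; exact absurd hF (by norm_num)) hst
  rw [eq_bot_iff]
  intro y hy
  have h1 : ψ.symm y ∈ (σ.comp ψ.toMonoidHom).ker := by
    show σ (ψ (ψ.symm y)) = 1
    rw [ψ.apply_symm_apply]; exact hy
  rw [h, mem_bot] at h1
  rw [mem_bot, ← ψ.apply_symm_apply y, h1, map_one]

/-- The two kinds of perfect almost cyclic groups. -/
inductive Shape (X : Type u) [Group X] (F : Type) [Field F] [Fintype F] : Prop where
  | psl (e : Nonempty (X ≃* Matrix.ProjectiveSpecialLinearGroup (Fin 2) F)) (a b : X) (ha : orderOf a = 2)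
      (hb : orderOf b = 2) (hab : a * b = b * a) (hne : a ≠ b)
  | sl (e : Nonempty (X ≃* Matrix.SpecialLinearGroup (Fin 2) F)) (Q : Subgroup X) (n : ℕ) (hn : 1 ≤ n)
      (hQ : Nonempty (Q ≃* QuaternionGroup (2 ^ n)))

theorem dihedral_four {T : Type u} [Group T] [Finite T] (hT : IsPGroup 2 T) {n : ℕ} (hn : 2 ≤ n)
    (e : T ≃* DihedralGroup n) :
    ∃ a b : T, orderOf a = 2 ∧ orderOf b = 2 ∧ a * b = b * a ∧ a ≠ b := by
  haveI : Fact (Nat.Prime 2) := ⟨Nat.prime_two⟩
  obtain ⟨j, hj⟩ := IsPGroup.iff_card.1 hT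
  rw [Nat.card_congr e.toEquiv, DihedralGroup.nat_card] at hj
  obtain ⟨k, rfl⟩ : 2 ∣ n := by
    rcases j with _ | _ | j
    · omega
    · omega
    · exact ⟨2 ^ j, by rw [pow_succ', pow_succ'] at hj; omega⟩
  haveI : NeZero (2 * k) := ⟨by omega⟩
  have hk0 : (k : ZMod (2 * k)) + k = 0 := by
    rw [← Nat.cast_add, ZMod.natCast_eq_zero_iff]; exact ⟨1, by omega⟩
  have hk1 : (k : ZMod (2 * k)) ≠ 0 := by
    rw [Ne, ZMod.natCast_eq_zero_iff]
    exact fun h => by have := Nat.le_of_dvd (by omega) h; omega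
  refine ⟨e.symm (DihedralGroup.sr 0), e.symm (DihedralGroup.r (k : ZMod (2 * k))), ?_, ?_, ?_, fun h => ?_⟩
  · rw [e.symm.orderOf_eq, DihedralGroup.orderOf_sr]
  · rw [e.symm.orderOf_eq]
    refine orderOf_eq_prime (by rw [sq, DihedralGroup.r_mul_r, hk0, ← DihedralGroup.one_def]) ?_
    rw [DihedralGroup.one_def, Ne, DihedralGroup.r.injEq]
    exact hk1
  · rw [← map_mul, ← map_mul, DihedralGroup.sr_mul_r, DihedralGroup.r_mul_sr]
    congr 2
    rw [zero_add, zero_sub]
    exact (neg_eq_of_add_eq_zero_left hk0).symm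
  · exact nomatch e.symm.injective h

theorem gw_psl (hGW : Statement.{u}) {Y : Type u} [Group Y] [Finite Y] [Group.IsPerfect Y] (S : Sylow 2 Y)
    {n : ℕ} (hn : 2 ≤ n) (e : Nonempty ((S : Subgroup Y) ≃* DihedralGroup n))
    (h : ∀ p : ℕ, p.Prime → p ≠ 2 → ∀ P : Sylow p Y, IsCyclic P) :
    ∃ (F : Type) (_ : Field F) (_ : Fintype F), (Fintype.card F).Prime ∧ 5 ≤ Fintype.card F ∧
      Nonempty (Y ⧸ Cfsg.oddCore Y ≃* Matrix.ProjectiveSpecialLinearGroup (Fin 2) F) := by
  rcases hGW Y S n hn e with ⟨F, iF, iFF, hodd, h3, ⟨q⟩⟩ | ⟨⟨q⟩⟩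
  · refine ⟨F, iF, iFF, card_prime_of_cyclic hodd q fun p hp hp2 => ?_, ?_, ⟨q⟩⟩
    · haveI := Fact.mk hp
      exact cyclic_sylow_quotient (h p hp hp2) (QuotientGroup.mk'_surjective (Cfsg.oddCore Y))
    · obtain ⟨k, hk⟩ := hodd; omega
  · exfalso
    haveI : Fact (Nat.Prime 3) := ⟨Nat.prime_three⟩
    have h3 : ∀ P : Sylow 3 (alternatingGroup (Fin 7)), IsCyclic P :=
      cyclic_sylow_quotient (h 3 Nat.prime_three (by norm_num))
        (f := q.toMonoidHom.comp (QuotientGroup.mk' (Cfsg.oddCore Y)))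
        (q.surjective.comp (QuotientGroup.mk'_surjective _))
    let c : Equiv.Perm (Fin 7) := c[0, 1, 2]
    let d : Equiv.Perm (Fin 7) := c[3, 4, 5]
    let a : alternatingGroup (Fin 7) := ⟨c, Equiv.Perm.mem_alternatingGroup.2 (by decide)⟩
    let b : alternatingGroup (Fin 7) := ⟨d, Equiv.Perm.mem_alternatingGroup.2 (by decide)⟩
    have ha : orderOf a = 3 := orderOf_eq_prime (by decide) (by decide)
    have hb : orderOf b = 3 := orderOf_eq_prime (by decide) (by decide)
    have hm := pair_mem_zpowers h3 ha hb (show a * b = b * a by decide)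
    obtain ⟨i, hi⟩ := mem_zpowers_iff.1 hm
    rw [← zpow_mod_orderOf, ha] at hi
    rcases (show i % ((3 : ℕ) : ℤ) = 0 ∨ i % ((3 : ℕ) : ℤ) = 1 ∨ i % ((3 : ℕ) : ℤ) = 2 by omega) with h' | h' | h'
    all_goals
      rw [h'] at hi
      revert hi
      decide

theorem perfect_shape (hGW : Statement.{u}) (hSD : SDExclusion.{u}) {X : Type u} [Group X] [Finite X]
    [Group.IsPerfect X] [Nontrivial X] (h : AlmostCyclic X) :
    ∃ (F : Type) (_ : Field F) (_ : Fintype F), (Fintype.card F).Prime ∧ 5 ≤ Fintype.card F ∧ Shape X F := by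
  obtain ⟨S⟩ : Nonempty (Sylow 2 X) := inferInstance
  have hcen := oddCore_le_center h.odd
  rcases sylow_cases h S with ⟨n, hn, he⟩ | hq | ⟨n, hn, ⟨e⟩⟩
  · obtain ⟨F, iF, iFF, hF, h5, ⟨q⟩⟩ := gw_psl hGW S hn he h.odd
    letI := iF
    letI := iFF
    let σ : X →* Matrix.ProjectiveSpecialLinearGroup (Fin 2) F := q.toMonoidHom.comp (QuotientGroup.mk' _)
    have hk : σ.ker = Cfsg.oddCore X := by ext; simp [σ]
    have hbot := psl_kernel hF h5 σ (q.surjective.comp (QuotientGroup.mk'_surjective _)) (hk ▸ hcen)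
      (hk ▸ DGroup.odd_oddCore X)
    obtain ⟨a, b, ha, hb, hab, hne⟩ := dihedral_four S.2 hn he.some
    refine ⟨F, iF, iFF, hF, h5, Shape.psl ⟨MulEquiv.ofBijective σ
      ⟨(MonoidHom.ker_eq_bot_iff _).1 hbot, q.surjective.comp (QuotientGroup.mk'_surjective _)⟩⟩ a b
      (by rwa [Subgroup.orderOf_coe]) (by rwa [Subgroup.orderOf_coe]) (congrArg Subtype.val hab)
      fun h' => hne (Subtype.ext h')⟩
  · exact (hSD X S hq h.odd).elim
  · obtain ⟨hz2, hO, T, hT⟩ := quaternion_mod_core hn S e
    haveI : Group.IsPerfect (X ⧸ Cfsg.oddCore X) :=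
      Group.IsPerfect.ofSurjective (f := QuotientGroup.mk' _) (QuotientGroup.mk'_surjective _)
    haveI : Group.IsPerfect ((X ⧸ Cfsg.oddCore X) ⧸ center (X ⧸ Cfsg.oddCore X)) :=
      Group.IsPerfect.ofSurjective (f := QuotientGroup.mk' _) (QuotientGroup.mk'_surjective _)
    obtain ⟨F, iF, iFF, hF, h5, ⟨q⟩⟩ := gw_psl hGW T (Nat.le_self_pow (by omega) 2) hT fun p hp hp2 => by
      haveI := Fact.mk hp
      exact cyclic_sylow_quotient (cyclic_sylow_quotient (h.odd p hp hp2) (QuotientGroup.mk'_surjective _))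
        (QuotientGroup.mk'_surjective _)
    letI := iF
    letI := iFF
    set Y := X ⧸ Cfsg.oddCore X
    let ι : Y ⧸ center Y ≃* Matrix.ProjectiveSpecialLinearGroup (Fin 2) F :=
      ((QuotientGroup.quotientMulEquivOfEq hO).trans QuotientGroup.quotientBot).symm.trans q
    have hk : (ι.toMonoidHom.comp (QuotientGroup.mk' (center Y))).ker = center Y := by
      ext x; simp
    obtain ⟨eY⟩ := cover_sl (hF.odd_of_ne_two (by omega)) (by omega) Group.IsPerfect.commutator_eq_top
      (ι.toMonoidHom.comp (QuotientGroup.mk' (center Y)))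
      (ι.surjective.comp (QuotientGroup.mk'_surjective _)) hk.le (by rw [hk]; exact hz2)
    let σ : X →* Matrix.SpecialLinearGroup (Fin 2) F := eY.toMonoidHom.comp (QuotientGroup.mk' _)
    have hσk : σ.ker = Cfsg.oddCore X := by ext; simp [σ, Y]
    have hbot := sl_kernel hF h5 σ (eY.surjective.comp (QuotientGroup.mk'_surjective _)) (hσk ▸ hcen)
    exact ⟨F, iF, iFF, hF, h5, Shape.sl ⟨MulEquiv.ofBijective σ
      ⟨(MonoidHom.ker_eq_bot_iff _).1 hbot, eY.surjective.comp (QuotientGroup.mk'_surjective _)⟩⟩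
      (S : Subgroup X) n hn ⟨e⟩⟩

/-! ### Assembly -/

theorem out_psl_card_prime {F : Type} [Field F] [Fintype F] (hF : (Fintype.card F).Prime)
    (h5 : 5 ≤ Fintype.card F) :
    Nat.card (Cfsg.Out (Matrix.ProjectiveSpecialLinearGroup (Fin 2) F)) = 2 := by
  obtain ⟨φ, hφ, -, hcard⟩ := AutPSL.inndiag_mod_inn le_rfl (AutPSL.fieldData (F := F))
    AutPSL.fieldData_surjective AutPSL.ker_fieldData
  haveI := Fact.mk hF
  obtain ⟨eA⟩ := AutPSL.nonempty_ringAut_equiv (F := F) (p := Fintype.card F) le_rfl (pow_one _).symm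
  rw [AutPSL.card_eq_card_mul_ker φ hφ, hcard, Nat.card_congr eA.toEquiv,
    Nat.card_congr Multiplicative.toAdd, Nat.card_zmod, Nat.card_eq_fintype_card (α := F), one_mul]
  refine Nat.gcd_eq_left ?_
  obtain ⟨k, hk⟩ := hF.odd_of_ne_two (by omega)
  omega

variable {G : Type u} [Group G] [Finite G]

/-- An element centralizing a quaternion group, with fourth power trivial, lies in it. -/
theorem mem_of_centralizes_quaternion (h : AlmostCyclic G) {Q : Subgroup G} {n : ℕ}
    (e : Q ≃* QuaternionGroup (2 ^ n)) (hn : 1 ≤ n) {c : G} (hc : ∀ q ∈ Q, c * q = q * c) (hc4 : c ^ 4 = 1) :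
    c ∈ Q := by
  haveI : Fact (Nat.Prime 2) := ⟨Nat.prime_two⟩
  obtain ⟨hp, z, hz, huniq, hzc, -⟩ := InvChar.quaternion_facts n hn
  have hQ : IsPGroup 2 Q := hp.of_equiv e.symm
  have hCp : IsPGroup 2 (zpowers c) := by
    have hd : orderOf c ∣ 2 ^ 2 := by norm_num; exact orderOf_dvd_of_pow_eq_one hc4
    obtain ⟨j, -, hj⟩ := (Nat.dvd_prime_pow Nat.prime_two).1 hd
    exact IsPGroup.of_card (n := j) (by rw [Nat.card_zpowers, hj])
  have hU : IsPGroup 2 (Q ⊔ zpowers c : Subgroup G) := by
    refine hQ.to_sup_of_normal_left' hCp (zpowers_le.2 ?_)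
    rw [mem_normalizer_iff]
    intro q
    constructor <;> intro hq
    · rw [hc q hq, mul_inv_cancel_right]; exact hq
    · have := hc _ hq
      rw [← mul_assoc] at this
      have h' : c * q = c * (c * q * c⁻¹) := by rw [← mul_assoc, this]; group
      rw [mul_left_cancel h']; exact hq
  obtain ⟨S, hS⟩ := hU.exists_le_sylow
  obtain ⟨C, hC, hi⟩ := h.two S
  haveI := hC
  set D := C.map (S : Subgroup G).subtype
  haveI : IsCyclic D := isCyclic_of_surjective _ ((S : Subgroup G).subtype.subgroupMap_surjective C)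
  have hDc : ∀ {x y : G}, x ∈ D → y ∈ D → x * y = y * x := fun hx hy =>
    congrArg Subtype.val (IsMulCommutative.is_comm.comm (⟨_, hx⟩ : D) ⟨_, hy⟩)
  have hmul : ∀ {x y : G}, x ∈ (S : Subgroup G) → y ∈ (S : Subgroup G) → x ∉ D → y ∉ D → x * y ∈ D := by
    intro x y hx hy hxD hyD
    have h2 : C.index = 2 := ((Nat.dvd_prime Nat.prime_two).1 hi).resolve_left fun h1 => hxD (by
      rw [index_eq_one] at h1
      exact ⟨⟨x, hx⟩, h1 ▸ mem_top _, rfl⟩)
    refine ⟨⟨x, hx⟩ * ⟨y, hy⟩, (mul_mem_iff_of_index_two h2).2 (iff_of_false ?_ ?_), rfl⟩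
    · exact fun h' => hxD ⟨_, h', rfl⟩
    · exact fun h' => hyD ⟨_, h', rfl⟩
  have hQS : Q ≤ (S : Subgroup G) := le_sup_left.trans hS
  have hcS : c ∈ (S : Subgroup G) := hS (mem_sup_right (mem_zpowers c))
  obtain ⟨u, hu, v, hv, huv⟩ := quaternion_noncomm e hn
  -- a pair `q ∈ D`, `p ∉ D` in `Q` not commuting
  obtain ⟨q, hq, hqD, p, hp, hpD, hqp⟩ : ∃ q ∈ Q, q ∈ D ∧ ∃ p ∈ Q, p ∉ D ∧ q * p ≠ p * q := by
    by_cases huD : u ∈ D
    · exact ⟨u, hu, huD, v, hv, fun hvD => huv (hDc huD hvD), huv⟩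
    by_cases hvD : v ∈ D
    · exact ⟨v, hv, hvD, u, hu, huD, fun h' => huv h'.symm⟩
    refine ⟨u * v, mul_mem hu hv, hmul (hQS hu) (hQS hv) huD hvD, u, hu, huD, fun h' => huv ?_⟩
    rw [mul_assoc] at h'
    exact (mul_left_cancel h').symm
  by_cases hcD : c ∈ D
  · -- a power of `q` has order four
    obtain ⟨j, hj⟩ := IsPGroup.iff_orderOf.1 hQ ⟨q, hq⟩
    rw [Subgroup.orderOf_mk] at hj
    have hj2 : 2 ≤ j := by
      by_contra hlt
      interval_cases j
      · exact hqp (by rw [orderOf_eq_one_iff.1 (hj.trans (pow_zero 2)), one_mul, mul_one])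
      · refine hqp (congrArg Subtype.val (e.injective (?_ : e (⟨q, hq⟩ * ⟨p, hp⟩) = e (⟨p, hp⟩ * ⟨q, hq⟩))))
        have hqz : e ⟨q, hq⟩ = z := huniq _ (by rw [e.orderOf_eq, Subgroup.orderOf_mk, hj, pow_one])
        rw [map_mul, map_mul, hqz, hzc]
    have hr : orderOf (q ^ 2 ^ (j - 2)) = 4 := by
      rw [orderOf_pow' q (pow_ne_zero _ two_ne_zero), hj, Nat.gcd_eq_right (pow_dvd_pow _ (Nat.sub_le _ _)),
        Nat.pow_div (Nat.sub_le _ _) two_pos, show j - (j - 2) = 2 by omega]
      norm_num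
    exact zpowers_le.2 (pow_mem hq _) (mem_zpowers_of_cyclic (pow_mem hqD _) hcD (by rw [hr, hc4]))
  · exfalso
    have h1 := hDc hqD (hmul hcS (hQS hp) hcD hpD)
    refine hqp (mul_left_cancel (a := c) ?_)
    calc c * (q * p) = c * q * p := by group
      _ = q * c * p := by rw [hc q hq]
      _ = q * (c * p) := by group
      _ = c * p * q := h1
      _ = c * (p * q) := by group

/-- Three independent commuting involutions are impossible. -/
theorem no_three_invol (h : AlmostCyclic G) {a b c : G} (ha : orderOf a = 2) (hb : orderOf b = 2)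
    (hc : orderOf c = 2) (hab : a * b = b * a) (hac : a * c = c * a) (hbc : b * c = c * b) (hne : a ≠ b) :
    c = a ∨ c = b ∨ c = a * b := by
  haveI : Fact (Nat.Prime 2) := ⟨Nat.prime_two⟩
  haveI : IsMulCommutative (closure ({a, b, c} : Set G)) := isMulCommutative_closure (by
    rintro x (rfl | rfl | rfl) w (rfl | rfl | rfl) <;>
      first | rfl | exact hab | exact hab.symm | exact hac | exact hac.symm | exact hbc | exact hbc.symm)
  set E := closure ({a, b, c} : Set G)
  have hE : ∀ x ∈ E, x * x = 1 := fun x hx => by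
    refine closure_induction (p := fun x _ => x * x = 1) ?_ (one_mul 1) ?_ ?_ hx
    · rintro x (rfl | rfl | rfl)
      exacts [Invol.mul_self_eq_one ha, Invol.mul_self_eq_one hb, Invol.mul_self_eq_one hc]
    · intro x w hx hw h1 h2
      have hcw : w * x = x * w := setLike_mul_comm hw hx
      calc x * w * (x * w) = x * (w * x) * w := by group
        _ = x * x * (w * w) := by rw [hcw]; group
        _ = 1 := by rw [h1, h2, one_mul]
    · intro x _ h1; rw [← mul_inv_rev, h1, inv_one]
  obtain ⟨S, hS⟩ := (show IsPGroup 2 E from fun x => ⟨1, Subtype.ext (by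
    rw [pow_one, SubmonoidClass.coe_pow, sq]; exact hE x x.2)⟩).exists_le_sylow
  obtain ⟨C, hC, hi⟩ := h.two S
  haveI := hC
  let f : E →* (S : Subgroup G) := inclusion hS
  have hk : ∀ x y : E, f x ∈ C → f y ∈ C → x ≠ 1 → y ≠ 1 → x = y := by
    intro x y hx hy hx1 hy1
    have h2 : ∀ w : E, w ≠ 1 → orderOf (f w) = 2 := fun w hw => orderOf_eq_prime
      (by rw [sq, ← map_mul]; exact (congrArg f (Subtype.ext (hE w w.2) : w * w = 1)).trans (map_one f))
      fun h' => hw (inclusion_injective hS (h'.trans (map_one f).symm))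
    obtain ⟨i, hi'⟩ := mem_zpowers_iff.1 (mem_zpowers_of_cyclic hx hy (by
      rw [(h2 x hx1).trans (h2 y hy1).symm]; exact pow_orderOf_eq_one _))
    rw [← zpow_mod_orderOf, h2 x hx1] at hi'
    rcases Int.emod_two_eq i with e | e <;> push_cast at hi' <;> rw [e] at hi'
    · exact absurd (inclusion_injective hS ((hi'.symm.trans (zpow_zero _)).trans (map_one f).symm)) hy1
    · exact inclusion_injective hS ((zpow_one _).symm.trans hi')
  -- two involutions agree modulo the cyclic subgroup only if their product is its involution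
  let A : E := ⟨a, subset_closure (by simp)⟩
  let B : E := ⟨b, subset_closure (by simp)⟩
  let W : E := ⟨c, subset_closure (by simp)⟩
  have hA : A ≠ 1 := fun h' => Invol.ne_one ha (congrArg Subtype.val h')
  have hB : B ≠ 1 := fun h' => Invol.ne_one hb (congrArg Subtype.val h')
  have hW : W ≠ 1 := fun h' => Invol.ne_one hc (congrArg Subtype.val h')
  have hinv : ∀ x : E, x⁻¹ = x := fun x => inv_eq_of_mul_eq_one_right (Subtype.ext (hE x x.2))
  have hpair : ∀ x y : E, x * y = 1 → y = x := fun x y h' => by rw [← inv_eq_of_mul_eq_one_right h', hinv]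
  have hmul : ∀ x y : E, f x ∉ C → f y ∉ C → f (x * y) ∈ C := by
    intro x y hx hy
    have h2 : C.index = 2 := ((Nat.dvd_prime Nat.prime_two).1 hi).resolve_left fun h1 => hx (by
      rw [index_eq_one.1 h1]; exact mem_top _)
    rw [map_mul]
    exact (mul_mem_iff_of_index_two h2).2 (iff_of_false hx hy)
  have hAB : A ≠ B := fun h' => hne (congrArg Subtype.val h')
  by_contra hall
  push Not at hall
  have h1 : W ≠ A := fun h' => hall.1 (congrArg Subtype.val h')
  have h2 : W ≠ B := fun h' => hall.2.1 (congrArg Subtype.val h')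
  have h3 : W ≠ A * B := fun h' => hall.2.2 (congrArg Subtype.val h')
  by_cases cA : f A ∈ C <;> by_cases cB : f B ∈ C <;> by_cases cW : f W ∈ C
  all_goals first
    | exact hAB (hk _ _ cA cB hA hB)
    | exact h1 (hk _ _ cW cA hW hA)
    | exact h2 (hk _ _ cW cB hW hB)
    | exact h3 (hk _ _ cW (hmul _ _ cA cB) hW fun h' => hAB (hpair _ _ h').symm)
    | skip
  -- remaining: at least two of them lie outside
  · refine h3 ?_
    have h4 : A = B * W := hk _ _ cA (hmul _ _ cB cW) hA fun h' => h2 (hpair _ _ h')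
    rw [h4, mul_comm' (G := E) B W, mul_assoc, show B * B = 1 from Subtype.ext (hE B B.2), mul_one]
  · refine h3 ?_
    have h4 : B = A * W := hk _ _ cB (hmul _ _ cA cW) hB fun h' => h1 (hpair _ _ h')
    rw [h4, ← mul_assoc, show A * A = 1 from Subtype.ext (hE A A.2), one_mul]
  · have h4 : A * B = A * W := hk _ _ (hmul _ _ cA cB) (hmul _ _ cA cW)
      (fun h' => hAB (hpair _ _ h').symm) fun h' => h1 (hpair _ _ h')
    exact h2 (mul_left_cancel h4).symm
where
  mul_comm' {G : Type u} [Group G] [IsMulCommutative G] (x y : G) : x * y = y * x :=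
    IsMulCommutative.is_comm.comm x y

/-- The 2-elements centralizing the perfect residual lie in it. -/
theorem two_elements {R : Subgroup G} [R.Normal] (h : AlmostCyclic G) {F : Type} [Field F] [Fintype F]
    (hF : (Fintype.card F).Prime) (h5 : 5 ≤ Fintype.card F) (hsh : Shape R F) {c : G}
    (hc : c ∈ centralizer (R : Set G)) {k : ℕ} (hk : orderOf c = 2 ^ k) : c ∈ R := by
  induction k generalizing c with
  | zero => rw [orderOf_eq_one_iff.1 (hk.trans (pow_zero 2))]; exact one_mem _
  | succ k ih =>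
    have h2o : orderOf (c ^ 2) = 2 ^ k := by
      rw [orderOf_pow' c two_ne_zero, hk, Nat.gcd_eq_right (dvd_pow_self 2 k.succ_ne_zero), pow_succ,
        Nat.mul_div_cancel _ two_pos]
    have h2R := ih (pow_mem hc 2) h2o
    have hcen : (⟨c ^ 2, h2R⟩ : R) ∈ center R := mem_center_iff.2 fun r =>
      Subtype.ext (mem_centralizer_iff.1 (pow_mem hc 2) r r.2)
    rcases hsh with ⟨⟨e⟩, a, b, ha, hb, hab, hne⟩ | ⟨⟨e⟩, Q, n, hn, ⟨eQ⟩⟩
    · haveI : IsSimpleGroup (Matrix.ProjectiveSpecialLinearGroup (Fin 2) F) :=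
        CfsgLib.Linear.isSimpleGroup_PSL (Or.inr (CfsgLib.Linear.Small.exists_sq_ne_one (F := F) (by omega)))
      have hc1 : (⟨c ^ 2, h2R⟩ : R) = 1 := by
        haveI : IsSimpleGroup R := e.isSimpleGroup
        rcases (inferInstance : (center R).Normal).eq_bot_or_eq_top with h1 | h1
        · rwa [h1, mem_bot] at hcen
        · exfalso
          haveI : IsMulCommutative R := ⟨⟨fun x y => (mem_center_iff.1 (h1 ▸ mem_top x) y).symm⟩⟩
          letI : CommGroup R := IsMulCommutative.instCommGroup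
          obtain hd | hd := (zpowers a).normal_of_isMulCommutative.eq_bot_or_eq_top
          · exact Invol.ne_one ha (zpowers_eq_bot.1 hd)
          · obtain ⟨i, hi⟩ := mem_zpowers_iff.1 (hd ▸ mem_top b : b ∈ zpowers a)
            rw [← zpow_mod_orderOf, ha] at hi
            rcases Int.emod_two_eq i with e' | e' <;> push_cast at hi <;> rw [e'] at hi
            · exact Invol.ne_one hb (hi.symm.trans (zpow_zero _))
            · exact hne ((zpow_one a).symm.trans hi)
      have hc2 : c ^ 2 = 1 := congrArg Subtype.val hc1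
      by_cases hc0 : c = 1
      · rw [hc0]; exact one_mem _
      have hco : orderOf c = 2 := orderOf_eq_prime hc2 hc0
      rcases no_three_invol h (a := (a : G)) (b := (b : G)) (c := c) ((Subgroup.orderOf_coe a).trans ha)
          ((Subgroup.orderOf_coe b).trans hb) hco (congrArg Subtype.val hab)
          (mem_centralizer_iff.1 hc a a.2) (mem_centralizer_iff.1 hc b b.2) (fun h' => hne (Subtype.ext h'))
        with rfl | rfl | rfl
      exacts [a.2, b.2, mul_mem a.2 b.2]
    · have hz2 : Nat.card (center R) = 2 := by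
        rw [Nat.card_congr (Subgroup.centerCongr e).toEquiv, CfsgLib.Linear.card_center_SL, Fintype.card_fin,
          Nat.card_eq_fintype_card (α := F)]
        refine Nat.gcd_eq_left ?_
        obtain ⟨j, hj⟩ := hF.odd_of_ne_two (by omega)
        omega
      have h4 : c ^ 4 = 1 := by
        have h := pow_card_eq_one' (x := (⟨_, hcen⟩ : center R))
        rw [hz2] at h
        have h' := congrArg (fun x : center R => ((x : R) : G)) h
        simpa [← pow_mul] using h'
      exact map_subtype_le Q (mem_of_centralizes_quaternion h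
        ((equivMapOfInjective Q R.subtype R.subtype_injective).symm.trans eQ) hn
        (fun q hq => (mem_centralizer_iff.1 hc q (map_subtype_le Q hq)).symm) h4)

theorem centralizer_index {R : Subgroup G} [R.Normal] {F : Type} [Field F] [Fintype F]
    (hF : (Fintype.card F).Prime) (h5 : 5 ≤ Fintype.card F) (hsh : Shape R F) :
    (centralizer (R : Set G) ⊔ R).index ∣ 2 := by
  set P := Matrix.ProjectiveSpecialLinearGroup (Fin 2) F
  have key : ∀ ψ : G →* MulAut P, ψ.ker ≤ centralizer (R : Set G) → (∀ p : P, ∃ r ∈ R, ψ r = MulAut.conj p) →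
      (centralizer (R : Set G) ⊔ R).index ∣ 2 := by
    intro ψ hker hinn
    let Φ : G →* Cfsg.Out P := (QuotientGroup.mk' _).comp ψ
    have hle : Φ.ker ≤ centralizer (R : Set G) ⊔ R := fun g hg => by
      obtain ⟨p, hp⟩ := (QuotientGroup.eq_one_iff _).1 (MonoidHom.mem_ker.1 hg)
      obtain ⟨r, hr, hre⟩ := hinn p
      have h1 : g * r⁻¹ ∈ ψ.ker := by rw [MonoidHom.mem_ker, map_mul, map_inv, hre, ← hp, mul_inv_cancel]
      have := mul_mem (mem_sup_left (T := R) (hker h1)) (mem_sup_right hr)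
      rwa [inv_mul_cancel_right] at this
    refine (index_dvd_of_le hle).trans ?_
    rw [index_ker]
    exact (card_subgroup_dvd_card _).trans (dvd_of_eq (out_psl_card_prime hF h5))
  rcases hsh with ⟨⟨e⟩, -⟩ | ⟨⟨e⟩, -⟩
  · refine key ((MulAut.congr e).toMonoidHom.comp MulAut.conjNormal) (fun g hg => ?_) fun p => ?_
    · have h1 : MulAut.conjNormal (H := R) g = 1 :=
        (MulAut.congr e).injective ((MonoidHom.mem_ker.1 hg).trans (map_one _).symm)
      refine mem_centralizer_iff.2 fun r hr => ?_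
      have h' := congrArg Subtype.val (DFunLike.congr_fun h1 ⟨r, hr⟩)
      rw [MulAut.conjNormal_apply, MulAut.one_apply] at h'
      exact (mul_inv_eq_iff_eq_mul.1 h').symm
    · refine ⟨(e.symm p : R), (e.symm p).2, MulEquiv.ext fun x => ?_⟩
      show e (MulAut.conjNormal (e.symm p : G) (e.symm x)) = p * x * p⁻¹
      rw [show MulAut.conjNormal (e.symm p : G) (e.symm x) = e.symm p * e.symm x * (e.symm p)⁻¹ from
        Subtype.ext (MulAut.conjNormal_apply _ _), map_mul, map_mul, map_inv, e.apply_symm_apply, e.apply_symm_apply]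
  · let e' : R ⧸ center R ≃* P := QuotientGroup.congr (center R) (center _) e (by
      ext y
      rw [mem_map, mem_center_iff]
      constructor
      · rintro ⟨l, hl, rfl⟩ g
        obtain ⟨g', rfl⟩ := e.surjective g
        show e g' * e l = e l * e g'
        rw [← map_mul, ← map_mul, mem_center_iff.1 hl g']
      · intro hy
        refine ⟨e.symm y, mem_center_iff.2 fun g => e.injective ?_, e.apply_symm_apply y⟩
        rw [map_mul, map_mul, e.apply_symm_apply, hy])
    have hz2 : Nat.card (center R) = 2 := by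
      rw [Nat.card_congr (Subgroup.centerCongr e).toEquiv, CfsgLib.Linear.card_center_SL, Fintype.card_fin,
        Nat.card_eq_fintype_card (α := F)]
      refine Nat.gcd_eq_left ?_
      obtain ⟨j, hj⟩ := hF.odd_of_ne_two (by omega)
      omega
    have hnt : ∀ H : Subgroup R, H.index ≠ 2 := no_index_two_of_surj (f := e.symm.toMonoidHom) e.symm.surjective
      (no_index_two_of_perfect (CfsgLib.Linear.commutator_SL_eq_top
        (Or.inr (CfsgLib.Linear.Small.exists_sq_ne_one (F := F) (by omega)))))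
    refine key ((MulAut.congr e').toMonoidHom.comp ((quotCenterAut R).comp MulAut.conjNormal))
      (fun g hg => centralizer_of_quot hnt hz2
        ((MulAut.congr e').injective ((MonoidHom.mem_ker.1 hg).trans (map_one _).symm))) fun p => ?_
    obtain ⟨q, rfl⟩ := e'.surjective p
    obtain ⟨l, rfl⟩ := QuotientGroup.mk_surjective q
    refine ⟨l, l.2, MulEquiv.ext fun x => ?_⟩
    obtain ⟨y, rfl⟩ := e'.surjective x
    obtain ⟨y, rfl⟩ := QuotientGroup.mk_surjective y
    show e' (quotCenterAut R (MulAut.conjNormal (l : G)) (e'.symm (e' y))) = e' l * e' y * (e' l)⁻¹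
    rw [e'.symm_apply_apply, quotCenterAut_apply, ← map_inv, ← map_mul, ← map_mul]
    exact congrArg e' (congrArg QuotientGroup.mk (Subtype.ext (MulAut.conjNormal_apply _ _)))

/-- S4069 from the Gorenstein–Walter theorem and the semidihedral exclusion. -/
theorem almost_cyclic (hGW : Statement.{u}) (hSD : SDExclusion.{u}) (hns : ¬ Group.IsSolvable G)
    (h : AlmostCyclic G) :
    ∃ G₀ : Subgroup G, G₀.Normal ∧ G₀.index ∣ 2 ∧
      ∃ X L : Subgroup ↥G₀, X.Normal ∧ L.Normal ∧ X ⊓ L = ⊥ ∧ X ⊔ L = ⊤ ∧ (Nat.card X).Coprime (Nat.card L) ∧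
        Odd (Nat.card X) ∧ (∃ (C : Subgroup ↥X) (_ : C.Normal), IsCyclic C ∧ IsCyclic (↥X ⧸ C)) ∧
        ∃ (p : ℕ) (_ : Fact p.Prime), 5 ≤ p ∧
          (Nonempty (↥L ≃* Matrix.ProjectiveSpecialLinearGroup (Fin 2) (ZMod p)) ∨
           Nonempty (↥L ≃* Matrix.SpecialLinearGroup (Fin 2) (ZMod p))) := by
  classical
  obtain ⟨R, hRn, hRp, hRs⟩ := exists_perfect_residual G
  haveI := hRn
  haveI := hRp
  haveI : Nontrivial R := by
    rw [← not_subsingleton_iff_nontrivial]
    intro hsub
    have hRsol : Group.IsSolvable R := inferInstance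
    exact hns ((Group.isSolvable_iff_subgroup_quotient R).2 ⟨hRsol, hRs⟩)
  obtain ⟨F, iF, iFF, hF, h5, hsh⟩ := perfect_shape hGW hSD (h.subgroup R)
  letI := iF
  letI := iFF
  set C := centralizer (R : Set G)
  -- the odd part of the centralizer
  haveI : Fact (Nat.Prime 2) := ⟨Nat.prime_two⟩
  obtain ⟨T⟩ : Nonempty (Sylow 2 C) := inferInstance
  have hT : ∀ x : (T : Subgroup C), ((x : C) : G) ∈ R := fun x => by
    obtain ⟨k, hk⟩ := IsPGroup.iff_orderOf.1 T.2 x
    exact two_elements h hF h5 hsh (x : C).2 (by rw [Subgroup.orderOf_coe, Subgroup.orderOf_coe]; exact hk)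
  have hTc : IsCyclic (T : Subgroup C) := by
    haveI : IsCyclic (center R) := by
      rcases hsh with ⟨⟨e⟩, -⟩ | ⟨⟨e⟩, -⟩
      · haveI : IsSimpleGroup (Matrix.ProjectiveSpecialLinearGroup (Fin 2) F) :=
          CfsgLib.Linear.isSimpleGroup_PSL (Or.inr (CfsgLib.Linear.Small.exists_sq_ne_one (F := F) (by omega)))
        haveI : IsSimpleGroup R := e.isSimpleGroup
        rcases (inferInstance : (center R).Normal).eq_bot_or_eq_top with h1 | h1
        · rw [h1]; infer_instance
        · haveI : IsMulCommutative R := ⟨⟨fun x y => (mem_center_iff.1 (h1 ▸ mem_top x) y).symm⟩⟩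
          letI : CommGroup R := IsMulCommutative.instCommGroup
          exact absurd (inferInstance : Group.IsSolvable R) (Group.IsPerfect.not_isSolvable R)
      · haveI : Fact (Nat.Prime 2) := ⟨Nat.prime_two⟩
        refine isCyclic_of_prime_card (p := 2) ?_
        rw [Nat.card_congr (Subgroup.centerCongr e).toEquiv, CfsgLib.Linear.card_center_SL, Fintype.card_fin,
          Nat.card_eq_fintype_card (α := F)]
        refine Nat.gcd_eq_left ?_
        obtain ⟨j, hj⟩ := hF.odd_of_ne_two (by omega)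
        omega
    let f : (T : Subgroup C) →* center R := MonoidHom.mk'
      (fun x => ⟨⟨((x : C) : G), hT x⟩, mem_center_iff.2 fun r =>
        Subtype.ext (mem_centralizer_iff.1 (x : C).2 r r.2)⟩) fun _ _ => rfl
    exact isCyclic_of_injective f fun a b hab => Subtype.ext (Subtype.ext
      (congrArg (fun q : center R => ((q : R) : G)) hab :))
  obtain ⟨P, K, hK, hc⟩ :=
    LocalB.HSub.hasNormalPComplement_of_cyclic (p := 2) (fun q hq _ => hq.two_le) T hTc
  have hKodd : Odd (Nat.card K) := by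
    rw [Nat.odd_iff, ← Nat.two_dvd_ne_zero, ← hc.index_eq_card]
    exact P.not_dvd_index
  haveI : (Cfsg.oddCore C).Characteristic := characteristic_iff_map_le.2 fun φ => by
    refine DGroup.le_oddCore (Normal.map inferInstance _ φ.surjective) ?_
    rw [card_map_of_injective (show Function.Injective φ.toMonoidHom from φ.injective)]
    exact DGroup.odd_oddCore C
  set X := (Cfsg.oddCore C).map C.subtype
  haveI : X.Normal := inferInstance
  have hXodd : Odd (Nat.card X) := by
    rw [card_map_of_injective C.subtype_injective]; exact DGroup.odd_oddCore C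
  have hXR : X ⊔ R = C ⊔ R := by
    refine le_antisymm (sup_le ((map_subtype_le _).trans le_sup_left) le_sup_right) (sup_le (fun c hcC => ?_) le_sup_right)
    obtain ⟨⟨⟨k, hk⟩, ⟨s, hs⟩⟩, hks⟩ := hc.2 ⟨c, hcC⟩
    have hs' : ((s : C) : G) ∈ R := by
      obtain ⟨j, hj⟩ := IsPGroup.iff_orderOf.1 P.2 ⟨s, hs⟩
      refine two_elements h hF h5 hsh (k := j) s.2 ?_
      rw [Subgroup.orderOf_mk] at hj
      rw [Subgroup.orderOf_coe, hj]
    have hk' : ((k : C) : G) ∈ X := mem_map_of_mem C.subtype (DGroup.le_oddCore hK hKodd hk)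
    rw [show c = ((k : C) : G) * ((s : C) : G) from (congrArg Subtype.val hks).symm]
    exact mul_mem_sup hk' hs'
  have hcop : (Nat.card X).Coprime (Nat.card R) := by
    refine Nat.coprime_of_dvd fun p hp hpX hpR => ?_
    have hp2 : p ≠ 2 := fun h2 => Nat.not_even_iff_odd.2 hXodd (even_iff_two_dvd.2 (h2 ▸ hpX))
    haveI := Fact.mk hp
    obtain ⟨⟨x, hx⟩, hxo⟩ := exists_prime_orderOf_dvd_card' (G := X) p hpX
    obtain ⟨⟨r, hr⟩, hro⟩ := exists_prime_orderOf_dvd_card' (G := R) p hpR
    rw [Subgroup.orderOf_mk] at hxo hro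
    have hxC : x ∈ C := map_subtype_le _ hx
    have hxR : x ∈ R := zpowers_le.2 hr (pair_mem_zpowers (h.odd p hp hp2) hro hxo (mem_centralizer_iff.1 hxC r hr))
    have hxc : (⟨x, hxR⟩ : R) ∈ center R := mem_center_iff.2 fun y =>
      Subtype.ext (mem_centralizer_iff.1 hxC y y.2)
    have hd := Subgroup.orderOf_dvd_natCard _ hxc
    rw [Subgroup.orderOf_mk, hxo] at hd
    have h2 : Nat.card (center R) ∣ 2 := by
      rcases hsh with ⟨⟨e⟩, -⟩ | ⟨⟨e⟩, -⟩
      · rw [Nat.card_congr (Subgroup.centerCongr e).toEquiv]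
        haveI : IsSimpleGroup (Matrix.ProjectiveSpecialLinearGroup (Fin 2) F) :=
          CfsgLib.Linear.isSimpleGroup_PSL (Or.inr (CfsgLib.Linear.Small.exists_sq_ne_one (F := F) (by omega)))
        rcases (inferInstance : (center (Matrix.ProjectiveSpecialLinearGroup (Fin 2) F)).Normal).eq_bot_or_eq_top
          with h1 | h1
        · rw [h1, card_bot]; norm_num
        · exfalso
          haveI : IsMulCommutative R := ⟨⟨fun x y => e.injective (by
            rw [map_mul, map_mul]; exact (mem_center_iff.1 (h1 ▸ mem_top (e x)) (e y)).symm)⟩⟩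
          letI : CommGroup R := IsMulCommutative.instCommGroup
          exact Group.IsPerfect.not_isSolvable R inferInstance
      · rw [Nat.card_congr (Subgroup.centerCongr e).toEquiv, CfsgLib.Linear.card_center_SL, Fintype.card_fin]
        exact Nat.gcd_dvd_left _ _
    exact hp2 ((Nat.prime_dvd_prime_iff_eq hp Nat.prime_two).1 (hd.trans h2))
  refine ⟨X ⊔ R, inferInstance, by rw [hXR]; exact centralizer_index hF h5 hsh, X.subgroupOf _, R.subgroupOf _,
    inferInstance, inferInstance, ?_, ?_, ?_, ?_, ?_, ?_⟩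
  · rw [eq_bot_iff]
    rintro ⟨x, _⟩ ⟨hx1, hx2⟩
    have h1 : x = 1 := disjoint_def.1 (disjoint_of_coprime_natCard hcop) hx1 hx2
    exact Subtype.ext h1
  · rw [← subgroupOf_sup le_sup_left le_sup_right, subgroupOf_self]
  · rwa [Nat.card_congr (subgroupOfEquivOfLe le_sup_left).toEquiv,
      Nat.card_congr (subgroupOfEquivOfLe le_sup_right).toEquiv]
  · rwa [Nat.card_congr (subgroupOfEquivOfLe le_sup_left).toEquiv]
  · set X' := X.subgroupOf (X ⊔ R)
    haveI : IsZGroup X := ⟨fun p hp Q => by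
      rcases eq_or_ne p 2 with rfl | hp2
      · haveI : Subsingleton (Q : Subgroup X) := by
          rw [← not_nontrivial_iff_subsingleton, ← Finite.one_lt_card_iff_nontrivial, not_lt]
          obtain ⟨k, hk⟩ := IsPGroup.iff_card.1 Q.2
          have hd : Odd (2 ^ k) := hk ▸ hXodd.of_dvd_nat (card_subgroup_dvd_card _)
          rcases k.eq_zero_or_pos with rfl | hk0
          · rw [hk, pow_zero]
          · exact absurd (Nat.even_pow.2 ⟨even_two, hk0.ne'⟩) (Nat.not_even_iff_odd.2 hd)
        exact inferInstanceAs (IsCyclic (Q : Subgroup X))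
      · exact cyclic_sylow_subgroup (h.odd p hp hp2) X Q⟩
    haveI : IsZGroup X' := IsZGroup.of_injective (f := (subgroupOfEquivOfLe (H := X) (K := X ⊔ R) le_sup_left).toMonoidHom)
      (subgroupOfEquivOfLe (H := X) (K := X ⊔ R) le_sup_left).injective
    exact ⟨commutator X', inferInstance, IsZGroup.isCyclic_commutator _, IsZGroup.isCyclic_abelianization⟩
  · refine ⟨Fintype.card F, ⟨hF⟩, h5, ?_⟩
    haveI := Fact.mk hF
    let r : ZMod (Fintype.card F) ≃+* F := ZMod.ringEquivOfPrime F hF rfl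
    let eR : R.subgroupOf (X ⊔ R) ≃* R := subgroupOfEquivOfLe le_sup_right
    rcases hsh with ⟨⟨e⟩, -⟩ | ⟨⟨e⟩, -⟩
    · obtain ⟨g⟩ := CfsgLib.InvChar.psl_congr r.symm
      exact Or.inl ⟨(eR.trans e).trans g⟩
    · refine Or.inr ⟨(eR.trans e).trans (MulEquiv.ofBijective
        (Matrix.SpecialLinearGroup.map (n := Fin 2) r.symm.toRingHom) ⟨fun A B hAB => ?_, fun A => ?_⟩)⟩
      · ext i j
        exact r.symm.injective (congrArg (fun C : Matrix.SpecialLinearGroup (Fin 2) (ZMod (Fintype.card F)) => C i j) hAB)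
      · refine ⟨Matrix.SpecialLinearGroup.map r.toRingHom A, ?_⟩
        ext i j
        exact r.symm_apply_apply _

end CfsgLib.GWApps
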