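import Cfsg.Prelude.Def_CaseTheorems
import Cfsg.Agent.Invol.QuasiDihedral
import Cfsg.Agent.Solvable.PGroupBasic
import Mathlib.GroupTheory.Transfer
import Mathlib.GroupTheory.SchurZassenhaus
import Mathlib.GroupTheory.SpecificGroups.Cyclic
import Mathlib.NumberTheory.Basic

/-!
# Cyclic Sylow subgroups for odd primes and a single class of involutions

If all involutions are conjugate, the 2-rank is at most two and the Sylow `p`-subgroups are cyclic for
an odd prime `p` dividing the order of the centralizer `C` of an involution, then the `p`-part of `C`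
is that of the group, up to a factor three when `p = 3`.
-/

set_option autoImplicit false
set_option linter.style.haveILetI false
set_option linter.unusedSectionVars false

namespace CfsgLib.GWApps.SDCyclic

open Subgroup

universe u

/-- A group with quasi-dihedral Sylow 2-subgroups has 2-rank at most two. -/
theorem rank_le_two {G : Type u} [Group G] [Finite G] (S : Sylow 2 G)
    (hS : Cfsg.IsQuasiDihedral (S : Subgroup G)) : Cfsg.PRankLE 2 2 G := by
  haveI : Fact (Nat.Prime 2) := ⟨Nat.prime_two⟩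
  intro A hAc hA2
  obtain ⟨D⟩ := CfsgLib.QD.exists_data hS
  have hAp : IsPGroup 2 A := fun a => ⟨1, Subtype.ext (by simpa using hA2 a a.2)⟩
  obtain ⟨T, hT⟩ := hAp.exists_le_sylow
  let e : (T : Subgroup G) ≃* (S : Subgroup G) := T.equiv S
  set B : Subgroup (S : Subgroup G) := (A.subgroupOf (T : Subgroup G)).map e.toMonoidHom with hB
  have hcard : Nat.card B = Nat.card A := by
    rw [hB, card_map_of_injective e.injective, Nat.card_congr (subgroupOfEquivOfLe hT).toEquiv]
  have hB2 : ∀ b ∈ B, b ^ 2 = 1 := by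
    rintro _ ⟨a, ha, rfl⟩
    rw [← map_pow, show a ^ 2 = 1 from Subtype.ext (by simpa using hA2 _ ha), map_one]
  set R := zpowers D.x
  have h1 : Nat.card (R.subgroupOf B) ≤ 2 := by
    classical
    let f : R.subgroupOf B →* R := MonoidHom.mk' (fun b => ⟨((b : B) : (S : Subgroup G)), b.2⟩) fun _ _ => rfl
    have hf : Function.Injective f := fun a b h => Subtype.ext (Subtype.ext (congrArg (fun r : R => (r : (S : Subgroup G))) h))
    haveI : IsCyclic (R.subgroupOf B) := isCyclic_of_injective f hf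
    haveI : Fintype (R.subgroupOf B) := Fintype.ofFinite _
    have h2 : (Finset.univ.filter fun b : R.subgroupOf B => b ^ 2 = 1) = Finset.univ :=
      Finset.filter_true_of_mem fun b _ => Subtype.ext (Subtype.ext (by
        simpa using hB2 _ (b : B).2))
    have := IsCyclic.card_pow_eq_one_le (α := R.subgroupOf B) (n := 2) two_pos
    rw [h2, Finset.card_univ] at this
    rwa [Nat.card_eq_fintype_card]
  have h2 : (R.subgroupOf B).index ∣ 2 := by
    haveI : R.Normal := normal_of_index_eq_two D.index_rot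
    exact (relIndex_dvd_index_of_normal R B).trans (dvd_of_eq D.index_rot)
  have h3 := (R.subgroupOf B).card_mul_index
  have h4 := Nat.le_of_dvd two_pos h2
  calc Nat.card A = Nat.card B := hcard.symm
    _ = Nat.card (R.subgroupOf B) * (R.subgroupOf B).index := h3.symm
    _ ≤ 2 * 2 := Nat.mul_le_mul h1 h4
    _ = 2 ^ 2 := rfl

variable {G : Type u} [Group G] [Finite G] {p : ℕ} [Fact p.Prime]

/-- A cyclic Sylow subgroup is centralized by the part of its normalizer fixing one of its elements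
of order `p`. -/
theorem normalizer_fix_le (P : Sylow p G) [IsCyclic (P : Subgroup G)] {x : G} (hx : x ∈ (P : Subgroup G))
    (hxo : orderOf x = p) {g : G} (hg : g ∈ normalizer ((P : Subgroup G) : Set G)) (hgx : g * x * g⁻¹ = x) :
    g ∈ centralizer ((P : Subgroup G) : Set G) := by
  have hp : p.Prime := Fact.out
  obtain ⟨⟨a, ha⟩, hgen⟩ := IsCyclic.exists_generator (α := (P : Subgroup G))
  obtain ⟨k, hk⟩ := IsPGroup.iff_orderOf.1 P.2 ⟨a, ha⟩
  rw [Subgroup.orderOf_mk] at hk
  have hmem : ∀ b ∈ (P : Subgroup G), ∃ i : ℤ, a ^ i = b := fun b hb => by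
    obtain ⟨i, hi⟩ := mem_zpowers_iff.1 (hgen ⟨b, hb⟩)
    exact ⟨i, congrArg Subtype.val hi⟩
  obtain ⟨r, hr⟩ := hmem _ ((mem_normalizer_iff.1 hg a).1 ha)
  obtain ⟨i, hi⟩ := hmem x hx
  have hconj : ∀ (c : G) (j : ℤ), c * a ^ j * c⁻¹ = (c * a * c⁻¹) ^ j := fun c j => (conj_zpow).symm
  -- the exponent fixes `x`
  have hrp : (p : ℤ) ∣ r - 1 := by
    have h1 : x ^ r = x := by
      calc x ^ r = (a ^ r) ^ i := by rw [← hi, ← zpow_mul, ← zpow_mul, mul_comm]
        _ = g * a ^ i * g⁻¹ := by rw [hconj, ← hr]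
        _ = x := by rw [hi, hgx]
    rw [← hxo, orderOf_dvd_iff_zpow_eq_one, zpow_sub, h1, zpow_one, mul_inv_cancel]
  have hpow : ∀ n : ℕ, g ^ n * a * (g ^ n)⁻¹ = a ^ (r ^ n) := by
    intro n
    induction n with
    | zero => simp
    | succ n ih =>
      calc g ^ (n + 1) * a * (g ^ (n + 1))⁻¹ = g * (g ^ n * a * (g ^ n)⁻¹) * g⁻¹ := by
            rw [pow_succ']; group
        _ = a ^ (r ^ (n + 1)) := by rw [ih, hconj, ← hr, ← zpow_mul, pow_succ']
  have hk1 : g ^ p ^ k * a = a * g ^ p ^ k := by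
    have h1 : ((p : ℤ) ^ (k + 1)) ∣ r ^ p ^ k - 1 := by
      simpa using dvd_sub_pow_of_dvd_sub hrp k
    have h2 : a ^ (r ^ p ^ k) = a ^ (1 : ℤ) := by
      rw [← mul_inv_eq_one, ← zpow_sub, ← orderOf_dvd_iff_zpow_eq_one, hk]
      push_cast
      exact (pow_dvd_pow _ (Nat.le_succ k)).trans h1
    have h3 := hpow (p ^ k)
    rw [h2, zpow_one] at h3
    exact mul_inv_eq_iff_eq_mul.1 h3
  -- split off the part of order prime to `p`
  obtain ⟨e, m, hm, hgo⟩ := Nat.exists_eq_pow_mul_and_not_dvd (orderOf_pos g).ne' p hp.ne_one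
  have hcop : Nat.Coprime (p ^ k) m := (hp.coprime_iff_not_dvd.2 hm).pow_left k
  set H : Subgroup G := centralizer ({a} : Set G)
  suffices hgH : g ∈ H by
    refine mem_centralizer_iff.2 fun b hb => ?_
    obtain ⟨j, rfl⟩ := hmem b hb
    exact ((Commute.zpow_left (show Commute a g from
      (mem_centralizer_singleton_iff.1 hgH).symm) j)).eq
  have h1 : g ^ p ^ k ∈ H := mem_centralizer_singleton_iff.2 hk1
  have h2 : g ^ m ∈ H := by
    have hgm : g ^ m ∈ normalizer ((P : Subgroup G) : Set G) := pow_mem hg m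
    have hpe : IsPGroup p (zpowers (g ^ m)) := by
      refine IsPGroup.of_card (n := e) ?_
      have hm0 : m ≠ 0 := by rintro rfl; exact hm (dvd_zero p)
      rw [Nat.card_zpowers, orderOf_pow' _ hm0, hgo,
        Nat.gcd_eq_right (dvd_mul_left m _), Nat.mul_div_cancel _ (Nat.pos_of_ne_zero hm0)]
    have hle : zpowers (g ^ m) ≤ (P : Subgroup G) := by
      have hsup : IsPGroup p ↥(zpowers (g ^ m) ⊔ (P : Subgroup G)) :=
        IsPGroup.to_sup_of_normal_right' hpe P.2 (zpowers_le.2 hgm)
      rw [← P.3 hsup le_sup_right]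
      exact le_sup_left
    obtain ⟨j, hj⟩ := hmem _ (hle (mem_zpowers _))
    rw [← hj]
    exact mem_centralizer_singleton_iff.2 ((Commute.refl a).zpow_left j).eq
  have h3 : g = (g ^ p ^ k) ^ (p ^ k).gcdA m * (g ^ m) ^ (p ^ k).gcdB m := by
    rw [← zpow_natCast g (p ^ k), ← zpow_natCast g m, ← zpow_mul, ← zpow_mul, ← zpow_add,
      ← Nat.gcd_eq_gcd_ab, hcop.gcd_eq_one, Nat.cast_one, zpow_one]
  rw [h3]
  exact mul_mem (zpow_mem h1 _) (zpow_mem h2 _)

/-- A nontrivial 2-subgroup, as large as possible in the centralizer of an element of order `p`,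
normalized by a group of the order of a Sylow `p`-subgroup. -/
theorem exists_normalised (hp2 : p ≠ 2) (hcyc : ∀ P : Sylow p G, IsCyclic (P : Subgroup G)) {z x : G}
    (hz : orderOf z = 2) (hxo : orderOf x = p) (hxC : x ∈ centralizer ({z} : Set G)) :
    ∃ T R : Subgroup G, IsPGroup 2 T ∧ T ≤ centralizer ({x} : Set G) ∧ T ≠ ⊥ ∧
      (∀ g ∈ R, ∀ b ∈ T, g * b * g⁻¹ ∈ T) ∧ Nat.card R = p ^ (Nat.card G).factorization p ∧
      ∀ w ∈ centralizer ({x} : Set G), ∀ k : ℕ, orderOf w = 2 ^ k →
        ∃ g ∈ centralizer ({x} : Set G), g * w * g⁻¹ ∈ T := by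
  classical
  have hp : p.Prime := Fact.out
  haveI : Fact (Nat.Prime 2) := ⟨Nat.prime_two⟩
  obtain ⟨P, hP⟩ := (IsPGroup.of_card (n := 1) (G := zpowers x)
    (by rw [Nat.card_zpowers, hxo, pow_one])).exists_le_sylow
  haveI := hcyc P
  have hxP : x ∈ (P : Subgroup G) := hP (mem_zpowers x)
  set H : Subgroup G := centralizer ({x} : Set G) with hH
  have hPH : (P : Subgroup G) ≤ H := fun b hb => mem_centralizer_singleton_iff.2
    (congrArg Subtype.val (mul_comm' (⟨b, hb⟩ : (P : Subgroup G)) ⟨x, hxP⟩))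
  set Q : Sylow p H := P.subtype hPH with hQ
  have hNC : normalizer ((Q : Subgroup H) : Set H) ≤ centralizer ((Q : Subgroup H) : Set H) := by
    intro g hg
    have h1 : (g : G) ∈ normalizer ((P : Subgroup G) : Set G) := by
      rw [mem_normalizer_iff]
      intro b
      constructor
      · exact fun hb => ((mem_normalizer_iff.1 hg ⟨b, hPH hb⟩).1 hb : _)
      · intro hb
        have hbH : b ∈ H := by
          have h' := mul_mem (mul_mem (inv_mem g.2) (hPH hb)) g.2
          rwa [show (g : G)⁻¹ * ((g : G) * b * (g : G)⁻¹) * (g : G) = b by group] at h'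
        exact (mem_normalizer_iff.1 hg ⟨b, hbH⟩).2 hb
    have h2 := normalizer_fix_le P hxP hxo h1
      (mul_inv_eq_iff_eq_mul.2 (mem_centralizer_singleton_iff.1 g.2))
    exact mem_centralizer_iff.2 fun b hb => Subtype.ext (mem_centralizer_iff.1 h2 _ hb)
  set M := (MonoidHom.transferSylow Q hNC).ker with hM
  have hcompl := MonoidHom.ker_transferSylow_isComplement' Q hNC
  have hMidx : M.index = Nat.card (P : Subgroup G) := by
    rw [hcompl.symm.index_eq_card]
    exact Nat.card_congr (subgroupOfEquivOfLe hPH).toEquiv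
  obtain ⟨a, ha⟩ := IsPGroup.iff_card.1 P.2
  have hzM : (⟨z, mem_centralizer_singleton_iff.2 (mem_centralizer_singleton_iff.1 hxC).symm⟩ : H) ∈ M := by
    refine (QuotientGroup.eq_one_iff _).1 (orderOf_eq_one_iff.1 ?_)
    refine Nat.eq_one_of_dvd_coprimes
      (((Nat.coprime_primes Nat.prime_two hp).2 hp2.symm).pow_right a) ?_ ?_
    · rw [← hz]
      conv_rhs => rw [← Subgroup.orderOf_mk z (mem_centralizer_singleton_iff.2 (mem_centralizer_singleton_iff.1 hxC).symm : z ∈ H)]
      exact orderOf_map_dvd (QuotientGroup.mk' M) _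
    · rw [← ha, ← hMidx, index]
      exact orderOf_dvd_natCard _
  obtain ⟨T⟩ : Nonempty (Sylow 2 M) := inferInstance
  set N := normalizer (((T : Subgroup M).map M.subtype : Subgroup H) : Set H)
  have hdvd : p ^ a ∣ Nat.card N := by
    rw [← ha, ← hMidx, ← relIndex_top_right, ← Sylow.normalizer_sup_eq_top T, relIndex_sup_right]
    exact relIndex_dvd_card M N
  obtain ⟨R, hR⟩ := Sylow.exists_subgroup_card_pow_prime (G := N) p hdvd
  -- back in the group
  set T' : Subgroup G := ((T : Subgroup M).map M.subtype).map H.subtype with hT'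
  set R' : Subgroup G := (R.map N.subtype).map H.subtype with hR'
  have hR'card : Nat.card R' = p ^ a := by
    rw [hR', card_map_of_injective H.subtype_injective, card_map_of_injective N.subtype_injective, hR]
  have hTp : IsPGroup 2 T' := (T.2.map M.subtype).map H.subtype
  have hR'N : ∀ g ∈ R', ∀ b ∈ T', g * b * g⁻¹ ∈ T' := by
    rintro _ ⟨_, ⟨g, -, rfl⟩, rfl⟩ _ ⟨b, hb, rfl⟩
    exact ⟨_, (mem_normalizer_iff.1 g.2 b).1 hb, by simp⟩
  have hTne : T' ≠ ⊥ := by
    rw [hT', Ne, map_eq_bot_iff_of_injective _ H.subtype_injective,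
      map_eq_bot_iff_of_injective _ M.subtype_injective]
    intro h
    have h1 : 2 ∣ Nat.card M := by
      have := orderOf_dvd_natCard (⟨_, hzM⟩ : M)
      rwa [Subgroup.orderOf_mk, Subgroup.orderOf_mk, hz] at this
    exact Sylow.ne_bot_of_dvd_card T h1 h
  refine ⟨T', R', hTp, ?_, hTne, hR'N, ?_, fun w hw k hwk => ?_⟩
  · rw [hT']
    exact map_subtype_le _
  · rw [hR'card]
    congr 1
    have h1 := P.card_eq_multiplicity
    rw [ha] at h1
    exact Nat.pow_right_injective hp.two_le h1
  · have hwM : (⟨w, hw⟩ : H) ∈ M := by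
      refine (QuotientGroup.eq_one_iff _).1 (orderOf_eq_one_iff.1 ?_)
      refine Nat.eq_one_of_dvd_coprimes
        (Nat.Coprime.pow k a ((Nat.coprime_primes Nat.prime_two hp).2 hp2.symm)) ?_ ?_
      · rw [← hwk, ← Subgroup.orderOf_mk w hw]
        exact orderOf_map_dvd (QuotientGroup.mk' M) _
      · rw [← ha, ← hMidx, index]
        exact orderOf_dvd_natCard _
    obtain ⟨T₂, hT₂⟩ := (IsPGroup.of_card (n := k) (G := zpowers (⟨⟨w, hw⟩, hwM⟩ : M)) (by
      rw [Nat.card_zpowers, Subgroup.orderOf_mk, Subgroup.orderOf_mk, hwk])).exists_le_sylow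
    obtain ⟨g, hg⟩ := MulAction.exists_smul_eq M T₂ T
    refine ⟨((g : H) : G), (g : H).2, ?_⟩
    refine ⟨_, ⟨g * ⟨⟨w, hw⟩, hwM⟩ * g⁻¹, ?_, rfl⟩, rfl⟩
    rw [← hg]
    exact Subgroup.mem_map_of_mem (MulAut.conj g).toMonoidHom (hT₂ (mem_zpowers _))

/-- **The `p`-part of the centralizer of an involution.** -/
theorem sylow_bound (hone : ∀ a b : G, orderOf a = 2 → orderOf b = 2 → IsConj a b)
    (hrank : Cfsg.PRankLE 2 2 G) (hp2 : p ≠ 2) (hcyc : ∀ P : Sylow p G, IsCyclic (P : Subgroup G))
    {z : G} (hz : orderOf z = 2) (hpC : p ∣ Nat.card (centralizer ({z} : Set G))) :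
    (Nat.card G).factorization p ≤
      (Nat.card (centralizer ({z} : Set G))).factorization p + if p = 3 then 1 else 0 := by
  classical
  have hp : p.Prime := Fact.out
  haveI : Fact (Nat.Prime 2) := ⟨Nat.prime_two⟩
  obtain ⟨⟨x, hxC⟩, hxo⟩ := exists_prime_orderOf_dvd_card' (G := centralizer ({z} : Set G)) p hpC
  rw [Subgroup.orderOf_mk] at hxo
  obtain ⟨T', R', hTp, -, hTne, hR'N, hR'card, -⟩ := exists_normalised hp2 hcyc hz hxo hxC
  obtain ⟨a, ha'⟩ : ∃ a, (Nat.card G).factorization p = a := ⟨_, rfl⟩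
  rw [ha'] at hR'card ⊢
  -- the central involutions of the 2-subgroup
  let A : Subgroup G :=
    { carrier := {b | b ∈ T' ∧ b ^ 2 = 1 ∧ ∀ c ∈ T', c * b = b * c}
      one_mem' := ⟨one_mem _, one_pow _, fun c _ => by simp⟩
      mul_mem' := fun {u v} hu hv => ⟨mul_mem hu.1 hv.1, by
          rw [(show Commute u v from hv.2.2 u hu.1).mul_pow, hu.2.1, hv.2.1, one_mul], fun c hc => by
          rw [← mul_assoc, hu.2.2 c hc, mul_assoc, hv.2.2 c hc, mul_assoc]⟩
      inv_mem' := fun {u} hu => ⟨inv_mem hu.1, by rw [inv_pow, hu.2.1, inv_one], fun c hc => by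
          have h' : Commute c u := hu.2.2 c hc
          exact h'.inv_right.eq⟩ }
  have hAc : IsMulCommutative A := ⟨⟨fun u v => Subtype.ext (v.2.2.2 u u.2.1)⟩⟩
  have hA4 : Nat.card A ≤ 2 ^ 2 := hrank A hAc fun u hu => hu.2.1
  have hA1 : ∃ u ∈ A, u ≠ 1 := by
    haveI : Nontrivial T' := (nontrivial_iff_ne_bot T').2 hTne
    haveI := hTp.center_nontrivial
    obtain ⟨⟨⟨u, huT⟩, huc⟩, huo⟩ := exists_prime_orderOf_dvd_card' (G := center T') 2 (by
      obtain ⟨j, hj0, hj⟩ := (hTp.to_subgroup (center T')).nontrivial_iff_card.1 inferInstance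
      rw [hj]; exact dvd_pow_self 2 (by omega))
    rw [Subgroup.orderOf_mk, Subgroup.orderOf_mk] at huo
    refine ⟨u, ⟨huT, by rw [← huo]; exact pow_orderOf_eq_one u,
      fun c hc => congrArg Subtype.val (mem_center_iff.1 huc ⟨c, hc⟩)⟩, fun h => ?_⟩
    rw [h, orderOf_one] at huo
    exact absurd huo (by norm_num)
  obtain ⟨u, hu, hu1⟩ := hA1
  have huo : orderOf u = 2 := orderOf_eq_prime hu.2.1 hu1
  set S := R' ⊓ centralizer ({u} : Set G) with hSdef
  -- the orbit has at most three members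
  have horb : (S.subgroupOf R').index ≤ 3 := by
    let f : R' ⧸ S.subgroupOf R' → {b : A // b ≠ 1} := fun q => Quotient.liftOn' q
      (fun g => ⟨⟨(g : G) * u * (g : G)⁻¹, hR'N _ g.2 _ hu.1, by rw [conj_pow, hu.2.1, mul_one, mul_inv_cancel],
          fun c hc => by
            have h1 : (g : G)⁻¹ * c * (g : G) ∈ T' := by
              have h' := hR'N _ (inv_mem g.2) c hc
              rwa [inv_inv] at h'
            have h2 := hu.2.2 _ h1
            calc c * ((g : G) * u * (g : G)⁻¹) = (g : G) * ((g : G)⁻¹ * c * g * u) * (g : G)⁻¹ := by group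
              _ = (g : G) * (u * ((g : G)⁻¹ * c * g)) * (g : G)⁻¹ := by rw [h2]
              _ = _ := by group⟩,
        fun h => hu1 (by
          have h' := congrArg Subtype.val h
          exact conj_eq_one_iff.1 h')⟩)
      (fun g g' h => by
        have h' : ((g : G)⁻¹ * g') ∈ centralizer ({u} : Set G) :=
          (mem_subgroupOf.1 (QuotientGroup.leftRel_apply.1 h)).2
        refine Subtype.ext (Subtype.ext ?_)
        show (g : G) * u * (g : G)⁻¹ = (g' : G) * u * (g' : G)⁻¹
        have e := mem_centralizer_singleton_iff.1 h'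
        calc (g : G) * u * (g : G)⁻¹ = (g : G) * (u * ((g : G)⁻¹ * g')) * (g' : G)⁻¹ := by group
          _ = (g : G) * ((g : G)⁻¹ * g' * u) * (g' : G)⁻¹ := by rw [e]
          _ = _ := by group)
    have hf : Function.Injective f := by
      intro q q'
      refine Quotient.inductionOn₂' q q' fun g g' h => ?_
      refine Quotient.sound' (QuotientGroup.leftRel_apply.2 (mem_subgroupOf.2 ⟨(g⁻¹ * g').2, ?_⟩))
      refine mem_centralizer_singleton_iff.2 ?_
      have h' : (g : G) * u * (g : G)⁻¹ = (g' : G) * u * (g' : G)⁻¹ :=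
        congrArg (fun b : {b : A // b ≠ 1} => ((b : A) : G)) h
      show (g : G)⁻¹ * g' * u = u * ((g : G)⁻¹ * g')
      calc (g : G)⁻¹ * g' * u = (g : G)⁻¹ * ((g' : G) * u * (g' : G)⁻¹) * g' := by group
        _ = (g : G)⁻¹ * ((g : G) * u * (g : G)⁻¹) * g' := by rw [h']
        _ = _ := by group
    have h1 := Nat.card_le_card_of_injective f hf
    rw [← index_eq_card] at h1
    haveI := Fintype.ofFinite A
    have h2 : Nat.card {b : A // b ≠ 1} = Nat.card A - 1 := by
      rw [Nat.card_eq_fintype_card, Fintype.card_subtype_compl, Fintype.card_subtype_eq,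
        Nat.card_eq_fintype_card]
    omega
  have hidx := (S.subgroupOf R').card_mul_index
  rw [hR'card, Nat.card_congr (subgroupOfEquivOfLe (show S ≤ R' from inf_le_left)).toEquiv] at hidx
  obtain ⟨b, hb, hbc⟩ := (Nat.dvd_prime_pow hp).1 ⟨_, hidx.symm⟩
  have hab : a ≤ b + if p = 3 then 1 else 0 := by
    obtain ⟨d, rfl⟩ := Nat.exists_eq_add_of_le hb
    have hd : (S.subgroupOf R').index = p ^ d := by
      rw [hbc, pow_add] at hidx
      exact Nat.eq_of_mul_eq_mul_left (pow_pos hp.pos b) hidx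
    rw [hd] at horb
    have h2p := hp.two_le
    have hd1 : d ≤ 1 := by
      by_contra hlt
      have := (Nat.pow_le_pow_right hp.pos (show 2 ≤ d by omega)).trans horb
      nlinarith
    rcases Nat.le_one_iff_eq_zero_or_eq_one.1 hd1 with rfl | rfl
    · omega
    · rw [pow_one] at horb
      rw [if_pos (by omega : p = 3)]
  -- compare
  have hfix : Nat.card (centralizer ({u} : Set G)) = Nat.card (centralizer ({z} : Set G)) := by
    obtain ⟨g, hg⟩ := isConj_iff.1 (hone u z huo hz)
    refine Nat.card_congr ((centralizer ({u} : Set G)).equivMapOfInjective (MulAut.conj g).toMonoidHom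
      (MulAut.conj g).injective |>.toEquiv.trans (Equiv.setCongr ?_))
    ext w
    simp only [SetLike.mem_coe, mem_map_equiv, mem_centralizer_singleton_iff, MulAut.conj_symm_apply]
    rw [← hg]
    constructor
    · intro h
      calc w * (g * u * g⁻¹) = g * (g⁻¹ * w * g * u) * g⁻¹ := by group
        _ = g * (u * (g⁻¹ * w * g)) * g⁻¹ := by rw [h]
        _ = _ := by group
    · intro h
      calc g⁻¹ * w * g * u = g⁻¹ * (w * (g * u * g⁻¹)) * g := by group
        _ = g⁻¹ * (g * u * g⁻¹ * w) * g := by rw [h]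
        _ = _ := by group
  have hb2 : b ≤ (Nat.card (centralizer ({z} : Set G))).factorization p := by
    refine (hp.pow_dvd_iff_le_factorization Nat.card_pos.ne').1 ?_
    rw [← hbc, ← hfix]
    exact card_dvd_of_le inf_le_right
  omega

/-- If the 2-subgroups of the centralizer of an element `x` of order `p` commuting with the
involution `z` have at most one central involution, the centralizer of `z` contains a Sylow
`p`-subgroup. -/
theorem sylow_eq (hone : ∀ a b : G, orderOf a = 2 → orderOf b = 2 → IsConj a b)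
    (hp2 : p ≠ 2) (hcyc : ∀ P : Sylow p G, IsCyclic (P : Subgroup G))
    {z x : G} (hz : orderOf z = 2) (hxo : orderOf x = p) (hxC : x ∈ centralizer ({z} : Set G))
    (huniq : ∀ T : Subgroup G, IsPGroup 2 T → T ≤ centralizer ({x} : Set G) →
      (∀ w ∈ centralizer ({x} : Set G), ∀ k : ℕ, orderOf w = 2 ^ k →
        ∃ g ∈ centralizer ({x} : Set G), g * w * g⁻¹ ∈ T) →
      ∀ u ∈ T, ∀ v ∈ T, (∀ c ∈ T, c * u = u * c) → (∀ c ∈ T, c * v = v * c) →
        orderOf u = 2 → orderOf v = 2 → u = v) :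
    (Nat.card G).factorization p = (Nat.card (centralizer ({z} : Set G))).factorization p := by
  classical
  have hp : p.Prime := Fact.out
  haveI : Fact (Nat.Prime 2) := ⟨Nat.prime_two⟩
  refine le_antisymm ?_ ?_
  · obtain ⟨T, R, hTp, hTC, hTne, hRN, hRcard, hmax⟩ := exists_normalised hp2 hcyc hz hxo hxC
    haveI : Nontrivial T := (nontrivial_iff_ne_bot T).2 hTne
    haveI := hTp.center_nontrivial
    obtain ⟨⟨⟨u, huT⟩, huc⟩, huo⟩ := exists_prime_orderOf_dvd_card' (G := center T) 2 (by
      obtain ⟨j, hj0, hj⟩ := (hTp.to_subgroup (center T)).nontrivial_iff_card.1 inferInstance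
      rw [hj]; exact dvd_pow_self 2 (by omega))
    rw [Subgroup.orderOf_mk, Subgroup.orderOf_mk] at huo
    have hucomm : ∀ c ∈ T, c * u = u * c := fun c hc => congrArg Subtype.val (mem_center_iff.1 huc ⟨c, hc⟩)
    have hfix : ∀ g ∈ R, g * u = u * g := fun g hg => by
      have hv : g * u * g⁻¹ = u := by
        refine huniq T hTp hTC hmax _ (hRN g hg u huT) u huT ?_ hucomm ?_ huo
        · intro c hc
          have h1 : g⁻¹ * c * g ∈ T := by
            have h' := hRN _ (inv_mem hg) c hc
            rwa [inv_inv] at h'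
          calc c * (g * u * g⁻¹) = g * (g⁻¹ * c * g * u) * g⁻¹ := by group
            _ = g * (u * (g⁻¹ * c * g)) * g⁻¹ := by rw [hucomm _ h1]
            _ = _ := by group
        · rw [← huo]
          exact MulEquiv.orderOf_eq (MulAut.conj g) u
      exact mul_inv_eq_iff_eq_mul.1 hv
    obtain ⟨c, hc⟩ := isConj_iff.1 (hone u z huo hz)
    have h1 : Nat.card R ∣ Nat.card (centralizer ({z} : Set G)) := by
      rw [Nat.card_congr (R.equivMapOfInjective (MulAut.conj c).toMonoidHom (MulAut.conj c).injective).toEquiv]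
      refine card_dvd_of_le ?_
      rintro _ ⟨g, hg, rfl⟩
      refine mem_centralizer_singleton_iff.2 ?_
      show c * g * c⁻¹ * z = z * (c * g * c⁻¹)
      rw [← hc]
      calc c * g * c⁻¹ * (c * u * c⁻¹) = c * (g * u) * c⁻¹ := by group
        _ = c * (u * g) * c⁻¹ := by rw [hfix g hg]
        _ = _ := by group
    rw [hRcard] at h1
    exact (hp.pow_dvd_iff_le_factorization Nat.card_pos.ne').1 h1
  · exact ((Nat.factorization_le_iff_dvd Nat.card_pos.ne' Nat.card_pos.ne').2
      (card_subgroup_dvd_card _)) p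

/-- An element of order four commutes with only one involution, in a quasi-dihedral Sylow subgroup. -/
theorem invol_unique_of_four (S : Sylow 2 G) (hS : Cfsg.IsQuasiDihedral (S : Subgroup G))
    {T : Subgroup G} (hT : IsPGroup 2 T) {w : G} (hw : w ∈ T) (hwo : orderOf w = 4)
    {u v : G} (hu : u ∈ T) (hv : v ∈ T) (huw : u * w = w * u) (hvw : v * w = w * v)
    (huo : orderOf u = 2) (hvo : orderOf v = 2) : u = v := by
  haveI : Fact (Nat.Prime 2) := ⟨Nat.prime_two⟩
  obtain ⟨S', hS'⟩ := hT.exists_le_sylow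
  obtain ⟨D⟩ := CfsgLib.QD.exists_data hS
  let e : (S' : Subgroup G) ≃* (S : Subgroup G) := S'.equiv S
  have key : ∀ u (hu : u ∈ T), u * w = w * u → orderOf u = 2 → e ⟨u, hS' hu⟩ = D.z := by
    intro u hu huw huo
    have h4 : orderOf (e ⟨w, hS' hw⟩) = 4 := by rw [MulEquiv.orderOf_eq, Subgroup.orderOf_mk, hwo]
    have h2 : orderOf (e ⟨u, hS' hu⟩) = 2 := by rw [MulEquiv.orderOf_eq, Subgroup.orderOf_mk, huo]
    have hc : Commute (e ⟨u, hS' hu⟩) (e ⟨w, hS' hw⟩) :=
      (show Commute (⟨u, hS' hu⟩ : (S' : Subgroup G)) ⟨w, hS' hw⟩ from Subtype.ext huw).map e.toMonoidHom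
    rcases D.invol_cases h2 with h | ⟨i, hi, h⟩
    · exact h
    · exfalso
      rw [h] at hc
      rcases D.refl_centralizer hc.symm with k | k | k | k
      · rw [k, orderOf_one] at h4; omega
      · rw [k, D.orderOf_z] at h4; omega
      · rw [k, D.refl_invol_iff.2 hi] at h4; omega
      · have h5 : (D.z * (D.x ^ i * D.y)) ^ 2 = 1 := by
          rw [(show Commute D.z (D.x ^ i * D.y) from (D.z_comm _).symm).mul_pow, pow_two, pow_two, D.z_sq,
            D.refl_sq_even hi, one_mul]
        have := Nat.le_of_dvd two_pos (orderOf_dvd_of_pow_eq_one h5)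
        rw [← k, h4] at this
        omega
  exact congrArg Subtype.val (e.injective ((key u hu huw huo).trans (key v hv hvw hvo).symm))

end CfsgLib.GWApps.SDCyclic
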