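import Cfsg.Agent.GWApps.Hyp
import Cfsg.Agent.DGroup.Fusion
import Cfsg.Agent.LocalB.OddSignalizer
import Cfsg.Agent.LocalB.HSubgroup
import Cfsg.Agent.InvChar.UniqueInvolution
import Cfsg.Agent.InvChar.QuaternionFactor
import Cfsg.Agent.FGSB.StemExt
import Cfsg.Agent.ZStar.RankOneApps
import Mathlib.GroupTheory.IsPerfect

/-!
# Tools for the consumers of the Gorenstein–Walter theorem
-/

set_option autoImplicit false
set_option linter.unusedSectionVars false
set_option linter.style.haveILetI false

namespace CfsgLib.GWApps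

open Subgroup

universe u v

variable {G : Type u} [Group G] [Finite G]

instance oddCore_normal : (Cfsg.oddCore G).Normal := DGroup.normal_oddCore G

/-- A group with a normal 2-complement whose index is a power of two is solvable. -/
theorem isSolvable_of_cyclic_sylow (S : Sylow 2 G) (hS : IsCyclic (S : Subgroup G)) :
    Group.IsSolvable G := by
  haveI : Fact (Nat.Prime 2) := ⟨Nat.prime_two⟩
  obtain ⟨P, K, hK, hc⟩ :=
    LocalB.HSub.hasNormalPComplement_of_cyclic (p := 2) (fun q hq _ => hq.two_le) S hS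
  haveI := hK
  haveI : Group.IsSolvable K := by
    refine DGroup.solvable_of_odd K (Nat.coprime_two_right.1 ?_)
    refine Nat.coprime_comm.1 ((Nat.prime_two.coprime_iff_not_dvd).2 ?_)
    have h1 : P.1.index = Nat.card K := hc.index_eq_card
    rw [← h1]
    exact P.not_dvd_index
  haveI : Group.IsSolvable (G ⧸ K) := by
    haveI := P.2.isNilpotent
    exact Group.isSolvable_of_surjective (G := (P : Subgroup G))
      (f := (QuotientGroup.mk' K).comp (P : Subgroup G).subtype) fun q => by
        obtain ⟨g, rfl⟩ := QuotientGroup.mk'_surjective K q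
        obtain ⟨⟨⟨k, hk⟩, ⟨s, hs⟩⟩, rfl⟩ := hc.2 g
        exact ⟨⟨s, hs⟩, by
          show QuotientGroup.mk' K s = QuotientGroup.mk' K (k * s)
          rw [map_mul, (QuotientGroup.eq_one_iff (N := K) k).2 hk |> fun h => (show QuotientGroup.mk' K k = 1 from h),
            one_mul]⟩
  exact (Group.isSolvable_iff_subgroup_quotient K).2 ⟨inferInstance, inferInstance⟩

/-- In a group of 2-rank one a Sylow 2-subgroup is cyclic or generalized quaternion. -/
theorem cyclic_or_quaternion_of_rank {S : Subgroup G} (hS : IsPGroup 2 S)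
    (h1 : Cfsg.PRankLE 2 1 S) :
    IsCyclic S ∨ ∃ n : ℕ, 1 ≤ n ∧ Nonempty (S ≃* QuaternionGroup (2 ^ n)) := by
  haveI : Fact (Nat.Prime 2) := ⟨Nat.prime_two⟩
  have hcomm : ∀ x y : S, orderOf x = 2 → orderOf y = 2 → Commute x y → x = y := by
    intro x y hx hy hc
    refine ZStar.commuting_eq_of_no_klein (fun E hE => ?_) hx hy hc
    haveI := hE
    have h4 := h1 E IsKleinFour.isMulCommutative fun a ha => by
      have := IsKleinFour.mul_self (⟨a, ha⟩ : E)
      rw [sq]
      exact congrArg Subtype.val this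
    rw [IsKleinFour.card_four] at h4
    norm_num at h4
  refine (UniqueInvol.cyclic_or_quaternion hS fun x y hx hy => ?_).imp_right fun h => h.2
  have hne : (⊤ : Subgroup S) ≠ ⊥ := fun h => by
    have : x = 1 := mem_bot.1 (h ▸ mem_top x)
    rw [this, orderOf_one] at hx
    omega
  obtain ⟨c, -, hc1, hcc⟩ := UniqueInvol.exists_central hS (⊤ : Subgroup S) hne
  obtain ⟨k, hk⟩ := (IsPGroup.iff_orderOf).1 hS c
  have hk0 : k ≠ 0 := fun e => hc1 (orderOf_eq_one_iff.1 (by rw [hk, e, pow_zero]))
  obtain ⟨j, rfl⟩ := Nat.exists_eq_succ_of_ne_zero hk0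
  have ho : orderOf (c ^ 2 ^ j) = 2 := by
    rw [orderOf_pow' c (pow_ne_zero _ two_ne_zero), hk,
      Nat.gcd_eq_right (pow_dvd_pow _ j.le_succ), Nat.pow_succ', Nat.mul_div_cancel _ (by positivity)]
  have key : ∀ z : S, orderOf z = 2 → z = c ^ 2 ^ j := fun z hz =>
    hcomm z _ hz ho ((mem_center_iff.1 (pow_mem hcc _) z))
  rw [key y hy, ← key x hx]
  exact mem_zpowers x

/-- A generalized quaternion group modulo a subgroup of order two is dihedral. -/
theorem dihedral_image {n : ℕ} (hn : 1 ≤ n) {S : Type u} [Group S] (e : S ≃* QuaternionGroup (2 ^ n))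
    {T : Type v} [Group T] (f : S →* T) (hf : Function.Surjective f) (hk : Nat.card f.ker = 2) :
    Nonempty (T ≃* DihedralGroup (2 ^ n)) := by
  have heven : Even (2 ^ n) := Nat.even_pow.2 ⟨even_two, by omega⟩
  haveI : NeZero (2 ^ n) := ⟨by positivity⟩
  obtain ⟨⟨hsur, -, -⟩, hψ2⟩ := StemExt.isStemExtension_toDihedral (2 ^ n) heven
  obtain ⟨-, z, hz, huniq, -, -⟩ := InvChar.quaternion_facts n hn
  let ψ : S →* DihedralGroup (2 ^ n) := (StemExt.toDihedral (2 ^ n) heven).comp e.toMonoidHom
  have hψ : Function.Surjective ψ := hsur.comp e.surjective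
  have key : ∀ K : Subgroup S, Nat.card K = 2 → K = zpowers (e.symm z) := by
    intro K hK
    haveI : Finite K := Nat.finite_of_card_ne_zero (by omega)
    haveI : Fact (Nat.Prime 2) := ⟨Nat.prime_two⟩
    obtain ⟨⟨x, hx⟩, hxo⟩ := exists_prime_orderOf_dvd_card' (G := K) 2 (by rw [hK])
    rw [Subgroup.orderOf_mk] at hxo
    have hxz : e x = z := huniq _ (by rw [e.orderOf_eq, hxo])
    haveI : Finite S := Finite.of_equiv _ e.symm.toEquiv
    refine (eq_of_le_of_card_ge (zpowers_le.2 (by rw [← hxz, e.symm_apply_apply]; exact hx)) ?_).symm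
    rw [hK, Nat.card_zpowers, e.symm.orderOf_eq, hz]
  have hψk : Nat.card ψ.ker = 2 := by
    refine Eq.trans (Nat.card_congr ?_) hψ2
    exact
      { toFun := fun x => ⟨e x.1, x.2⟩
        invFun := fun y => ⟨e.symm y.1, by
          show StemExt.toDihedral (2 ^ n) heven (e (e.symm y.1)) = 1
          rw [e.apply_symm_apply]; exact y.2⟩
        left_inv := fun x => Subtype.ext (e.symm_apply_apply _)
        right_inv := fun y => Subtype.ext (e.apply_symm_apply _) }
  exact ⟨(QuotientGroup.quotientKerEquivOfSurjective f hf).symm.trans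
    ((QuotientGroup.quotientMulEquivOfEq ((key _ hk).trans (key _ hψk).symm)).trans
      (QuotientGroup.quotientKerEquivOfSurjective ψ hψ))⟩

/-- The odd core of the quotient by a central subgroup of order two of a group without odd core. -/
theorem oddCore_quotient_central {Z : Subgroup G} [Z.Normal]
    (h2 : Nat.card Z = 2) (hO : Cfsg.oddCore G = ⊥) : Cfsg.oddCore (G ⧸ Z) = ⊥ := by
  haveI : Fact (Nat.Prime 2) := ⟨Nat.prime_two⟩
  set f := QuotientGroup.mk' Z
  set N := Cfsg.oddCore (G ⧸ Z)
  set K := N.comap f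
  haveI : K.Normal := Normal.comap inferInstance f
  have hZK : Z ≤ K := fun z hz => by
    show f z ∈ N
    rw [show f z = 1 from (QuotientGroup.eq_one_iff z).2 hz]; exact one_mem _
  have hno : Odd (Nat.card N) := DGroup.odd_oddCore _
  have hidx : (Z.subgroupOf K).index = Nat.card N := by
    have h1 : Z.relIndex K = Nat.card N := by
      have h := relIndex_ker K f
      rw [map_comap_eq_self_of_surjective (QuotientGroup.mk'_surjective Z),
        show f.ker = Z from QuotientGroup.ker_mk' Z] at h
      exact h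
    exact h1
  have hcardZ : Nat.card (Z.subgroupOf K) = 2 := by
    rw [Nat.card_congr (subgroupOfEquivOfLe hZK).toEquiv, h2]
  obtain ⟨L, hL⟩ := exists_right_complement'_of_coprime (N := Z.subgroupOf K)
    (by rw [hcardZ, hidx]; exact Nat.coprime_two_left.2 hno)
  have hLodd : Odd (Nat.card L) := by
    rw [← hL.symm.index_eq_card, hidx]; exact hno
  have hL2 : L.index = 2 := by rw [hL.index_eq_card, hcardZ]
  haveI := normal_of_index_eq_two hL2
  have hmem : ∀ x : K, Odd (orderOf x) → x ∈ L := fun x hx => by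
    have h := pow_mem (mul_self_mem_of_index_two hL2 x) ((orderOf x + 1) / 2)
    obtain ⟨m, hm⟩ := hx
    rwa [← sq, ← pow_mul, show 2 * ((orderOf x + 1) / 2) = orderOf x + 1 by omega, pow_succ,
      pow_orderOf_eq_one, one_mul] at h
  have hn : (L.map K.subtype).Normal := ⟨by
    rintro _ ⟨x, hx, rfl⟩ g
    refine ⟨⟨g * x * g⁻¹, ‹K.Normal›.conj_mem x x.2 g⟩, hmem _ ?_, rfl⟩
    rw [← Subgroup.orderOf_coe]
    show Odd (orderOf (MulAut.conj g (x : G)))
    rw [MulEquiv.orderOf_eq, Subgroup.orderOf_coe]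
    exact DGroup.odd_orderOf hLodd hx⟩
  have hbot := DGroup.le_oddCore hn
    (by rw [card_map_of_injective K.subtype_injective]; exact hLodd)
  rw [hO, le_bot_iff, (map_eq_bot_iff_of_injective _ K.subtype_injective)] at hbot
  have h1 : Nat.card N = 1 := by rw [← hidx, hL.symm.index_eq_card, hbot, card_bot]
  exact card_eq_one.1 h1

end CfsgLib.GWApps
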