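import Cfsg.Agent.GWApps.AutInvol
import Cfsg.Agent.AutAlt.Main
import Cfsg.Agent.Spor3T.PermNine

/-!
# Two commuting involutory automorphisms of `PSL₂(q)` without fixed four-groups

Either they coincide or their fixed point groups generate.
-/

set_option autoImplicit false
set_option linter.unusedSectionVars false
set_option linter.style.haveILetI false

namespace CfsgLib.GWApps.AutInvol

open CfsgLib.Dickson

/-- No two commuting involutions. -/
def NoFour {X : Type*} [Group X] (C : Subgroup X) : Prop :=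
  ∀ a b : X, a ∈ C → b ∈ C → orderOf a = 2 → orderOf b = 2 → Commute a b → a = b

/-- The fixed point group. -/
def fix {X : Type*} [Group X] (α : MulAut X) : Subgroup X := MonoidHom.eqLocus α.toMonoidHom (MonoidHom.id X)

theorem mem_fix {X : Type*} [Group X] {α : MulAut X} {x : X} : x ∈ fix α ↔ α x = x := Iff.rfl

theorem four_fix_small : ∀ u w : Equiv.Perm (Fin 4), (u ^ 3 = 1 ∧ u ≠ 1 ∧ w * u = u⁻¹ * w) →
    ∀ σ : Equiv.Perm (Fin 4), (σ * u = u * σ ∧ σ * w = w * σ) → σ = 1 := by decide +kernel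

theorem five_cent : ∀ u σ : Equiv.Perm (Fin 5), u ^ 5 = 1 → u ≠ 1 → σ * u = u * σ →
    σ = 1 ∨ σ = u ∨ σ = u * u ∨ σ = u * u * u ∨ σ = u * u * u * u := by decide +kernel

theorem s4_four : ∃ a b : Equiv.Perm (Fin 4), a ^ 2 = 1 ∧ a ≠ 1 ∧ b ^ 2 = 1 ∧ b ≠ 1 ∧ a ≠ b ∧ a * b = b * a := by
  decide +kernel

theorem a5_four : ∃ a b : alternatingGroup (Fin 5), a ^ 2 = 1 ∧ a ≠ 1 ∧ b ^ 2 = 1 ∧ b ≠ 1 ∧ a ≠ b ∧
    a * b = b * a := by
  decide +kernel

/-- An automorphism of `S₄` fixing a subgroup `S₃` is trivial. -/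
theorem s4_aut (φ : MulAut (Equiv.Perm (Fin 4))) (u w : Equiv.Perm (Fin 4)) (hu : u ^ 3 = 1) (hu1 : u ≠ 1)
    (hw : w * u * w⁻¹ = u⁻¹) (hφu : φ u = u) (hφw : φ w = w) : φ = 1 := by
  haveI : Finite (MulAut (Equiv.Perm (Fin 4))) := Finite.of_injective _ DFunLike.coe_injective
  have hinj : Function.Injective (MulAut.conj : Equiv.Perm (Fin 4) →* MulAut (Equiv.Perm (Fin 4))) := by
    rw [injective_iff_map_eq_one]
    intro a ha
    have key : ∀ a : Equiv.Perm (Fin 4), (∀ b, a * b = b * a) → a = 1 := by decide +kernel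
    refine key a fun b => ?_
    have := DFunLike.congr_fun ha b
    rwa [MulAut.conj_apply, MulAut.one_apply, mul_inv_eq_iff_eq_mul] at this
  have hbij := (Nat.bijective_iff_injective_and_card _).2 ⟨hinj, le_antisymm (Nat.card_le_card_of_injective _ hinj)
    (CfsgLib.ThreeT.Nine.four_card.trans (le_of_eq (by rw [Nat.card_perm, Nat.card_fin]; rfl)))⟩
  obtain ⟨σ, rfl⟩ := hbij.2 φ
  rw [MulAut.conj_apply, mul_inv_eq_iff_eq_mul] at hφu hφw
  rw [four_fix_small u w ⟨hu, hu1, by rw [← hw]; group⟩ σ ⟨hφu, hφw⟩, map_one]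

/-- An automorphism of `A₅` fixing a subgroup `D₁₀` is trivial. -/
theorem a5_aut (φ : MulAut (alternatingGroup (Fin 5))) (u w : alternatingGroup (Fin 5)) (hu : u ^ 5 = 1)
    (hu1 : u ≠ 1) (hw : w * u * w⁻¹ = u⁻¹) (hφu : φ u = u) (hφw : φ w = w) : φ = 1 := by
  obtain ⟨σ, rfl⟩ := CfsgLib.AutAlt.exists_conj (Ω := Fin 5) (by simp) (by simp)
    (show (0 : Fin 5) ≠ 1 by decide) φ
  have hfix : ∀ v : alternatingGroup (Fin 5), MulAut.conjNormal σ v = v →
      σ * (v : Equiv.Perm (Fin 5)) = (v : Equiv.Perm (Fin 5)) * σ := fun v hv => by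
    have := congrArg Subtype.val hv
    rwa [MulAut.conjNormal_apply, mul_inv_eq_iff_eq_mul] at this
  have hu' : (u : Equiv.Perm (Fin 5)) ^ 5 = 1 := by rw [← SubgroupClass.coe_pow, hu]; rfl
  have hu1' : (u : Equiv.Perm (Fin 5)) ≠ 1 := fun h => hu1 (Subtype.ext h)
  have hcw : Commute σ (w : Equiv.Perm (Fin 5)) := hfix w hφw
  have hcu : Commute σ (u : Equiv.Perm (Fin 5)) := hfix u hφu
  obtain ⟨i, hi⟩ : ∃ i : ℕ, σ = (u : Equiv.Perm (Fin 5)) ^ i := by
    rcases five_cent _ σ hu' hu1' hcu.eq with h | h | h | h | h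
    exacts [⟨0, by rw [h, pow_zero]⟩, ⟨1, by rw [h, pow_one]⟩, ⟨2, by rw [h, pow_two]⟩,
      ⟨3, by rw [h, pow_three']⟩, ⟨4, by rw [h, pow_succ, pow_three']⟩]
  have hσ : σ = 1 := by
    have h1 : (w : Equiv.Perm (Fin 5)) * σ * (w : Equiv.Perm (Fin 5))⁻¹ = σ⁻¹ := by
      rw [hi, ← conj_pow, ← Subgroup.coe_inv, ← Subgroup.coe_mul, ← Subgroup.coe_mul, hw, Subgroup.coe_inv,
        inv_pow]
    rw [hcw.symm.eq, mul_inv_cancel_right] at h1
    have h2 : σ ^ 2 = 1 := by rw [sq]; nth_rw 1 [h1]; exact inv_mul_cancel σ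
    have h5 : σ ^ 5 = 1 := by rw [hi, ← pow_mul, mul_comm, pow_mul, hu', one_pow]
    calc σ = σ ^ 5 * ((σ ^ 2) ^ 2)⁻¹ := by group
      _ = 1 := by rw [h5, h2]; group
  rw [hσ, map_one]

variable {F : Type} [Field F] [Finite F]

/-- Proper subgroups containing the torus of odd order and an inverting element. -/
theorem card_cases [DecidableEq F] {p k : ℕ} [Fact p.Prime] [CharP F p]
    (hk : k = (Nat.card F - 1) / Nat.gcd 2 (Nat.card F - 1) ∨
      k = (Nat.card F + 1) / Nat.gcd 2 (Nat.card F - 1))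
    (hko : Odd k) (hq : Odd (Nat.card F)) (h5 : 5 ≤ Nat.card F)
    (M : Subgroup (PSL2 F)) (hM : M ≠ ⊤) (u w : PSL2 F) (hu : orderOf u = k) (hinv : w * u * w⁻¹ = u⁻¹)
    (huM : u ∈ M) (hwM : w ∈ M) :
    Nat.card M = 2 * k ∨ (Nonempty (M ≃* Equiv.Perm (Fin 4)) ∧ k = 3) ∨
      (Nonempty (M ≃* alternatingGroup (Fin 5)) ∧ k = 5) := by
  cases nonempty_fintype F
  have hd := CfsgLib.Linear.PSLTwo.gcd_eq_two hq
  obtain ⟨n, hpp, hn⟩ := FiniteField.card F p
  rw [← Nat.card_eq_fintype_card] at hn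
  have hp2 : p ≠ 2 := by
    rintro rfl
    rw [hn] at hq
    exact Nat.not_even_iff_odd.2 hq ((Nat.even_pow' n.pos.ne').2 even_two)
  have hpq : p ∣ Nat.card F := hn ▸ dvd_pow_self p n.pos.ne'
  have hk' := hk
  rw [hd] at hk'
  obtain ⟨j, hj⟩ := hq
  obtain ⟨i, hi⟩ := hko
  by_cases hsmall : Nat.card F = 7 ∨ Nat.card F = 9 ∨ Nat.card F = 11
  · have hq' : Nat.card F = 7 ∧ p = 7 ∧ k = 3 ∨ Nat.card F = 9 ∧ p = 3 ∧ k = 5 ∨
        Nat.card F = 11 ∧ p = 11 ∧ k = 5 := by
      rcases hsmall with h | h | h <;> rw [h] at hk' hpq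
      · exact Or.inl ⟨h, (Nat.prime_dvd_prime_iff_eq hpp (by norm_num)).1 hpq,
          by rcases hk' with rfl | rfl <;> omega⟩
      · exact Or.inr (Or.inl ⟨h, (Nat.prime_dvd_prime_iff_eq hpp (by norm_num)).1
          (hpp.dvd_of_dvd_pow (show p ∣ 3 ^ 2 from hpq)), by rcases hk' with rfl | rfl <;> omega⟩)
      · exact Or.inr (Or.inr ⟨h, (Nat.prime_dvd_prime_iff_eq hpp (by norm_num)).1 hpq,
          by rcases hk' with rfl | rfl <;> omega⟩)
    have hkM : k ∣ Nat.card M := hu ▸ (Subgroup.orderOf_mk u huM) ▸ orderOf_dvd_natCard _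
    have hu2 : u ^ 2 ≠ 1 := fun h => by
      have := Nat.le_of_dvd (by omega) (hu ▸ orderOf_dvd_of_pow_eq_one h)
      omega
    have hnc : ¬ Commute w u := fun h => hu2 (by
      rw [h.eq, mul_inv_cancel_right] at hinv
      rw [sq]; nth_rw 1 [hinv]; exact inv_mul_cancel u)
    have hcard := CfsgLib.Linear.PSLTwo.proper_cases p M hM
    rcases hcard with ⟨P, hpM, hle⟩ | ⟨hc, -, -⟩ | ⟨m, hm2, hpm, hm, hM2, -⟩ | ⟨hp5, h, ⟨eA⟩⟩ | ⟨hp5, h, hS⟩ |
        ⟨-, -, h, hA⟩ | ⟨f, r, hf, hr, hqf, hsub⟩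
    · exfalso
      have hN := CfsgLib.Linear.PSLTwo.card_normalizer p P
      have h2M : k ∣ Nat.card (Subgroup.normalizer ((P : Subgroup (PSL2 F)) : Set (PSL2 F))) :=
        hkM.trans (Subgroup.card_dvd_of_le hle)
      rw [hN, hd] at h2M
      rcases hq' with ⟨h', -, rfl⟩ | ⟨h', -, rfl⟩ | ⟨h', -, rfl⟩ <;> rw [h'] at h2M hN hd
      · -- order `21`
        have hodd : Odd (orderOf w) := by
          refine Odd.of_dvd_nat (n := 21) (by decide) ?_
          rw [hd] at hN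
          have := (Subgroup.orderOf_mk w (hle hwM)) ▸ orderOf_dvd_natCard (⟨w, hle hwM⟩ : Subgroup.normalizer _)
          rwa [hN] at this
        apply hnc
        obtain ⟨l, hl⟩ := hodd
        have h1 : Commute (w ^ 2) u := by
          show w ^ 2 * u = u * w ^ 2
          have : w ^ 2 * u * (w ^ 2)⁻¹ = u := by
            rw [sq, mul_inv_rev, show w * w * u * (w⁻¹ * w⁻¹) = w * (w * u * w⁻¹) * w⁻¹ by group, hinv,
              show w * u⁻¹ * w⁻¹ = (w * u * w⁻¹)⁻¹ by group, hinv, inv_inv]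
          rwa [mul_inv_eq_iff_eq_mul] at this
        have h2 : w = (w ^ 2) ^ (l + 1) := by
          rw [← pow_mul, show 2 * (l + 1) = orderOf w + 1 by omega, pow_succ, pow_orderOf_eq_one, one_mul]
        rw [h2]; exact h1.pow_left _
      · norm_num at h2M
      · -- order `55`
        have hodd : Odd (orderOf w) := by
          refine Odd.of_dvd_nat (n := 55) (by decide) ?_
          rw [hd] at hN
          have := (Subgroup.orderOf_mk w (hle hwM)) ▸ orderOf_dvd_natCard (⟨w, hle hwM⟩ : Subgroup.normalizer _)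
          rwa [hN] at this
        apply hnc
        obtain ⟨l, hl⟩ := hodd
        have h1 : Commute (w ^ 2) u := by
          show w ^ 2 * u = u * w ^ 2
          have : w ^ 2 * u * (w ^ 2)⁻¹ = u := by
            rw [sq, mul_inv_rev, show w * w * u * (w⁻¹ * w⁻¹) = w * (w * u * w⁻¹) * w⁻¹ by group, hinv,
              show w * u⁻¹ * w⁻¹ = (w * u * w⁻¹)⁻¹ by group, hinv, inv_inv]
          rwa [mul_inv_eq_iff_eq_mul] at this
        have h2 : w = (w ^ 2) ^ (l + 1) := by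
          rw [← pow_mul, show 2 * (l + 1) = orderOf w + 1 by omega, pow_succ, pow_orderOf_eq_one, one_mul]
        rw [h2]; exact h1.pow_left _
    · exfalso
      haveI := hc
      letI := IsCyclic.commGroup (α := M)
      exact hnc (congrArg Subtype.val (mul_comm (⟨w, hwM⟩ : M) ⟨u, huM⟩))
    · left
      rw [hM2] at hkM ⊢
      rw [hd] at hm
      rcases hq' with ⟨h', -, rfl⟩ | ⟨h', -, rfl⟩ | ⟨h', -, rfl⟩ <;> rw [h'] at hm <;>
        norm_num at hm <;>
        (rcases hm with hm | hm <;> have := Nat.le_of_dvd (by norm_num) hm <;> interval_cases m <;>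
          first | rfl | (exfalso; revert hkM; norm_num; done) | (exfalso; revert hm; norm_num; done))
    · exfalso
      rcases hq' with ⟨-, -, rfl⟩ | ⟨-, -, rfl⟩ | ⟨-, -, rfl⟩ <;> rw [h] at hkM <;>
        norm_num at hkM
      refine CfsgLib.Linear.PSLTwo.a4_no_inversion (eA ⟨u, huM⟩) (eA ⟨w, hwM⟩) (fun e => hu2 ?_) ?_
      · rw [← map_pow, ← map_one eA, EmbeddingLike.apply_eq_iff_eq] at e
        simpa using congrArg Subtype.val e
      · rw [← map_inv, ← map_mul, ← map_mul, ← map_inv]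
        exact congrArg eA (Subtype.ext hinv)
    · right; left
      refine ⟨hS, ?_⟩
      rcases hq' with ⟨-, -, rfl⟩ | ⟨-, -, rfl⟩ | ⟨-, -, rfl⟩ <;> rw [h] at hkM <;>
        first | rfl | norm_num at hkM
    · right; right
      refine ⟨hA, ?_⟩
      rcases hq' with ⟨h', -, -⟩ | ⟨-, -, hh⟩ | ⟨-, -, hh⟩
      · exfalso
        have hP := CfsgLib.Linear.PSLTwo.card_eq (F := F)
        have hdvd := Subgroup.card_subgroup_dvd_card M
        rw [hP, h, hd, h'] at hdvd
        norm_num at hdvd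
      · exact hh
      · exact hh
    · exfalso
      rcases hq' with ⟨h', -, -⟩ | ⟨h', rfl, rfl⟩ | ⟨h', -, -⟩
      · rw [h', ← pow_mul] at hqf
        have h1 : (7 : ℕ).Prime := by norm_num
        rw [hqf] at h1
        have := Nat.Prime.eq_one_of_pow h1
        have := Nat.eq_one_of_mul_eq_one_left this
        omega
      · rw [h', ← pow_mul] at hqf
        have h1 : f * r = 2 := Nat.pow_right_injective (le_refl 2 |>.trans (by norm_num)) (hqf.symm.trans (by norm_num : (9 : ℕ) = 3 ^ 2))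
        have hf1 : f = 1 := by
          have := Nat.mul_le_mul_left f hr
          omega
        subst hf1
        rcases hsub with ⟨h, -⟩ | ⟨-, h, -⟩
        · rw [h] at hkM; norm_num at hkM
        · have : Nat.card M = 12 := by norm_num at h; omega
          rw [this] at hkM; norm_num at hkM
      · rw [h', ← pow_mul] at hqf
        have h1 : (11 : ℕ).Prime := by norm_num
        rw [hqf] at h1
        have := Nat.Prime.eq_one_of_pow h1
        have := Nat.eq_one_of_mul_eq_one_left this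
        omega
  · left
    push Not at hsmall
    refine CfsgLib.Linear.PSLTwo.card_of_torus p k hk (by rcases hk' with rfl | rfl <;> omega)
      (fun _ _ => by rcases hk' with rfl | rfl <;> constructor <;> omega)
      (fun _ hp5 => ?_) (fun hp3 m hm hqm => ?_) M hM u w hu hinv huM hwM
    · have : Nat.card F ≠ 5 := fun e => hp5 ((Nat.prime_dvd_prime_iff_eq hpp (by norm_num)).1 (e ▸ hpq))
      rcases hk' with rfl | rfl <;> omega
    · have : (9 : ℕ) ≤ 3 ^ m := le_trans (by norm_num) (Nat.pow_le_pow_right (by norm_num) hm)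
      rcases hk' with rfl | rfl <;> omega

theorem not_noFour {X : Type*} [Group X] {C : Subgroup X} {Y : Type*} [Group Y] (e : C ≃* Y)
    (h : ∃ a b : Y, a ^ 2 = 1 ∧ a ≠ 1 ∧ b ^ 2 = 1 ∧ b ≠ 1 ∧ a ≠ b ∧ a * b = b * a) : ¬ NoFour C := by
  obtain ⟨a, b, ha, ha1, hb, hb1, hab, hc⟩ := h
  intro hN
  refine hab (e.symm.injective (Subtype.ext (hN _ _ (e.symm a).2 (e.symm b).2 ?_ ?_ ?_)))
  · rw [Subgroup.orderOf_coe, MulEquiv.orderOf_eq]; exact orderOf_eq_prime ha ha1
  · rw [Subgroup.orderOf_coe, MulEquiv.orderOf_eq]; exact orderOf_eq_prime hb hb1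
  · exact congrArg Subtype.val ((Commute.map (show Commute a b from hc) e.symm).eq)

/-- The generation theorem. -/
theorem generation (hq : Odd (Nat.card F)) (h5 : 5 ≤ Nat.card F) (α β : MulAut (PSL2 F))
    (hα : α * α = 1) (hβ : β * β = 1) (hc : α * β = β * α)
    (hNα : NoFour (fix α)) (hNβ : NoFour (fix β)) (hgen : fix α ⊔ fix β ≠ ⊤) : α = β := by
  classical
  cases nonempty_fintype F
  obtain ⟨p, hp⟩ := CharP.exists F
  haveI : Fact p.Prime := ⟨CharP.char_is_prime F p⟩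
  obtain ⟨k, hk, hko⟩ : ∃ k, (k = (Nat.card F - 1) / Nat.gcd 2 (Nat.card F - 1) ∨
      k = (Nat.card F + 1) / Nat.gcd 2 (Nat.card F - 1)) ∧ Odd k := by
    rw [CfsgLib.Linear.PSLTwo.gcd_eq_two hq]
    obtain ⟨j, hj⟩ := hq
    rw [hj]
    rcases Nat.even_or_odd j with h | h
    · exact ⟨j + 1, Or.inr (by omega), h.add_one⟩
    · exact ⟨j, Or.inl (by omega), h⟩
  have hne : ∀ γ : MulAut (PSL2 F), fix γ ≠ ⊤ → γ ≠ 1 := fun γ h e => h ((Subgroup.eq_top_iff' _).2 fun x => by
    rw [mem_fix, e]; rfl)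
  have hαtop : fix α ≠ ⊤ := fun h => hgen (top_le_iff.1 (h ▸ le_sup_left))
  have hβtop : fix β ≠ ⊤ := fun h => hgen (top_le_iff.1 (h ▸ le_sup_right))
  obtain ⟨g, hg, hgs, u, w, hu, hinv, hαu, hαw⟩ :=
    (invol_cases (p := p) hk hko hq h5 α hα (hne α hαtop)).resolve_left fun ⟨a, b, ha, hb, hab, hcm, hfa, hfb⟩ =>
      hab (hNα a b hfa hfb ha hb hcm)
  obtain ⟨g', hg', hgs', u', w', hu', hinv', hβu, hβw⟩ :=
    (invol_cases (p := p) hk hko hq h5 β hβ (hne β hβtop)).resolve_left fun ⟨a, b, ha, hb, hab, hcm, hfa, hfb⟩ =>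
      hab (hNβ a b hfa hfb ha hb hcm)
  have hcard : ∀ (γ : MulAut (PSL2 F)), fix γ ≠ ⊤ → NoFour (fix γ) → ∀ u w : PSL2 F, orderOf u = k →
      w * u * w⁻¹ = u⁻¹ → u ∈ fix γ → w ∈ fix γ → Nat.card (fix γ) = 2 * k := by
    intro γ h hN u w h1 h2 h3 h4
    rcases card_cases (p := p) hk hko hq h5 (fix γ) h u w h1 h2 h3 h4 with h | ⟨⟨e⟩, -⟩ | ⟨⟨e⟩, -⟩
    · exact h
    · exact absurd hN (not_noFour e s4_four)
    · exact absurd hN (not_noFour e a5_four)
  have hA := hcard α hαtop hNα u w hu hinv hαu hαw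
  have hB := hcard β hβtop hNβ u' w' hu' hinv' hβu hβw
  set M := fix α ⊔ fix β
  have hmap : M.map α.toMonoidHom = M := by
    have hle : M.map α.toMonoidHom ≤ M := by
      rw [Subgroup.map_sup]
      refine sup_le_sup ?_ ?_
      · rintro _ ⟨x, hx, rfl⟩
        show α x ∈ fix α
        rwa [show α x = x from hx]
      · rintro _ ⟨x, hx, rfl⟩
        show β (α x) = α x
        rw [← MulAut.mul_apply, ← hc, MulAut.mul_apply, show β x = x from hx]
    refine le_antisymm hle fun x hx => ⟨α x, hle ⟨x, hx, rfl⟩, ?_⟩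
    show α (α x) = x
    rw [← MulAut.mul_apply, hα]; rfl
  let φ : MulAut M := (α.subgroupMap M).trans (MulEquiv.subgroupCongr hmap)
  have hφ : ∀ x : M, ((φ x : M) : PSL2 F) = α x := fun x => rfl
  have key : ∀ {Y : Type} [Group Y] (e : M ≃* Y),
      (∀ ψ : MulAut Y, ψ (e ⟨u, (le_sup_left : fix α ≤ M) hαu⟩) = e ⟨u, (le_sup_left : fix α ≤ M) hαu⟩ →
        ψ (e ⟨w, (le_sup_left : fix α ≤ M) hαw⟩) = e ⟨w, (le_sup_left : fix α ≤ M) hαw⟩ → ψ = 1) →
      (∃ a b : Y, a ^ 2 = 1 ∧ a ≠ 1 ∧ b ^ 2 = 1 ∧ b ≠ 1 ∧ a ≠ b ∧ a * b = b * a) → False := by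
    intro Y _ e hid hfour
    have h1 := hid (MulAut.congr e φ) (by
        show e (φ (e.symm (e _))) = _
        rw [e.symm_apply_apply]; exact congrArg e (Subtype.ext hαu)) (by
        show e (φ (e.symm (e _))) = _
        rw [e.symm_apply_apply]; exact congrArg e (Subtype.ext hαw))
    have h2 : φ = 1 := (MulAut.congr e).injective (h1.trans (map_one _).symm)
    refine not_noFour e hfour fun a b ha hb => hNα a b ?_ ?_
    · show α a = a
      rw [← hφ ⟨a, ha⟩, h2]; rfl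
    · show α b = b
      rw [← hφ ⟨b, hb⟩, h2]; rfl
  rcases card_cases (p := p) hk hko hq h5 M hgen u w hu hinv ((le_sup_left : fix α ≤ M) hαu) ((le_sup_left : fix α ≤ M) hαw) with
    h | ⟨⟨e⟩, hk3⟩ | ⟨⟨e⟩, hk5⟩
  · have h1 : fix α = M := Subgroup.eq_of_le_of_card_ge le_sup_left (by rw [h, hA])
    have h2 : fix β = M := Subgroup.eq_of_le_of_card_ge le_sup_right (by rw [h, hB])
    have hu2 : β u = u := by
      show u ∈ fix β
      rw [h2, ← h1]; exact hαu
    subst hg hg'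
    exact eq_of_common (p := p) hk hko hq h5 hα hβ hc hgs hgs' hu hαu hu2
  · exfalso
    refine key e (fun ψ h1 h2 => s4_aut ψ _ _ ?_ ?_ ?_ h1 h2) s4_four
    · rw [← map_pow, ← map_one e]; exact congrArg e (Subtype.ext (by simp [← hk3, ← hu, pow_orderOf_eq_one]))
    · intro h
      rw [← map_one e, EmbeddingLike.apply_eq_iff_eq] at h
      have := congrArg Subtype.val h
      simp only [Subgroup.coe_one] at this
      rw [this, orderOf_one] at hu
      omega
    · rw [← map_inv, ← map_mul, ← map_mul, ← map_inv]; exact congrArg e (Subtype.ext hinv)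
  · exfalso
    refine key e (fun ψ h1 h2 => a5_aut ψ _ _ ?_ ?_ ?_ h1 h2) a5_four
    · rw [← map_pow, ← map_one e]; exact congrArg e (Subtype.ext (by simp [← hk5, ← hu, pow_orderOf_eq_one]))
    · intro h
      rw [← map_one e, EmbeddingLike.apply_eq_iff_eq] at h
      have := congrArg Subtype.val h
      simp only [Subgroup.coe_one] at this
      rw [this, orderOf_one] at hu
      omega
    · rw [← map_inv, ← map_mul, ← map_mul, ← map_inv]; exact congrArg e (Subtype.ext hinv)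

end CfsgLib.GWApps.AutInvol
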