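import Cfsg.Agent.GWApps.Dihedral
import Cfsg.Agent.GWApps.AutGeneration
import Cfsg.Agent.ThompsonWielandt.AltFacts

/-!
# Two involutions acting on a simple group with dihedral Sylow 2-subgroups
-/

set_option autoImplicit false
set_option linter.unusedSectionVars false
set_option linter.style.haveILetI false

namespace CfsgLib.GWApps

open Subgroup CfsgLib.GWApps.AutInvol

universe u

/-- An involutory automorphism of `A₇` fixes a four-group. -/
theorem a7_four (φ : MulAut (alternatingGroup (Fin 7))) (hφ : φ * φ = 1) : ¬ NoFour (fix φ) := by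
  intro hN
  obtain ⟨σ, rfl⟩ := CfsgLib.AutAlt.exists_conj (Ω := Fin 7) (by simp) (by simp)
    (show (0 : Fin 7) ≠ 1 by decide) φ
  have hσ : σ ^ 2 = 1 := by
    have hcomm : ∀ v : alternatingGroup (Fin 7),
        σ ^ 2 * (v : Equiv.Perm (Fin 7)) = (v : Equiv.Perm (Fin 7)) * σ ^ 2 := fun v => by
      have := congrArg Subtype.val (DFunLike.congr_fun hφ v)
      rw [← map_mul, MulAut.conjNormal_apply, MulAut.one_apply, mul_inv_eq_iff_eq_mul, ← sq] at this
      exact this
    have hmem : σ ^ 2 ∈ centralizer (alternatingGroup (Fin 7) : Set (Equiv.Perm (Fin 7))) :=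
      mem_centralizer_iff.2 fun v hv => (hcomm ⟨v, hv⟩).symm
    rwa [CfsgLib.ThompsonWielandt.centralizer_alternating (by simp), mem_bot] at hmem
  obtain ⟨r, g, hr, hgr⟩ : ∃ r g : Equiv.Perm (Fin 7),
      (r = 1 ∨ r = Equiv.swap 4 5 ∨ r = Equiv.swap 0 1 * Equiv.swap 2 3 ∨
        r = Equiv.swap 0 1 * Equiv.swap 2 3 * Equiv.swap 4 5) ∧ g * r * g⁻¹ = σ := by
    by_cases h1 : σ = 1
    · exact ⟨1, 1, Or.inl rfl, by simp [h1]⟩
    have ho : orderOf σ = 2 := orderOf_eq_prime hσ h1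
    obtain ⟨n, hn⟩ := Equiv.Perm.cycleType_prime_order (σ := σ) (ho ▸ Nat.prime_two)
    rw [ho] at hn
    have hsum := (Equiv.Perm.sum_cycleType σ).trans_le (σ.support.card_le_univ)
    rw [hn, Multiset.sum_replicate, smul_eq_mul, Fintype.card_fin] at hsum
    have key : ∀ r : Equiv.Perm (Fin 7), r.cycleType = σ.cycleType → ∃ g, g * r * g⁻¹ = σ := fun r h =>
      isConj_iff.1 (Equiv.Perm.isConj_iff_cycleType_eq.2 h)
    have hn3 : n = 0 ∨ n = 1 ∨ n = 2 := by omega
    rcases hn3 with rfl | rfl | rfl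
    · obtain ⟨g, hg⟩ := key (Equiv.swap 4 5) (by rw [hn]; decide +kernel)
      exact ⟨_, g, Or.inr (Or.inl rfl), hg⟩
    · obtain ⟨g, hg⟩ := key (Equiv.swap 0 1 * Equiv.swap 2 3) (by rw [hn]; decide +kernel)
      exact ⟨_, g, Or.inr (Or.inr (Or.inl rfl)), hg⟩
    · obtain ⟨g, hg⟩ := key (Equiv.swap 0 1 * Equiv.swap 2 3 * Equiv.swap 4 5) (by rw [hn]; decide +kernel)
      exact ⟨_, g, Or.inr (Or.inr (Or.inr rfl)), hg⟩
  let A : Equiv.Perm (Fin 7) := Equiv.swap 0 1 * Equiv.swap 2 3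
  let B : Equiv.Perm (Fin 7) := Equiv.swap 0 2 * Equiv.swap 1 3
  have hA : A ^ 2 = 1 ∧ A ≠ 1 ∧ B ^ 2 = 1 ∧ B ≠ 1 ∧ A ≠ B ∧ A * B = B * A ∧
      Equiv.Perm.sign A = 1 ∧ Equiv.Perm.sign B = 1 := by decide +kernel
  have hrA : r * A = A * r ∧ r * B = B * r := by
    rcases hr with rfl | rfl | rfl | rfl <;> decide +kernel
  obtain ⟨hA2, hA1, hB2, hB1, hne, hAB, hAs, hBs⟩ := hA
  let a : alternatingGroup (Fin 7) := ⟨g * A * g⁻¹, by simp [Equiv.Perm.mem_alternatingGroup, hAs]⟩
  let b : alternatingGroup (Fin 7) := ⟨g * B * g⁻¹, by simp [Equiv.Perm.mem_alternatingGroup, hBs]⟩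
  have hfix : ∀ C : Equiv.Perm (Fin 7), r * C = C * r → σ * (g * C * g⁻¹) * σ⁻¹ = g * C * g⁻¹ := by
    intro C hC
    rw [← hgr]
    calc g * r * g⁻¹ * (g * C * g⁻¹) * (g * r * g⁻¹)⁻¹ = g * (r * C * r⁻¹) * g⁻¹ := by group
      _ = g * C * g⁻¹ := by rw [hC, mul_inv_cancel_right]
  refine hne ?_
  have hord : ∀ (C : Equiv.Perm (Fin 7)) (hC : g * C * g⁻¹ ∈ alternatingGroup (Fin 7)), C ^ 2 = 1 → C ≠ 1 →
      orderOf (⟨g * C * g⁻¹, hC⟩ : alternatingGroup (Fin 7)) = 2 := fun C hC h1 h2 => by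
    rw [Subgroup.orderOf_mk]
    exact orderOf_eq_prime (by rw [conj_pow, h1, mul_one, mul_inv_cancel]) (fun e => h2 (conj_eq_one_iff.1 e))
  have := hN a b (Subtype.ext ((MulAut.conjNormal_apply σ a).trans (hfix A hrA.1)))
    (Subtype.ext ((MulAut.conjNormal_apply σ b).trans (hfix B hrA.2)))
    (hord A _ hA2 hA1) (hord B _ hB2 hB1) (Subtype.ext (by
      show g * A * g⁻¹ * (g * B * g⁻¹) = g * B * g⁻¹ * (g * A * g⁻¹)
      calc _ = g * (A * B) * g⁻¹ := by group
        _ = g * (B * A) * g⁻¹ := by rw [hAB]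
        _ = _ := by group))
  have h := congrArg Subtype.val this
  exact mul_left_cancel (mul_right_cancel h)

/-- Two commuting involutions in a group with a cyclic Sylow 2-subgroup coincide. -/
theorem noFour_of_cyclic {G : Type u} [Group G] [Finite G] {C : Subgroup G}
    (hC : ∀ R : Sylow 2 C, IsCyclic R) : NoFour C := by
  intro a b ha hb ha2 hb2 hab
  haveI : Fact (Nat.Prime 2) := ⟨Nat.prime_two⟩
  set a' : C := ⟨a, ha⟩
  set b' : C := ⟨b, hb⟩
  have ha' : a' * a' = 1 := Subtype.ext (Invol.mul_self_eq_one ha2)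
  have hb' : b' * b' = 1 := Subtype.ext (Invol.mul_self_eq_one hb2)
  have hc' : Commute a' b' := Subtype.ext hab.eq
  haveI : IsMulCommutative (closure ({a', b'} : Set C)) := isMulCommutative_closure (by
    rintro x (rfl | rfl) y (rfl | rfl)
    exacts [rfl, hc', hc'.symm, rfl])
  have hp : IsPGroup 2 (closure ({a', b'} : Set C)) := fun x => ⟨1, Subtype.ext (by
    rw [pow_one, SubmonoidClass.coe_pow, sq, OneMemClass.coe_one]
    refine closure_induction (p := fun x _ => x * x = 1) ?_ (one_mul 1) ?_ ?_ x.2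
    · rintro y (rfl | rfl)
      exacts [ha', hb']
    · intro y w hy hw h1 h2
      have hcm : w * y = y * w := setLike_mul_comm hw hy
      calc y * w * (y * w) = y * (w * y) * w := by group
        _ = y * y * (w * w) := by rw [hcm]; group
        _ = 1 := by rw [h1, h2, one_mul]
    · intro y _ h1; rw [← mul_inv_rev, h1, inv_one])⟩
  obtain ⟨R, hR⟩ := hp.exists_le_sylow
  haveI := hC R
  have := eq_of_invol (C := (R : Subgroup C)) (hR (subset_closure (by simp : a' ∈ ({a', b'} : Set C))))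
    (hR (subset_closure (by simp : b' ∈ ({a', b'} : Set C)))) ha' hb'
    (fun e => Invol.ne_one ha2 (congrArg Subtype.val e)) (fun e => Invol.ne_one hb2 (congrArg Subtype.val e))
  exact congrArg Subtype.val this

/-- Statement S1916 from the Gorenstein–Walter theorem. -/
theorem two_invol (hGW : Statement.{u}) {G : Type u} [Group G] [Finite G] (L : Subgroup G)
    (hL : IsSimpleGroup L) (hLn : ¬ IsMulCommutative L)
    (hD : ∀ P : Sylow 2 L, ∃ n : ℕ, Nonempty (↥(P : Subgroup L) ≃* DihedralGroup n))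
    (a b : G) (ha : orderOf a = 2) (hb : orderOf b = 2) (hc : a * b = b * a)
    (haL : a ∈ normalizer (L : Set G)) (hbL : b ∈ normalizer (L : Set G))
    (hCa : ∀ R : Sylow 2 ↥(L ⊓ centralizer ({a} : Set G)), IsCyclic R)
    (hCb : ∀ R : Sylow 2 ↥(L ⊓ centralizer ({b} : Set G)), IsCyclic R)
    (hgen : ¬ L ≤ closure ({a, b} : Set G) ⊔ (L ⊓ centralizer ({a} : Set G)) ⊔
      (L ⊓ centralizer ({b} : Set G))) :
    a * b ∈ centralizer (L : Set G) := by
  classical
  haveI : Fact (Nat.Prime 2) := ⟨Nat.prime_two⟩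
  haveI := hL
  have hns : ¬ Group.IsSolvable L := fun hs => hLn ⟨⟨IsSimpleGroup.comm_iff_isSolvable.2 hs⟩⟩
  haveI : Group.IsPerfect L := by
    refine (Group.isPerfect_def (G := _)).2 ?_
    refine (inferInstance : (commutator L).Normal).eq_bot_or_eq_top.resolve_left fun hb => hns ?_
    exact Group.isSolvable_of_comm fun x y => commutatorElement_eq_one_iff_mul_comm.1 (mem_bot.1
      (hb ▸ commutator_mem_commutator (mem_top x) (mem_top y)))
  obtain ⟨S⟩ : Nonempty (Sylow 2 L) := inferInstance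
  obtain ⟨m, ⟨eS⟩⟩ := hD S
  have hm : 2 ≤ m := by
    by_contra hm
    interval_cases m
    · have := Nat.card_congr eS.toEquiv
      rw [DihedralGroup.nat_card] at this
      exact Nat.card_pos.ne' (by simpa using this)
    · refine hns (isSolvable_of_cyclic_sylow S (isCyclic_of_prime_card (p := 2) ?_))
      rw [Nat.card_congr eS.toEquiv, DihedralGroup.nat_card]
  have hO : Cfsg.oddCore L = ⊥ :=
    (DGroup.normal_oddCore L).eq_bot_or_eq_top.resolve_right fun h => hns (by
      haveI := DGroup.solvable_of_odd (Cfsg.oddCore L) (DGroup.odd_oddCore L)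
      exact Group.isSolvable_of_surjective (f := (Cfsg.oddCore L).subtype) fun x => ⟨⟨x, h ▸ mem_top x⟩, rfl⟩)
  let bot : L ⧸ Cfsg.oddCore L ≃* L :=
    (QuotientGroup.quotientMulEquivOfEq hO).trans QuotientGroup.quotientBot
  -- the automorphisms
  have hmk : ∀ g ∈ normalizer (L : Set G), ∃ φ : MulAut L, ∀ x : L, (φ x : G) = g * x * g⁻¹ := fun g hg =>
    ⟨((MulAut.conj g).subgroupMap L).trans
      (MulEquiv.subgroupCongr (mem_normalizer_iff_map_conj_eq.1 hg)), fun _ => rfl⟩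
  obtain ⟨φa, hφa⟩ := hmk a haL
  obtain ⟨φb, hφb⟩ := hmk b hbL
  have hsq : ∀ (g : G) (φ : MulAut L), orderOf g = 2 → (∀ x : L, (φ x : G) = g * x * g⁻¹) → φ * φ = 1 :=
    fun g φ hg hφ => MulEquiv.ext fun x => Subtype.ext (by
      rw [MulAut.mul_apply, MulAut.one_apply, hφ, hφ]
      have h := Invol.mul_self_eq_one hg
      calc g * (g * x * g⁻¹) * g⁻¹ = g * g * x * (g * g)⁻¹ := by group
        _ = x := by rw [h, inv_one, mul_one, one_mul])
  have hcomm : φa * φb = φb * φa := MulEquiv.ext fun x => Subtype.ext (by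
    rw [MulAut.mul_apply, MulAut.mul_apply, hφa, hφb, hφb, hφa]
    calc a * (b * x * b⁻¹) * a⁻¹ = a * b * x * (a * b)⁻¹ := by group
      _ = b * a * x * (b * a)⁻¹ := by rw [hc]
      _ = b * (a * x * a⁻¹) * b⁻¹ := by group)
  have main : ∀ {P : Type} [Group P] [Finite P] (e : L ≃* P),
      (∀ α β : MulAut P, α * α = 1 → β * β = 1 → α * β = β * α → NoFour (fix α) → NoFour (fix β) →
        fix α ⊔ fix β ≠ ⊤ → α = β) → a * b ∈ centralizer (L : Set G) := by
    intro P _ _ e hP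
    set α := MulAut.congr e φa with hαd
    set β := MulAut.congr e φb with hβd
    have hmem : ∀ (g : G) (φ : MulAut L), (∀ x : L, (φ x : G) = g * x * g⁻¹) → ∀ y ∈ fix (MulAut.congr e φ),
        (e.symm y : G) ∈ L ⊓ centralizer ({g} : Set G) := by
      intro g φ hφ y hy
      refine ⟨(e.symm y).2, mem_centralizer_singleton_iff.2 ?_⟩
      have h : φ (e.symm y) = e.symm y := e.injective (hy.trans (e.apply_symm_apply y).symm)
      have h' := congrArg Subtype.val h
      rw [hφ, mul_inv_eq_iff_eq_mul] at h'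
      exact h'.symm
    have hNo : ∀ (g : G) (φ : MulAut L), (∀ x : L, (φ x : G) = g * x * g⁻¹) →
        (∀ R : Sylow 2 ↥(L ⊓ centralizer ({g} : Set G)), IsCyclic R) → NoFour (fix (MulAut.congr e φ)) := by
      intro g φ hφ hR x y hx hy hx2 hy2 hxy
      have := noFour_of_cyclic hR _ _ (hmem g φ hφ x hx) (hmem g φ hφ y hy)
        (by rw [Subgroup.orderOf_coe, MulEquiv.orderOf_eq, hx2])
        (by rw [Subgroup.orderOf_coe, MulEquiv.orderOf_eq, hy2])
        (congrArg Subtype.val (hxy.map e.symm).eq)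
      exact e.symm.injective (Subtype.ext this)
    have hne : fix α ⊔ fix β ≠ ⊤ := by
      intro htop
      refine hgen fun x hx => ?_
      let f : P →* G := L.subtype.comp e.symm.toMonoidHom
      have h1 : x ∈ (fix α ⊔ fix β).map f := by
        rw [htop]
        exact ⟨e ⟨x, hx⟩, mem_top _, by simp [f]⟩
      rw [Subgroup.map_sup] at h1
      revert h1
      refine fun h1 => (sup_le_sup ?_ ?_ : _ ≤ closure ({a, b} : Set G) ⊔ (L ⊓ centralizer ({a} : Set G)) ⊔ _) h1
      · rintro _ ⟨y, hy, rfl⟩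
        exact mem_sup_right (hmem a φa hφa y hy)
      · rintro _ ⟨y, hy, rfl⟩
        exact hmem b φb hφb y hy
    have heq : α = β := hP α β (by rw [hαd, ← map_mul, hsq a φa ha hφa, map_one])
      (by rw [hβd, ← map_mul, hsq b φb hb hφb, map_one]) (by rw [hαd, hβd, ← map_mul, hcomm, map_mul])
      (hNo a φa hφa hCa) (hNo b φb hφb hCb) hne
    have hφ : φa = φb := (MulAut.congr e).injective heq
    refine mem_centralizer_iff.2 fun x hx => ?_
    have h : a * x * a⁻¹ = b * x * b⁻¹ := by rw [← hφa ⟨x, hx⟩, hφ, hφb]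
    have ha' := Invol.inv_eq_self ha
    have hb2 := Invol.mul_self_eq_one hb
    calc x * (a * b) = a⁻¹ * (a * x * a⁻¹) * a * (a * b) := by group
      _ = a⁻¹ * (b * x * b⁻¹) * (a * a) * b := by rw [h]; group
      _ = a * b * x := by
        rw [Invol.mul_self_eq_one ha, mul_one, ha']
        group
  rcases hGW L S m hm ⟨eS⟩ with ⟨F, _, _, hodd, h3, ⟨e0⟩⟩ | ⟨⟨e0⟩⟩
  · refine main (bot.symm.trans e0) fun α β h1 h2 h3' h4 h5 h6 =>
      AutInvol.generation (by rwa [Nat.card_eq_fintype_card])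
        (by rw [Nat.card_eq_fintype_card]; obtain ⟨j, hj⟩ := hodd; omega) α β h1 h2 h3' h4 h5 h6
  · exact main (bot.symm.trans e0) fun α β h1 h2 h3' h4 h5 h6 => absurd h4 (a7_four α h1)

end CfsgLib.GWApps
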