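import Cfsg.Agent.GWApps.Tools
import Cfsg.Agent.SLMult.PSL
import Cfsg.Agent.AltSixMult.SLTwoNine
import Cfsg.Agent.Classical.SmallPSL
import Cfsg.Prelude.Def_SporadicB
import Mathlib.Logic.Small.Basic
import Mathlib.GroupTheory.SpecificGroups.Alternating.Simple

/-!
# Perfect groups of 2-rank one modulo their cores
-/

set_option autoImplicit false
set_option linter.unusedSectionVars false
set_option linter.style.haveILetI false

namespace CfsgLib.GWApps

open Subgroup

universe u v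

variable {G : Type u} [Group G] [Finite G]

/-- The Sylow subgroup modulo the odd core. -/
theorem sylow_mod_core (S : Sylow 2 G) :
    ∃ T : Sylow 2 (G ⧸ Cfsg.oddCore G), Nonempty ((S : Subgroup G) ≃* (T : Subgroup (G ⧸ Cfsg.oddCore G))) := by
  haveI : Fact (Nat.Prime 2) := ⟨Nat.prime_two⟩
  set f := QuotientGroup.mk' (Cfsg.oddCore G)
  refine ⟨S.mapSurjective (QuotientGroup.mk'_surjective _), ⟨MulEquiv.ofBijective
    (f.subgroupMap (S : Subgroup G)) ⟨?_, ?_⟩⟩⟩
  · refine (injective_iff_map_eq_one _).2 fun x hx => Subtype.ext ?_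
    obtain ⟨k, hk⟩ := IsPGroup.iff_orderOf.1 S.2 x
    have h1 : (x : G) ∈ Cfsg.oddCore G := (QuotientGroup.eq_one_iff (N := Cfsg.oddCore G) (x : G)).1
      (congrArg Subtype.val hx)
    have h2 := DGroup.odd_orderOf (DGroup.odd_oddCore G) h1
    rw [Subgroup.orderOf_coe, hk] at h2
    rcases k.eq_zero_or_pos with rfl | h
    · exact congrArg Subtype.val (orderOf_eq_one_iff.1 (hk.trans (pow_zero 2)))
    · exact absurd (Nat.even_pow.2 ⟨even_two, by omega⟩) (Nat.not_even_iff_odd.2 h2)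
  · rintro ⟨_, x, hx, rfl⟩
    exact ⟨⟨x, hx⟩, rfl⟩

/-- Groups with quaternion Sylow subgroups modulo the core: centre of order two, dihedral below. -/
theorem quaternion_mod_core {n : ℕ} (hn : 1 ≤ n) (S : Sylow 2 G)
    (e : (S : Subgroup G) ≃* QuaternionGroup (2 ^ n)) :
    Nat.card (center (G ⧸ Cfsg.oddCore G)) = 2 ∧
      Cfsg.oddCore ((G ⧸ Cfsg.oddCore G) ⧸ center (G ⧸ Cfsg.oddCore G)) = ⊥ ∧
      ∃ T : Sylow 2 ((G ⧸ Cfsg.oddCore G) ⧸ center (G ⧸ Cfsg.oddCore G)),
        Nonempty ((T : Subgroup ((G ⧸ Cfsg.oddCore G) ⧸ center (G ⧸ Cfsg.oddCore G))) ≃* DihedralGroup (2 ^ n)) := by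
  haveI : Fact (Nat.Prime 2) := ⟨Nat.prime_two⟩
  obtain ⟨T₀, ⟨e₀⟩⟩ := sylow_mod_core S
  have hO : Cfsg.oddCore (G ⧸ Cfsg.oddCore G) = ⊥ := LocalB.oddCore_quotient
  obtain ⟨m, rfl⟩ : ∃ m, n = m + 1 := ⟨n - 1, by omega⟩
  have h2 := ZStar.center_card_two T₀ m (e₀.symm.trans e) fun N hN ho =>
    le_bot_iff.1 (hO ▸ DGroup.le_oddCore hN ho)
  refine ⟨h2, oddCore_quotient_central h2 hO, T₀.mapSurjective (QuotientGroup.mk'_surjective _), ?_⟩
  set f := QuotientGroup.mk' (center (G ⧸ Cfsg.oddCore G))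
  have hZle : center (G ⧸ Cfsg.oddCore G) ≤ (T₀ : Subgroup _) := by
    refine IsPGroup.le_sylow_of_normal ?_ T₀
    exact IsPGroup.of_card (n := 1) (by rw [h2, pow_one])
  let g : (T₀ : Subgroup (G ⧸ Cfsg.oddCore G)) →* ((T₀ : Subgroup _).map f : Subgroup _) :=
    f.subgroupMap (T₀ : Subgroup _)
  refine dihedral_image (by omega) (e₀.symm.trans e) g (f.subgroupMap_surjective _) ?_
  refine Eq.trans (Nat.card_congr ?_) h2
  exact
    { toFun := fun x => ⟨x.1.1, (QuotientGroup.eq_one_iff _).1 (congrArg Subtype.val (x.2 : g x.1 = 1))⟩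
      invFun := fun z => ⟨⟨z.1, hZle z.2⟩, Subtype.ext ((QuotientGroup.eq_one_iff _).2 z.2)⟩
      left_inv := fun _ => rfl
      right_inv := fun _ => rfl }

/-- A perfect double cover of `PSL₂(q)`, `q` odd, is `SL₂(q)`. -/
theorem cover_sl_small {F : Type} [Field F] [Fintype F] (hodd : Odd (Fintype.card F))
    (h3 : 3 < Fintype.card F) {Y : Type} [Group Y] [Finite Y] (hperf : commutator Y = ⊤)
    (σ : Y →* Matrix.ProjectiveSpecialLinearGroup (Fin 2) F) (hσ : Function.Surjective σ)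
    (hc : σ.ker ≤ center Y) (h2 : Nat.card σ.ker = 2) :
    Nonempty (Y ≃* Matrix.SpecialLinearGroup (Fin 2) F) := by
  classical
  have hsl : commutator (Matrix.SpecialLinearGroup (Fin 2) F) = ⊤ :=
    CfsgLib.Linear.commutator_SL_eq_top (Or.inr (CfsgLib.Linear.Small.exists_sq_ne_one (F := F) (by omega)))
  let τ : Matrix.SpecialLinearGroup (Fin 2) F →* Matrix.ProjectiveSpecialLinearGroup (Fin 2) F :=
    QuotientGroup.mk' (center (Matrix.SpecialLinearGroup (Fin 2) F))
  let f := (Schur.psnd σ τ).comp (commutator (Schur.pullback σ τ)).subtype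
  have hst : Cfsg.IsStemExtension f := SLMult.derived_stem _ (Schur.psnd_surjective σ τ hσ)
    (SLMult.psnd_ker_le_center σ τ hc) hsl
  have hkodd : Odd (Nat.card f.ker) := by
    by_cases h9 : Fintype.card F = 9
    · obtain ⟨π, hπ⟩ := (CfsgLib.AltSixMult.hasSchurMultiplier_sl_two_nine h9).2 _ f hst
      have h := Subgroup.card_dvd_of_surjective π hπ
      rw [Nat.card_congr Multiplicative.toAdd, Nat.card_zmod] at h
      exact (by decide : Odd 3).of_dvd_nat h
    · rw [CfsgLib.SL2Mult.ker_eq_bot (F := F) (fun h => by rw [h] at hodd; exact absurd hodd (by decide))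
        h9 hst, card_bot]
      exact odd_one
  have hk : f.ker = ⊥ := by
    rw [eq_bot_iff]
    intro x hx
    rw [mem_bot]
    have ho : Odd (orderOf x) := hkodd.of_dvd_nat (orderOf_dvd_natCard _ hx)
    refine DGroup.eq_one_of_sq (Subtype.ext (Subtype.ext (Prod.ext ?_ ?_))) ho
    · have hs : Schur.pfst σ τ (x : Schur.pullback σ τ) ∈ σ.ker := by
        rw [MonoidHom.mem_ker]
        have hx' : Schur.psnd σ τ (x : Schur.pullback σ τ) = 1 := hx
        exact ((x : Schur.pullback σ τ).2).trans ((congrArg τ hx').trans (map_one _))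
      have := pow_card_eq_one' (x := (⟨_, hs⟩ : σ.ker))
      rw [h2, sq] at this
      exact congrArg Subtype.val this
    · have h1 : Schur.psnd σ τ (x : Schur.pullback σ τ) = 1 := hx
      show Schur.psnd σ τ (x : Schur.pullback σ τ) * Schur.psnd σ τ (x : Schur.pullback σ τ) = 1
      rw [h1, one_mul]
  let e := MulEquiv.ofBijective f ⟨(MonoidHom.ker_eq_bot_iff _).1 hk, hst.1⟩
  let φ : Matrix.SpecialLinearGroup (Fin 2) F →* Y :=
    ((Schur.pfst σ τ).comp (commutator (Schur.pullback σ τ)).subtype).comp e.symm.toMonoidHom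
  have hφ : Function.Surjective φ := fun y => by
    obtain ⟨p, hp, rfl⟩ := (Schur.map_commutator_of_surjective _
      (Schur.pfst_surjective σ τ (QuotientGroup.mk'_surjective _))).ge (hperf ▸ mem_top y)
    exact ⟨e ⟨p, hp⟩, congrArg (fun q => Schur.pfst σ τ (q : commutator (Schur.pullback σ τ)).1)
      (e.symm_apply_apply ⟨p, hp⟩)⟩
  refine ⟨(MulEquiv.ofBijective φ (hφ.bijective_of_nat_card_le ?_)).symm⟩
  have hY : Nat.card Y = 2 * Nat.card (Matrix.ProjectiveSpecialLinearGroup (Fin 2) F) := by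
    rw [← σ.ker.card_mul_index, h2, index_ker, MonoidHom.range_eq_top.2 hσ, card_top]
  have hS := Subgroup.card_eq_card_quotient_mul_card_subgroup (center (Matrix.SpecialLinearGroup (Fin 2) F))
  rw [CfsgLib.Linear.card_center_SL, Fintype.card_fin, Nat.card_eq_fintype_card (α := F)] at hS
  have hg : Nat.gcd 2 (Fintype.card F - 1) = 2 := by
    refine Nat.gcd_eq_left ?_
    obtain ⟨k, hk'⟩ := hodd
    omega
  rw [hS, hY, hg, mul_comm]

/-- The same in any universe. -/
theorem cover_sl {F : Type} [Field F] [Fintype F] (hodd : Odd (Fintype.card F))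
    (h3 : 3 < Fintype.card F) {Y : Type u} [Group Y] [Finite Y] (hperf : commutator Y = ⊤)
    (σ : Y →* Matrix.ProjectiveSpecialLinearGroup (Fin 2) F) (hσ : Function.Surjective σ)
    (hc : σ.ker ≤ center Y) (h2 : Nat.card σ.ker = 2) :
    Nonempty (Y ≃* Matrix.SpecialLinearGroup (Fin 2) F) := by
  let ψ : Shrink.{0} Y ≃* Y := Shrink.mulEquiv
  haveI : Group.IsPerfect Y := ⟨hperf⟩
  haveI : Group.IsPerfect (Shrink.{0} Y) := Group.IsPerfect.ofSurjective (f := ψ.symm.toMonoidHom) ψ.symm.surjective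
  obtain ⟨e⟩ := cover_sl_small hodd h3 Group.IsPerfect.commutator_eq_top (σ.comp ψ.toMonoidHom)
    (hσ.comp ψ.surjective)
    (fun x hx => mem_center_iff.2 fun y => ψ.injective (by
      rw [map_mul, map_mul]; exact mem_center_iff.1 (hc hx) (ψ y)))
    (by
      refine Eq.trans (Nat.card_congr ?_) h2
      exact
        { toFun := fun x => ⟨ψ x.1, x.2⟩
          invFun := fun y => ⟨ψ.symm y.1, by
            show σ (ψ (ψ.symm y.1)) = 1
            rw [ψ.apply_symm_apply]; exact y.2⟩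
          left_inv := fun x => Subtype.ext (ψ.symm_apply_apply _)
          right_inv := fun y => Subtype.ext (ψ.apply_symm_apply _) })
  exact ⟨ψ.symm.trans e⟩

/-- Perfect groups of 2-rank one. -/
theorem perfect_rank_one (hGW : Statement.{u}) {X : Type u} [Group X] [Finite X]
    (hP : Group.IsPerfect X) (h1 : Cfsg.PRankLE 2 1 X) (h2 : Even (Nat.card X)) :
    (∃ (F : Type) (_ : Field F) (_ : Fintype F), Odd (Fintype.card F) ∧ 3 < Fintype.card F ∧
        Nonempty (X ⧸ Cfsg.oddCore X ≃* Matrix.SpecialLinearGroup (Fin 2) F)) ∨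
      Cfsg.IsNonsplitDoubleCover (X ⧸ Cfsg.oddCore X) ↥(alternatingGroup (Fin 7)) := by
  haveI := hP
  haveI : Nontrivial X := Finite.one_lt_card_iff_nontrivial.1 (by
    have := Nat.card_pos (α := X)
    obtain ⟨k, hk⟩ := h2
    omega)
  obtain ⟨S⟩ : Nonempty (Sylow 2 X) := inferInstance
  have hr : Cfsg.PRankLE 2 1 (S : Subgroup X) := fun A hA hA2 => by
    rw [← card_map_of_injective (S : Subgroup X).subtype_injective]
    haveI := hA
    refine h1 _ (map_isMulCommutative _ _) ?_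
    rintro _ ⟨a, ha, rfl⟩
    rw [← map_pow, hA2 a ha, map_one]
  rcases cyclic_or_quaternion_of_rank S.2 hr with hc | ⟨n, hn, ⟨e⟩⟩
  · exact absurd (isSolvable_of_cyclic_sylow S hc) (Group.IsPerfect.not_isSolvable X)
  obtain ⟨hz2, hO, T, hT⟩ := quaternion_mod_core hn S e
  have hperfY : Group.IsPerfect (X ⧸ Cfsg.oddCore X) :=
    Group.IsPerfect.ofSurjective (f := QuotientGroup.mk' _) (QuotientGroup.mk'_surjective _)
  haveI : Group.IsPerfect ((X ⧸ Cfsg.oddCore X) ⧸ center (X ⧸ Cfsg.oddCore X)) :=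
    Group.IsPerfect.ofSurjective (f := QuotientGroup.mk' _) (QuotientGroup.mk'_surjective _)
  set Y := X ⧸ Cfsg.oddCore X
  let bot : (Y ⧸ center Y) ⧸ Cfsg.oddCore (Y ⧸ center Y) ≃* Y ⧸ center Y :=
    (QuotientGroup.quotientMulEquivOfEq hO).trans QuotientGroup.quotientBot
  rcases hGW (Y ⧸ center Y) T (2 ^ n) (Nat.le_self_pow (by omega) 2) hT with
    ⟨F, _, _, hodd, h3, ⟨q⟩⟩ | ⟨⟨q⟩⟩
  · left
    refine ⟨F, inferInstance, inferInstance, hodd, h3, ?_⟩
    let ι : Y ⧸ center Y ≃* Matrix.ProjectiveSpecialLinearGroup (Fin 2) F := bot.symm.trans q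
    have hk : (ι.toMonoidHom.comp (QuotientGroup.mk' (center Y))).ker = center Y := by
      ext x; simp
    exact cover_sl hodd h3 hperfY.commutator_eq_top (ι.toMonoidHom.comp (QuotientGroup.mk' (center Y)))
      (ι.surjective.comp (QuotientGroup.mk'_surjective _)) hk.le (by rw [hk]; exact hz2)
  · right
    refine ⟨hz2, ⟨bot.symm.trans q⟩, fun L hL => ?_⟩
    have hidx : L.index = 2 := by rw [hL.index_eq_card, hz2]
    haveI := normal_of_index_eq_two hidx
    haveI : Group.IsPerfect (Y ⧸ L) :=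
      Group.IsPerfect.ofSurjective (f := QuotientGroup.mk' _) (QuotientGroup.mk'_surjective _)
    haveI : Fact (Nat.Prime 2) := ⟨Nat.prime_two⟩
    haveI : IsCyclic (Y ⧸ L) := isCyclic_of_prime_card (p := 2) (by rw [← hidx]; rfl)
    haveI : IsMulCommutative (Y ⧸ L) := IsCyclic.isMulCommutative
    haveI : Nontrivial (Y ⧸ L) := Finite.one_lt_card_iff_nontrivial.1 (by rw [← index_eq_card, hidx]; norm_num)
    exact Group.IsPerfect.not_isMulCommutative (Y ⧸ L) inferInstance

end CfsgLib.GWApps
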