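import Cfsg.Agent.GWApps.Dihedral
import Cfsg.Agent.GWApps.RankOne
import Cfsg.Agent.S2879
import Cfsg.Agent.S2119
import Cfsg.Agent.Fusion.Tame.SLModels
import Cfsg.Agent.Zassenhaus.ComplementType
import Cfsg.Agent.Invol.Wreathed
import Cfsg.Agent.Invol.QuasiDihedral
import Cfsg.Agent.SmallSimple.Basic

/-!
# Normal subgroups with quaternion Sylow 2-subgroups in quasi-dihedral and wreathed groups
-/

set_option autoImplicit false
set_option linter.unusedSectionVars false
set_option linter.style.haveILetI false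

namespace CfsgLib.GWApps.QNormal

open Subgroup

universe u

variable {H : Type u} [Group H] [Finite H] {K : Subgroup H}

/-- The Sylow condition. -/
def QuatSylow (K : Subgroup H) : Prop :=
  ∀ P : Sylow 2 K, ∃ m : ℕ, 1 ≤ m ∧ Nonempty ((P : Subgroup K) ≃* QuaternionGroup (2 ^ m))

theorem centerCongr_map {A B : Type*} [Group A] [Group B] (e : A ≃* B) :
    (center A).map e.toMonoidHom = center B := by
  ext b
  simp only [Subgroup.mem_map, mem_center_iff, MulEquiv.coe_toMonoidHom]
  constructor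
  · rintro ⟨a, ha, rfl⟩ x
    obtain ⟨y, rfl⟩ := e.surjective x
    rw [← map_mul, ← map_mul, ha]
  · intro hb
    obtain ⟨a, rfl⟩ := e.surjective b
    exact ⟨a, fun x => e.injective (by rw [map_mul, map_mul, hb]), rfl⟩

theorem invol_eq (hQ : QuatSylow K) {a b : H} (ha : a ∈ K) (hb : b ∈ K) (ha2 : orderOf a = 2)
    (hb2 : orderOf b = 2) (hc : Commute a b) : a = b := by
  haveI : Fact (Nat.Prime 2) := ⟨Nat.prime_two⟩
  set a' : K := ⟨a, ha⟩
  set b' : K := ⟨b, hb⟩
  have hA : IsPGroup 2 (zpowers a') := IsPGroup.of_card (n := 1) (by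
    rw [Nat.card_zpowers, ← Subgroup.orderOf_coe, pow_one]; exact ha2)
  have hB : IsPGroup 2 (zpowers b') := IsPGroup.of_card (n := 1) (by
    rw [Nat.card_zpowers, ← Subgroup.orderOf_coe, pow_one]; exact hb2)
  have hn : zpowers a' ≤ normalizer (zpowers b' : Set K) := by
    refine le_trans (zpowers_le.2 ?_) (centralizer_le_normalizer _)
    refine mem_centralizer_iff.2 fun x hx => ?_
    obtain ⟨i, rfl⟩ := mem_zpowers_iff.1 hx
    exact ((show Commute a' b' from Subtype.ext hc.eq).zpow_right i).eq.symm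
  obtain ⟨P, hP⟩ := (hA.to_sup_of_normal_right' hB hn).exists_le_sylow
  obtain ⟨m, -, ⟨e⟩⟩ := hQ P
  have ho : ∀ {c : K} (hc : c ∈ (P : Subgroup K)), orderOf (c : H) = 2 → orderOf (e ⟨c, hc⟩) = 2 :=
    fun hc h => by rw [e.orderOf_eq, Subgroup.orderOf_mk, ← Subgroup.orderOf_coe, h]
  have h := QSection.quaternion_involution _ _ (ho (hP (mem_sup_left (mem_zpowers a'))) ha2)
    (ho (hP (mem_sup_right (mem_zpowers b'))) hb2)
  exact congrArg (fun c : (P : Subgroup K) => ((c : K) : H)) (e.injective h)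

theorem rank_le (hQ : QuatSylow K) {R : Subgroup H} (hR : R ≤ K) : Cfsg.PRankLE 2 1 R := by
  classical
  intro A hA hA2
  haveI := hA
  by_cases hA1 : A = ⊥
  · rw [hA1, card_bot]; norm_num
  obtain ⟨a, ha, ha1⟩ := A.bot_or_exists_ne_one.resolve_left hA1
  have ho : ∀ c ∈ A, c ≠ 1 → orderOf ((c : R) : H) = 2 := fun c hc hc1 => by
    rw [Subgroup.orderOf_coe]
    exact orderOf_eq_prime (hA2 c hc) hc1
  refine le_trans (Nat.card_le_card_of_injective (fun c : A => decide ((c : R) = 1)) ?_)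
    (by rw [Nat.card_eq_fintype_card, Fintype.card_bool]; norm_num)
  intro c d hcd
  have h : ((c : R) = 1 ↔ (d : R) = 1) := decide_eq_decide.1 hcd
  by_cases hc : (c : R) = 1
  · exact Subtype.ext (hc.trans (h.1 hc).symm)
  · refine Subtype.ext (Subtype.ext (invol_eq hQ (hR c.1.2) (hR d.1.2) (ho _ c.2 hc)
      (ho _ d.2 fun e => hc (h.2 e)) ?_))
    exact congrArg (fun v : R => (v : H)) (congrArg Subtype.val (hA.is_comm.comm c d))

/-- Commuting elements of order four generate the same subgroup. -/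
theorem four_mem_zpowers (hQ : QuatSylow K) {v w : H} (hv : v ∈ K) (hw : w ∈ K) (hv4 : orderOf v = 4)
    (hw4 : orderOf w = 4) (hc : Commute v w) : v ∈ zpowers w := by
  have h2 : ∀ {c : H}, orderOf c = 4 → orderOf (c ^ 2) = 2 := fun h => by
    rw [orderOf_pow_of_dvd two_ne_zero (by rw [h]; norm_num), h]
  have hsq := invol_eq hQ (pow_mem hv 2) (pow_mem hw 2) (h2 hv4) (h2 hw4) ((hc.pow_pow 2 2))
  have hw4' : w ^ 4 = 1 := hw4 ▸ pow_orderOf_eq_one w
  have hvw : (v * w) ^ 2 = 1 := by
    rw [hc.mul_pow, hsq, ← pow_add]; exact hw4'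
  by_cases h1 : v * w = 1
  · rw [eq_inv_of_mul_eq_one_left h1]; exact inv_mem (mem_zpowers w)
  · have := invol_eq hQ (mul_mem hv hw) (pow_mem hw 2) (orderOf_eq_prime hvw h1) (h2 hw4)
      ((hc.mul_left (Commute.refl w)).pow_right 2)
    rw [sq, mul_left_inj] at this
    exact this ▸ mem_zpowers w

/-- `SL₂` over a field of odd order has an element of order four. -/
theorem exists_four {F : Type} [Field F] [Fintype F] (hodd : Odd (Fintype.card F)) :
    ∃ g : Matrix.SpecialLinearGroup (Fin 2) F, orderOf g = 4 := by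
  obtain ⟨g, hgval⟩ : ∃ g : Matrix.SpecialLinearGroup (Fin 2) F,
      (g : Matrix (Fin 2) (Fin 2) F) = !![0, 1; -1, 0] :=
    ⟨⟨!![0, 1; -1, 0], by simp [Matrix.det_fin_two]⟩, rfl⟩
  refine ⟨g, ?_⟩
  have h2 : (2 : F) ≠ 0 := by
    intro h
    haveI : CharP F 2 := (CharP.charP_iff_prime_eq_zero Nat.prime_two).2 (by exact_mod_cast h)
    obtain ⟨n, -, hn⟩ := FiniteField.card F 2
    rw [hn] at hodd
    exact Nat.not_even_iff_odd.2 hodd (even_two.pow_of_ne_zero n.ne_zero)
  refine orderOf_eq_prime_pow (p := 2) (n := 1) ?_ ?_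
  · intro h
    rw [pow_one, sq] at h
    have := congrArg (fun m : Matrix.SpecialLinearGroup (Fin 2) F =>
      (m : Matrix (Fin 2) (Fin 2) F) 0 0) h
    simp [hgval, Matrix.mul_apply, Fin.sum_univ_two] at this
    exact h2 (by linear_combination -this)
  · rw [show 2 ^ (1 + 1) = 4 from rfl, pow_succ, pow_succ, pow_two]
    refine Subtype.ext ?_
    ext i j
    fin_cases i <;> fin_cases j <;> simp [hgval, Matrix.mul_apply, Fin.sum_univ_two]

/-- `SL₂(F)`, `|F|` odd, lies in every normal subgroup of `2`-power index. -/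
theorem le_of_two_power_index [K.Normal] (hidx : ∃ a : ℕ, K.index = 2 ^ a) {L : Subgroup H}
    {F : Type} [Field F] [Fintype F] (hodd : Odd (Fintype.card F))
    (e : L ≃* Matrix.SpecialLinearGroup (Fin 2) F) : L ≤ K := by
  haveI : Fact (Nat.Prime 2) := ⟨Nat.prime_two⟩
  obtain ⟨a, ha⟩ := hidx
  have h2 : (2 : F) ≠ 0 := by
    intro h
    haveI : CharP F 2 := (CharP.charP_iff_prime_eq_zero Nat.prime_two).2 (by exact_mod_cast h)
    obtain ⟨n, -, hn⟩ := FiniteField.card F 2
    rw [hn] at hodd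
    exact Nat.not_even_iff_odd.2 hodd (even_two.pow_of_ne_zero n.ne_zero)
  by_contra hle
  set f := (QuotientGroup.mk' K).comp L.subtype
  have hR : IsPGroup 2 f.range := (IsPGroup.of_card (G := H ⧸ K) (n := a) (by
    rw [← index_eq_card, ha])).to_subgroup _
  have hne : f.range ≠ ⊥ := fun h => hle fun x hx => (QuotientGroup.eq_one_iff x).1
    (mem_bot.1 (h ▸ (⟨⟨x, hx⟩, rfl⟩ : QuotientGroup.mk' K x ∈ f.range)))
  haveI : Nontrivial f.range := (nontrivial_iff_ne_bot _).2 hne
  obtain ⟨M, hM⟩ : ∃ M : Subgroup f.range, M.index = 2 := by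
    obtain ⟨j, hj⟩ := IsPGroup.iff_card.1 hR
    have hj0 : 0 < j := Nat.pos_of_ne_zero fun h => by
      have := Finite.one_lt_card (α := f.range)
      rw [hj, h, pow_zero] at this; omega
    obtain ⟨M, hM⟩ := Sylow.exists_subgroup_card_pow_prime 2 (G := f.range) (n := j - 1)
      (hj ▸ Nat.pow_dvd_pow 2 (Nat.sub_le j 1))
    refine ⟨M, ?_⟩
    have h := M.card_mul_index
    rw [hM, hj, show j = j - 1 + 1 by omega, pow_succ, Nat.add_sub_cancel] at h
    exact Nat.eq_of_mul_eq_mul_left (Nat.two_pow_pos _) h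
  refine Tame.no_index_two_of_surjective (f.rangeRestrict.comp e.symm.toMonoidHom)
    (f.rangeRestrict_surjective.comp e.symm.surjective) (Tame.sl_no_index_two h2) M hM

/-- The solvable case. -/
theorem solvable_case [Group.IsSolvable K] (hQ : QuatSylow K) (hO : Cfsg.oddCore K = ⊥)
    (h2 : ∀ M : Subgroup K, M.index ≠ 2) :
    Nonempty (K ≃* Matrix.SpecialLinearGroup (Fin 2) (ZMod 3)) := by
  haveI : Fact (Nat.Prime 2) := ⟨Nat.prime_two⟩
  set R := Cfsg.pCore 2 K with hRdef
  have hRp : IsPGroup 2 R := Solvable.isPGroup_pCore 2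
  haveI hRn : R.Normal := (Solvable.pCore_spec (G := K) 2).1
  have hC : centralizer (R : Set K) ≤ R := Fitting.centralizer_pCore_le hO
  have hN : ∀ g : K, g ∈ normalizer (R : Set K) := fun g => by
    rw [normalizer_eq_top]; trivial
  have hnp : ¬ IsPGroup 2 K := by
    intro hp
    obtain ⟨P⟩ : Nonempty (Sylow 2 K) := inferInstance
    obtain ⟨m, hm, ⟨e⟩⟩ := hQ P
    obtain ⟨j, hj⟩ := IsPGroup.iff_card.1 hp
    have hj0 : 0 < j := Nat.pos_of_ne_zero fun h => by
      have h1 := Nat.le_of_dvd Nat.card_pos (Subgroup.card_subgroup_dvd_card (P : Subgroup K))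
      rw [hj, h, pow_zero, Nat.card_congr e.toEquiv, Nat.card_eq_fintype_card,
        QuaternionGroup.card] at h1
      have := Nat.two_pow_pos m
      omega
    obtain ⟨M, hM⟩ := Sylow.exists_subgroup_card_pow_prime 2 (G := K) (n := j - 1)
      (hj ▸ Nat.pow_dvd_pow 2 (Nat.sub_le j 1))
    refine h2 M ?_
    have h := M.card_mul_index
    rw [hM, hj, show j = j - 1 + 1 by omega, pow_succ, Nat.add_sub_cancel] at h
    exact Nat.eq_of_mul_eq_mul_left (Nat.two_pow_pos _) h
  obtain ⟨y, hy, hy1⟩ : ∃ y : K, Odd (orderOf y) ∧ y ≠ 1 := by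
    obtain ⟨r, hr, hrd, hr2⟩ : ∃ r, r.Prime ∧ r ∣ Nat.card K ∧ r ≠ 2 := by
      by_contra h
      push Not at h
      exact hnp (IsPGroup.of_card (Nat.eq_prime_pow_of_unique_prime_dvd Nat.card_pos.ne'
        fun {d} => h d))
    haveI := Fact.mk hr
    obtain ⟨x, hx⟩ := exists_prime_orderOf_dvd_card' r hrd
    exact ⟨x, hx.symm ▸ hr.odd_of_ne_two hr2, fun h => hr.ne_one (by rw [← hx, h, orderOf_one])⟩
  have hyC : ∀ z : K, Odd (orderOf z) → z ∈ centralizer (R : Set K) → z = 1 := fun z hz h => by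
    obtain ⟨k, hk⟩ := hRp ⟨z, hC h⟩
    exact orderOf_eq_one_iff.1 (Nat.eq_one_of_dvd_coprimes
      ((Nat.coprime_two_right.2 hz).pow_right k) dvd_rfl
      (orderOf_dvd_of_pow_eq_one (by simpa using congrArg Subtype.val hk)))
  have hrank : Cfsg.PRankLE 2 1 R := fun A hA hA2 => by
    rw [← card_map_of_injective (f := R.subtype) R.subtype_injective]
    have hKK : Cfsg.PRankLE 2 1 K := rank_le hQ le_rfl
    haveI := hA
    exact hKK _ (map_isMulCommutative _ _) (by
      rintro _ ⟨c, hc, rfl⟩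
      rw [← map_pow, hA2 c hc, map_one])
  rcases cyclic_or_quaternion_of_rank hRp hrank with hcyc | ⟨n, hn, ⟨e⟩⟩
  · exact absurd (hyC y hy (QSection.centralizes_cyclic R hRp y (hN y) hy)) hy1
  rcases eq_or_lt_of_le hn with rfl | hn2
  swap
  · exfalso
    refine hy1 (hyC y hy ?_)
    set θ := MulAut.congr e (R.normalizerMonoidHom ⟨y, hN y⟩) with hθ
    have h1 : θ = 1 := by
      obtain ⟨k, hk⟩ := ComplType.isPGroup_mulAut_quaternion hn2 θ
      refine orderOf_eq_one_iff.1 (Nat.eq_one_of_dvd_coprimes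
        ((Nat.coprime_two_right.2 hy).pow_right k) ?_ (orderOf_dvd_of_pow_eq_one hk))
      refine orderOf_dvd_of_pow_eq_one ?_
      rw [hθ, ← map_pow, ← map_pow, show (⟨y, hN y⟩ : normalizer (R : Set K)) ^ orderOf y = 1 from
        Subtype.ext (by simp [pow_orderOf_eq_one]), map_one, map_one]
    have h2' : R.normalizerMonoidHom ⟨y, hN y⟩ = 1 :=
      (MulAut.congr e).injective (h1.trans (map_one _).symm)
    refine mem_centralizer_iff.2 fun c hc => ?_
    have h3 : y * c * y⁻¹ = c := congrArg (fun f : MulAut R => (f ⟨c, hc⟩ : K)) h2'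
    calc c * y = y * c * y⁻¹ * y := by rw [h3]
      _ = y * c := by group
  rw [pow_one] at e
  have hR8 : Nat.card R = 8 := by
    rw [Nat.card_congr e.toEquiv, Nat.card_eq_fintype_card, QuaternionGroup.card]
  have hidx : R.index ∣ 6 := by
    have h := AutomizerSix.quaternion_six e
    rwa [sup_eq_left.2 hC, normalizer_eq_top, relIndex_top_right] at h
  have hcard := R.card_mul_index
  rw [hR8] at hcard
  have h3 : 3 ∣ R.index := by
    by_contra h3
    refine hnp ?_
    have := Nat.le_of_dvd (by norm_num) hidx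
    rcases (show R.index = 1 ∨ R.index = 2 by interval_cases R.index <;> omega) with h | h <;>
      rw [h] at hcard
    · exact IsPGroup.of_card (n := 3) hcard.symm
    · exact IsPGroup.of_card (n := 4) hcard.symm
  haveI : Fact (Nat.Prime 3) := ⟨Nat.prime_three⟩
  obtain ⟨g, hg⟩ := exists_prime_orderOf_dvd_card' (G := K) 3 (h3.trans ⟨8, by omega⟩)
  have hi3 : R.index = 3 := by
    have := Nat.le_of_dvd (by norm_num) hidx
    rcases (show R.index = 3 ∨ R.index = 6 by interval_cases R.index <;> omega) with h | h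
    · exact h
    exfalso
    set f := QuotientGroup.mk' R
    have ho : orderOf (f g) = 3 := by
      refine (Nat.prime_three.eq_one_or_self_of_dvd _ (hg ▸ orderOf_map_dvd f g)).resolve_left
        fun h1 => ?_
      have hgR : g ∈ R := (QuotientGroup.eq_one_iff g).1 (orderOf_eq_one_iff.1 h1)
      obtain ⟨k, hk⟩ := IsPGroup.iff_orderOf.1 hRp ⟨g, hgR⟩
      rw [Subgroup.orderOf_mk, hg] at hk
      rcases k with _ | k
      · simp at hk
      · rw [pow_succ] at hk; omega
    refine h2 ((zpowers (f g)).comap f) ?_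
    rw [index_comap_of_surjective _ (QuotientGroup.mk'_surjective R)]
    have h1 := (zpowers (f g)).card_mul_index
    rw [Nat.card_zpowers, ho, ← index_eq_card, h] at h1
    omega
  have hgC : g ∉ centralizer (R : Set K) := fun h => by
    have := hyC g (hg ▸ by decide) h
    rw [this, orderOf_one] at hg
    omega
  obtain ⟨eS⟩ := Cfsg.Agent.S2879.sup_iso R e g (hN g) hg hgC
  have htop : R ⊔ zpowers g = ⊤ := by
    refine eq_top_of_card_eq _ (Nat.dvd_antisymm (card_subgroup_dvd_card _) ?_)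
    have h8 := card_dvd_of_le (le_sup_left : R ≤ R ⊔ zpowers g)
    have h3' := card_dvd_of_le (le_sup_right : zpowers g ≤ R ⊔ zpowers g)
    rw [hR8] at h8
    rw [Nat.card_zpowers, hg] at h3'
    rw [← hcard, hi3]
    exact Nat.Coprime.mul_dvd_of_dvd_of_dvd (by norm_num) h8 h3'
  exact ⟨((MulEquiv.subgroupCongr htop).trans Subgroup.topEquiv).symm.trans eS⟩

/-- Fourth powers in a Sylow subgroup centralize a normal double cover of `A₇`. -/
theorem pow_four_commute {R : Subgroup H} [R.Normal] (hP : Group.IsPerfect R)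
    (eA : (R ⧸ center R) ≃* alternatingGroup (Fin 7)) {g : H} {i : ℕ} (hg : g ^ 2 ^ i = 1) :
    ∀ r ∈ R, Commute (g ^ 4) r := by
  classical
  let Z : Subgroup R := center R
  let τ : H →* MulAut (R ⧸ Z) := MonoidHom.mk'
    (fun h => QuotientGroup.congr Z Z (MulAut.conjNormal h)
      (characteristic_iff_map_eq.1 inferInstance (MulAut.conjNormal h)))
    (fun a b => MulEquiv.ext fun q => by
      obtain ⟨r, rfl⟩ := QuotientGroup.mk_surjective q
      show QuotientGroup.mk ((MulAut.conjNormal (a * b) : MulAut R) r) =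
        QuotientGroup.mk ((MulAut.conjNormal a : MulAut R) ((MulAut.conjNormal b : MulAut R) r))
      rw [map_mul]
      rfl)
  let ψ : H →* MulAut (alternatingGroup (Fin 7)) := (MulAut.congr eA).toMonoidHom.comp τ
  have hS7 := Cfsg.Agent.S2119.result 7 (by norm_num) (by norm_num)
  obtain ⟨σ, hσ⟩ := hS7.2 (ψ g)
  have hord : orderOf (ψ g) ∣ 4 := by
    have h1 : orderOf σ = orderOf (ψ g) := by
      rw [← hσ]; exact (orderOf_injective _ hS7.1 σ).symm
    obtain ⟨j, -, hj⟩ := (Nat.dvd_prime_pow Nat.prime_two).1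
      ((orderOf_map_dvd ψ g).trans (orderOf_dvd_of_pow_eq_one hg))
    rcases Nat.lt_or_ge j 3 with hj3 | hj3
    · exact hj ▸ Nat.pow_dvd_pow 2 (by omega : j ≤ 2)
    · exfalso
      refine perm_seven_no_eight (σ ^ 2 ^ (j - 3)) ?_
      rw [orderOf_pow_of_dvd (pow_ne_zero _ two_ne_zero)
        (by rw [h1, hj]; exact Nat.pow_dvd_pow 2 (by omega)), h1, hj,
        Nat.pow_div (by omega) two_pos, show j - (j - 3) = 3 by omega]
      rfl
  have hτ : τ (g ^ 4) = 1 := by
    refine (MulAut.congr eA).injective (Eq.trans ?_ (map_one _).symm)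
    show ψ (g ^ 4) = 1
    rw [map_pow, orderOf_dvd_iff_pow_eq_one.1 hord]
  -- conjugation by `c` differs from the identity by a map into the centre
  set c := MulAut.conjNormal (H := R) (g ^ 4)
  have hd : ∀ r : R, c r * r⁻¹ ∈ Z := fun r => by
    have h := DFunLike.congr_fun hτ (r : R ⧸ Z)
    have h' : ((c r : R) : R ⧸ Z) = (r : R ⧸ Z) := h
    rw [← QuotientGroup.eq_one_iff, QuotientGroup.mk_mul, QuotientGroup.mk_inv, h', mul_inv_cancel]
  let d : R →* Z := MonoidHom.mk' (fun r => ⟨c r * r⁻¹, hd r⟩) fun a b => Subtype.ext (by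
    show c (a * b) * (a * b)⁻¹ = c a * a⁻¹ * (c b * b⁻¹)
    rw [map_mul, mul_inv_rev, mul_assoc (c a) a⁻¹, mem_center_iff.1 (hd b) a⁻¹]
    group)
  have hd1 : d.ker = ⊤ := by
    refine eq_top_iff.2 ?_
    rw [← hP.commutator_eq_top]
    haveI : IsMulCommutative Z := inferInstance
    refine (commutator_le.2 fun a _ b _ => ?_)
    rw [MonoidHom.mem_ker, map_commutatorElement, commutatorElement_eq_one_iff_mul_comm]
    exact (inferInstance : IsMulCommutative Z).is_comm.comm _ _
  intro r hr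
  have h : d ⟨r, hr⟩ = 1 := MonoidHom.mem_ker.1 (hd1 ▸ mem_top _)
  have h' : c ⟨r, hr⟩ * (⟨r, hr⟩ : R)⁻¹ = 1 := congrArg Subtype.val h
  have h2 : g ^ 4 * r * (g ^ 4)⁻¹ = r := by
    have := congrArg (fun v : R => (v : H)) (mul_inv_eq_one.1 h')
    exact (MulAut.conjNormal_apply (g ^ 4) ⟨r, hr⟩).symm.trans this
  exact mul_inv_eq_iff_eq_mul.1 h2

/-- A quaternion group of order sixteen in `S` not centralized by fourth powers of `S`. -/
theorem no_q16 {S : Type*} [Group S] [Finite S] (hS : Cfsg.IsQuasiDihedral S ∨ Cfsg.IsWreathed S)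
    (Q : Subgroup S) (e : Q ≃* QuaternionGroup 4) (hc : ∀ g : S, ∀ q ∈ Q, Commute (g ^ 4) q) :
    False := by
  set a : S := ((e.symm (QuaternionGroup.a 1) : Q) : S) with ha
  set b : S := ((e.symm (QuaternionGroup.xa 0) : Q) : S) with hb
  have ha8 : orderOf a = 8 := by
    rw [ha, Subgroup.orderOf_coe, e.symm.orderOf_eq, QuaternionGroup.orderOf_a_one]
  have hab : b * a * b⁻¹ = a⁻¹ := by
    rw [ha, hb, ← coe_inv, ← coe_inv, ← coe_mul, ← coe_mul, ← map_inv, ← map_inv, ← map_mul, ← map_mul]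
    rfl
  have ha4 : a ^ 4 ≠ 1 := fun h => by
    have := Nat.le_of_dvd (by norm_num) (orderOf_dvd_of_pow_eq_one h)
    omega
  have hnc : ¬ Commute a b := fun h => by
    rw [h.symm.eq, mul_inv_cancel_right] at hab
    refine ha4 ?_
    rw [show a ^ 4 = (a * a) * (a * a) by simp [pow_succ, mul_assoc], mul_eq_one_iff_eq_inv.2 hab, one_mul]
  have haQ : a ∈ Q := SetLike.coe_mem _
  have hbQ : b ∈ Q := SetLike.coe_mem _
  rcases hS with h | h
  · obtain ⟨D⟩ := QD.exists_data h
    obtain ⟨i, hi⟩ : ∃ i : ℤ, D.x ^ i * D.y ∈ Q := by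
      rcases D.cases a with ⟨i, hi⟩ | ⟨i, hi⟩
      · rcases D.cases b with ⟨j, hj⟩ | ⟨j, hj⟩
        · exact absurd (hi ▸ hj ▸ Commute.zpow_zpow_self D.x i j) hnc
        · exact ⟨j, hj ▸ hbQ⟩
      · exact ⟨i, hi ▸ haQ⟩
    have h1 := hc D.x _ hi
    rw [← zpow_natCast] at h1
    have h2 : D.x ^ ((4 * (D.q : ℤ) - 1) * 4 + i) * D.y = D.x ^ (4 + i) * D.y := by
      have h3 := h1.eq
      rw [mul_assoc (D.x ^ i) D.y, D.y_mul, ← mul_assoc, ← mul_assoc, ← zpow_add, ← zpow_add] at h3
      rw [add_comm _ i]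
      exact h3.symm
    rw [D.refl_eq_iff] at h2
    have hq : D.q = 1 := by
      have h3 : (8 * (D.q : ℤ)) ∣ 8 := by
        have h4 := dvd_sub (dvd_mul_right (8 * (D.q : ℤ)) 2) h2
        rwa [show 8 * (D.q : ℤ) * 2 - ((4 * (D.q : ℤ) - 1) * 4 + i - (4 + i)) = 8 by ring] at h4
      have := Int.le_of_dvd (by norm_num) h3
      have := D.q_pos
      omega
    have htop : Q = ⊤ := eq_top_of_card_eq _ (by
      rw [Nat.card_congr e.toEquiv, Nat.card_eq_fintype_card, QuaternionGroup.card, D.card_eq, hq])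
    have hy : orderOf (e ⟨D.y, htop ▸ mem_top _⟩) = 2 := by
      rw [e.orderOf_eq, Subgroup.orderOf_mk, D.hy]
    have hz : orderOf (e ⟨D.z, htop ▸ mem_top _⟩) = 2 := by
      rw [e.orderOf_eq, Subgroup.orderOf_mk, D.orderOf_z]
    have := QSection.quaternion_involution (n := 2) _ _ hy hz
    exact D.y_not_mem (by
      rw [show D.y = D.z from congrArg Subtype.val (e.injective this)]
      exact zpow_mem (mem_zpowers _) _)
  · obtain ⟨D⟩ := Wreath.exists_data h
    obtain ⟨i, j, hij⟩ : ∃ i j : ℤ, D.e i j * D.t ∈ Q := by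
      rcases D.cases a with ⟨i, j, hi⟩ | ⟨i, j, hi⟩
      · rcases D.cases b with ⟨k, l, hk⟩ | ⟨k, l, hk⟩
        · exact absurd (show Commute a b from hi ▸ hk ▸ D.base_comm (D.e_mem i j) (D.e_mem k l)) hnc
        · exact ⟨k, l, hk ▸ hbQ⟩
      · exact ⟨i, j, hi ▸ haQ⟩
    have h1 := hc D.x _ hij
    have hx4 : D.x ^ 4 = D.e 4 0 := by simp [Wreath.Data.e]
    rw [hx4, D.refl_commute_iff, sub_zero] at h1
    have hN : D.N = 4 := by
      have h3 := Int.le_of_dvd (by norm_num) h1
      have := D.q_pos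
      rw [Wreath.Data.N] at h3 ⊢
      omega
    rcases D.cases a with ⟨k, l, hk⟩ | ⟨k, l, hk⟩
    · refine ha4 ?_
      rw [hk, ← zpow_natCast, D.e_zpow, D.e_eq_one_iff, hN]
      exact ⟨dvd_mul_left _ _, dvd_mul_left _ _⟩
    · have hsq : a * a ∈ center S := by
        rw [hk, D.refl_sq]; exact D.diag_mem_center _
      have h2 : b * (a * a) * b⁻¹ = a * a := by
        rw [mem_center_iff.1 hsq b]; group
      have h3 : b * (a * a) * b⁻¹ = a⁻¹ * a⁻¹ := by rw [← hab]; group
      rw [h2] at h3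
      refine ha4 ?_
      calc a ^ 4 = (a * a) * (a * a) := by simp [pow_succ, mul_assoc]
        _ = (a⁻¹ * a⁻¹) * (a * a) := by nth_rw 1 [h3]
        _ = 1 := by group

/-- The normal `SL₂` of a group with a normal subgroup with quaternion Sylow subgroups. -/
theorem exists_sl (hGW : Statement.{u}) (S : Sylow 2 H)
    (hS : Cfsg.IsQuasiDihedral (S : Subgroup H) ∨ Cfsg.IsWreathed (S : Subgroup H))
    (hO : Cfsg.oddCore H = ⊥) [K.Normal] (hidx : ∃ a : ℕ, K.index = 2 ^ a)
    (h2 : ∀ M : Subgroup K, M.index ≠ 2) (hQ : QuatSylow K) :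
    ∃ L₀ : Subgroup H, L₀.Normal ∧ (∃ (F : Type) (_ : Field F) (_ : Fintype F),
        Odd (Fintype.card F) ∧ Nonempty (L₀ ≃* Matrix.SpecialLinearGroup (Fin 2) F)) ∧
      ∀ L₁ : Subgroup H, L₁.Normal → (∃ (F : Type) (_ : Field F) (_ : Fintype F),
        Odd (Fintype.card F) ∧ Nonempty (L₁ ≃* Matrix.SpecialLinearGroup (Fin 2) F)) → L₁ = L₀ := by
  classical
  haveI : Fact (Nat.Prime 2) := ⟨Nat.prime_two⟩
  obtain ⟨R, hRn, hRp, hRs⟩ := exists_perfect_residual H
  haveI := hRn
  haveI := hRp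
  have hcoreN : ∀ N : Subgroup H, N.Normal → Cfsg.oddCore N = ⊥ := by
    intro N hN
    haveI := hN
    haveI : (Cfsg.oddCore N).Characteristic := characteristic_iff_map_le.2 fun φ => by
      refine DGroup.le_oddCore (Normal.map inferInstance _ φ.surjective) ?_
      rw [card_map_of_injective (show Function.Injective φ.toMonoidHom from φ.injective)]
      exact DGroup.odd_oddCore N
    have h := DGroup.le_oddCore (K := H) (N := (Cfsg.oddCore N).map N.subtype) inferInstance
      (by rw [card_map_of_injective N.subtype_injective]; exact DGroup.odd_oddCore N)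
    rwa [hO, le_bot_iff, Subgroup.map_eq_bot_iff_of_injective _ N.subtype_injective] at h
  have hquot : Group.IsSolvable (H ⧸ K) := by
    obtain ⟨a, ha⟩ := hidx
    haveI := (IsPGroup.of_card (p := 2) (G := H ⧸ K) (n := a) (by
      rw [← index_eq_card, ha])).isNilpotent
    infer_instance
  by_cases hK : Group.IsSolvable K
  · haveI := hK
    haveI : Group.IsSolvable H := (Group.isSolvable_iff_subgroup_quotient K).2 ⟨hK, hquot⟩
    obtain ⟨e⟩ := solvable_case hQ (hcoreN K inferInstance) h2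
    refine ⟨K, inferInstance, ⟨ZMod 3, inferInstance, inferInstance, by rw [ZMod.card]; decide, ⟨e⟩⟩,
      fun L₁ _ ⟨F, i1, i2, hodd, ⟨e₁⟩⟩ => ?_⟩
    have hle := le_of_two_power_index hidx hodd e₁
    refine eq_of_le_of_card_ge hle ?_
    have h3 : 3 ≤ Fintype.card F := by
      have := Fintype.one_lt_card (α := F)
      obtain ⟨k, hk⟩ := hodd
      omega
    rw [Nat.card_congr e.toEquiv, Nat.card_congr e₁.toEquiv, SL2C.card_SL2_mul, SL2C.card_SL2_mul,
      ZMod.card]
    exact Nat.mul_le_mul h3 (Nat.sub_le_sub_right (Nat.pow_le_pow_left h3 2) 1)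
  have hKne : ¬ Group.IsSolvable H := fun h => hK inferInstance
  have hR1 : R ≠ ⊥ := by
    rintro rfl
    exact hKne ((Group.isSolvable_iff_subgroup_quotient ⊥).2 ⟨inferInstance, hRs⟩)
  have hRK : R ≤ K := by
    intro r hr
    set f := (QuotientGroup.mk' K).comp R.subtype
    have hs : Group.IsSolvable f.range := inferInstance
    haveI : Group.IsPerfect f.range :=
      Group.IsPerfect.ofSurjective (f := f.rangeRestrict) f.rangeRestrict_surjective
    rcases subsingleton_or_nontrivial f.range with hsub | hnt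
    · exact (QuotientGroup.eq_one_iff r).1 (congrArg Subtype.val
        (Subsingleton.elim (⟨_, ⟨r, hr⟩, rfl⟩ : f.range) 1))
    · exact absurd hs (Group.IsPerfect.not_isSolvable _)
  haveI : Nontrivial R := (nontrivial_iff_ne_bot R).2 hR1
  have hev : Even (Nat.card R) := Nat.not_odd_iff_even.1 fun h =>
    Group.IsPerfect.not_isSolvable R (OddEnd.odd_solvable _ h)
  have bot : R ⧸ Cfsg.oddCore R ≃* R :=
    (QuotientGroup.quotientMulEquivOfEq (hcoreN R inferInstance)).trans QuotientGroup.quotientBot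
  rcases perfect_rank_one hGW hRp (rank_le hQ hRK) hev with
    ⟨F, i1, i2, hodd, h3, ⟨e⟩⟩ | ⟨-, ⟨eA⟩, -⟩
  swap
  · exfalso
    let eA' : R ⧸ center R ≃* alternatingGroup (Fin 7) :=
      (QuotientGroup.congr _ _ bot.symm (by
        exact centerCongr_map bot.symm)).trans eA
    obtain ⟨T⟩ : Nonempty (Sylow 2 R) := inferInstance
    obtain ⟨c, hc⟩ := (T.2.map R.subtype).exists_le_sylow
    obtain ⟨g, hg⟩ := MulAction.exists_smul_eq H c S
    set Q₀ : Subgroup H := ((T : Subgroup R).map R.subtype).map (MulAut.conj g).toMonoidHom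
    have hQS : Q₀ ≤ (S : Subgroup H) := by
      rw [← hg, Sylow.coe_subgroup_smul]
      exact map_mono hc
    have hQR : Q₀ ≤ R := by
      rintro _ ⟨_, ⟨r, -, rfl⟩, rfl⟩
      exact hRn.conj_mem _ r.2 g
    obtain ⟨z2, hR16⟩ : Nat.card (center R) = 2 ∧ Nat.card (T : Subgroup R) = 2 ^ 4 := by
      have hz : Nat.card (center R) = 2 := by
        obtain ⟨S', ⟨m, hm, ⟨eS⟩⟩⟩ : ∃ S' : Sylow 2 R,
            ∃ m : ℕ, 1 ≤ m ∧ Nonempty ((S' : Subgroup R) ≃* QuaternionGroup (2 ^ m)) := by
          rcases cyclic_or_quaternion_of_rank T.2 (fun A hA hA2 => by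
            rw [← card_map_of_injective (f := (T : Subgroup R).subtype) (T : Subgroup R).subtype_injective]
            haveI := hA
            exact rank_le hQ hRK _ (map_isMulCommutative _ _) (by
              rintro _ ⟨c, hc, rfl⟩
              rw [← map_pow, hA2 c hc, map_one])) with hc | h
          · exact absurd (isSolvable_of_cyclic_sylow T hc) (Group.IsPerfect.not_isSolvable R)
          · exact ⟨T, h⟩
        rw [Nat.card_congr (centerCongr bot.symm).toEquiv]
        exact (quaternion_mod_core hm S' eS).1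
      refine ⟨hz, SmallSimple.card_sylow_eq T (m := 315) ?_ (by norm_num)⟩
      rw [Subgroup.card_eq_card_quotient_mul_card_subgroup (center R), hz,
        Nat.card_congr eA'.toEquiv, nat_card_alternatingGroup, Nat.card_fin]
      rfl
    have hQc : Nat.card Q₀ = 2 ^ 4 := by
      rw [card_map_of_injective (MulAut.conj g).injective, card_map_of_injective R.subtype_injective,
        hR16]
    have hQp : IsPGroup 2 (Q₀.subgroupOf (S : Subgroup H)) := S.2.to_subgroup _
    have hrk : Cfsg.PRankLE 2 1 (Q₀.subgroupOf (S : Subgroup H)) := fun A hA hA2 => by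
      haveI := hA
      set f : Q₀.subgroupOf (S : Subgroup H) →* R :=
        (Subgroup.inclusion hQR).comp (subgroupOfEquivOfLe hQS).toMonoidHom
      have hf : Function.Injective f :=
        (inclusion_injective hQR).comp (subgroupOfEquivOfLe hQS).injective
      rw [← card_map_of_injective (f := f) hf]
      exact rank_le hQ hRK _ (map_isMulCommutative _ _) (by
        rintro _ ⟨c, hc, rfl⟩
        rw [← map_pow, hA2 c hc, map_one])
    have hQc' : Nat.card (Q₀.subgroupOf (S : Subgroup H)) = 2 ^ 4 :=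
      (Nat.card_congr (subgroupOfEquivOfLe hQS).toEquiv).trans hQc
    have hpow : ∀ s : (S : Subgroup H), ∀ q ∈ Q₀.subgroupOf (S : Subgroup H), Commute (s ^ 4) q := by
      intro s q hq
      obtain ⟨i, hi⟩ := S.2 s
      exact Subtype.ext (pow_four_commute hRp eA' (congrArg Subtype.val hi) q (hQR hq)).eq
    rcases cyclic_or_quaternion_of_rank hQp hrk with hcyc | ⟨n, hn, ⟨eQ⟩⟩
    · have h1 : IsCyclic (T : Subgroup R) := by
        have e1 : (T : Subgroup R) ≃* Q₀.subgroupOf (S : Subgroup H) :=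
          ((equivMapOfInjective _ _ R.subtype_injective).trans
            (equivMapOfInjective _ _ (MulAut.conj g).injective)).trans (subgroupOfEquivOfLe hQS).symm
        exact e1.isCyclic.2 hcyc
      exact Group.IsPerfect.not_isSolvable R (isSolvable_of_cyclic_sylow T h1)
    · have hn2 : n = 2 := by
        rw [Nat.card_congr eQ.toEquiv, Nat.card_eq_fintype_card, QuaternionGroup.card] at hQc'
        rw [show 4 * 2 ^ n = 2 ^ (2 + n) by rw [pow_add]; norm_num] at hQc'
        have := Nat.pow_right_injective le_rfl hQc'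
        omega
      subst hn2
      exact no_q16 hS _ eQ hpow
  refine ⟨R, hRn, ⟨F, i1, i2, hodd, ⟨bot.symm.trans e⟩⟩, fun L₁ hL₁ ⟨F₁, j1, j2, hodd₁, ⟨e₁⟩⟩ => ?_⟩
  haveI := hL₁
  let eR : R ≃* Matrix.SpecialLinearGroup (Fin 2) F := bot.symm.trans e
  have hLK := le_of_two_power_index hidx hodd₁ e₁
  haveI : IsSimpleGroup (R ⧸ center R) :=
    ((QuotientGroup.congr (center R) (center _) eR (centerCongr_map eR)).trans
      (MulEquiv.refl (Matrix.ProjectiveSpecialLinearGroup (Fin 2) F))).isSimpleGroup_congr.2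
      (Linear.isSimpleGroup_PSL (Or.inr (Linear.Small.exists_sq_ne_one (F := F) (by omega))))
  set N : Subgroup R := L₁.subgroupOf R
  set f := QuotientGroup.mk' (center R)
  rcases (inferInstance : IsSimpleGroup (R ⧸ center R)).eq_bot_or_eq_top_of_normal (N.map f)
    (Normal.map inferInstance f (QuotientGroup.mk'_surjective _)) with h | h
  · exfalso
    -- `L₁` centralizes `R`
    have hN : N ≤ center R := by
      rw [← QuotientGroup.ker_mk' (center R)]; exact (map_eq_bot_iff N).1 h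
    have hcom : ∀ x ∈ L₁, ∀ r : R, (x * r * x⁻¹ * (r : H)⁻¹) ∈ L₁ ⊓ R := fun x hx r =>
      Subgroup.mem_inf.2 ⟨(show x * ((r : H) * x⁻¹ * (r : H)⁻¹) = x * (r : H) * x⁻¹ * (r : H)⁻¹ by group) ▸
          (mul_mem hx (hL₁.conj_mem _ (inv_mem hx) r)),
        mul_mem (hRn.conj_mem _ r.2 x) (inv_mem r.2)⟩
    have hcen : ∀ x ∈ L₁, ∀ r ∈ R, Commute x r := by
      intro x hx
      let d : R →* center R := MonoidHom.mk' (fun r => ⟨⟨_, (hcom x hx r).2⟩, hN (hcom x hx r).1⟩)
        fun a b => Subtype.ext (by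
          have hz := mem_center_iff.1 (hN (x := ⟨_, (hcom x hx b).2⟩) (hcom x hx b).1) a⁻¹
          refine Subtype.ext ?_
          have hz' : (a : H)⁻¹ * (x * b * x⁻¹ * (b : H)⁻¹) = x * b * x⁻¹ * (b : H)⁻¹ * (a : H)⁻¹ :=
            congrArg (fun v : R => (v : H)) hz
          show x * ((a : H) * b) * x⁻¹ * ((a : H) * b)⁻¹ =
            x * a * x⁻¹ * (a : H)⁻¹ * (x * b * x⁻¹ * (b : H)⁻¹)
          rw [mul_assoc (x * a * x⁻¹) (a : H)⁻¹, hz']
          group)
      have hd : d.ker = ⊤ := by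
        refine eq_top_iff.2 ?_
        rw [← hRp.commutator_eq_top]
        refine commutator_le.2 fun a _ b _ => ?_
        rw [MonoidHom.mem_ker, map_commutatorElement, commutatorElement_eq_one_iff_mul_comm]
        exact (inferInstance : IsMulCommutative (center R)).is_comm.comm _ _
      intro r hr
      have h' : x * r * x⁻¹ * r⁻¹ = 1 := congrArg (fun v : center R => ((v : R) : H))
        (MonoidHom.mem_ker.1 (hd ▸ mem_top (⟨r, hr⟩ : R)) : d ⟨r, hr⟩ = 1)
      rw [mul_inv_eq_one, mul_inv_eq_iff_eq_mul] at h'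
      exact h'
    obtain ⟨g₁, hg₁⟩ := exists_four hodd₁
    obtain ⟨g, hg⟩ := exists_four hodd
    have hv : orderOf ((e₁.symm g₁ : L₁) : H) = 4 := by rw [Subgroup.orderOf_coe, e₁.symm.orderOf_eq, hg₁]
    have hw : orderOf ((eR.symm g : R) : H) = 4 := by rw [Subgroup.orderOf_coe, eR.symm.orderOf_eq, hg]
    have hmem := four_mem_zpowers hQ (hLK (e₁.symm g₁).2) (hRK (eR.symm g).2) hv hw
      (hcen _ (e₁.symm g₁).2 _ (eR.symm g).2)
    set v : R := ⟨((e₁.symm g₁ : L₁) : H), zpowers_le.2 (eR.symm g).2 hmem⟩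
    have hvz : v ∈ center R := hN (e₁.symm g₁).2
    have h2' : Nat.card (center R) = 2 := by
      rw [Nat.card_congr (centerCongr eR).toEquiv, Linear.card_center_SL, Fintype.card_fin,
        Nat.card_eq_fintype_card (α := F)]
      refine Nat.gcd_eq_left ?_
      obtain ⟨k, hk⟩ := hodd
      omega
    have h4 := Subgroup.orderOf_dvd_natCard (center R) hvz
    rw [← Subgroup.orderOf_coe, hv, h2'] at h4
    omega
  · have hRN : R ≤ L₁ := by
      have hsup : N ⊔ center R = ⊤ := by
        rw [← QuotientGroup.ker_mk' (center R), ← comap_map_eq, h, comap_top]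
      have hcomm : commutator R ≤ N := by
        refine commutator_le.2 fun a _ b _ => ?_
        obtain ⟨n, hn, z, hz, rfl⟩ := mem_sup_of_normal_right.1 (hsup ▸ mem_top a)
        obtain ⟨n', hn', z', hz', rfl⟩ := mem_sup_of_normal_right.1 (hsup ▸ mem_top b)
        rw [commutatorElement_def]
        have e1 : n * z * (n' * z') * (n * z)⁻¹ * (n' * z')⁻¹ = n * n' * n⁻¹ * n'⁻¹ := by
          have hzc : ∀ w, Commute z w := fun w => (mem_center_iff.1 hz w).symm
          have hzc' : ∀ w, Commute z' w := fun w => (mem_center_iff.1 hz' w).symm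
          rw [mul_inv_rev, mul_inv_rev]
          calc n * z * (n' * z') * (z⁻¹ * n⁻¹) * (z'⁻¹ * n'⁻¹)
              = n * (z * (n' * z')) * z⁻¹ * n⁻¹ * z'⁻¹ * n'⁻¹ := by group
            _ = n * (n' * z') * n⁻¹ * z'⁻¹ * n'⁻¹ := by rw [(hzc _).eq]; group
            _ = n * n' * (z' * n⁻¹) * z'⁻¹ * n'⁻¹ := by group
            _ = n * n' * n⁻¹ * n'⁻¹ := by rw [(hzc' _).eq]; group
        rw [e1]
        exact mul_mem (mul_mem (mul_mem hn hn') (inv_mem hn)) (inv_mem hn')
      rw [hRp.commutator_eq_top, top_le_iff] at hcomm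
      exact subgroupOf_eq_top.1 hcomm
    refine le_antisymm ?_ hRN
    intro x hx
    set φ := (QuotientGroup.mk' R).comp L₁.subtype
    rcases Nat.lt_or_ge 3 (Fintype.card F₁) with hq | hq
    · haveI : Group.IsPerfect (Matrix.SpecialLinearGroup (Fin 2) F₁) :=
        Group.isPerfect_def.2 (Linear.commutator_SL_eq_top
          (Or.inr (Linear.Small.exists_sq_ne_one (F := F₁) (by omega))))
      haveI : Group.IsPerfect φ.range :=
        Group.IsPerfect.ofSurjective (f := φ.rangeRestrict.comp e₁.symm.toMonoidHom)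
          (φ.rangeRestrict_surjective.comp e₁.symm.surjective)
      rcases subsingleton_or_nontrivial φ.range with hsub | hnt
      · exact (QuotientGroup.eq_one_iff x).1 (congrArg Subtype.val
          (Subsingleton.elim (⟨_, ⟨x, hx⟩, rfl⟩ : φ.range) 1))
      · exact absurd (inferInstance : Group.IsSolvable φ.range) (Group.IsPerfect.not_isSolvable _)
    · exfalso
      have h1 : Nat.card R ≤ Nat.card L₁ := Nat.le_of_dvd Nat.card_pos (card_dvd_of_le hRN)
      rw [Nat.card_congr eR.toEquiv, Nat.card_congr e₁.toEquiv, SL2C.card_SL2_mul,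
        SL2C.card_SL2_mul] at h1
      have h9 : Fintype.card F₁ * (Fintype.card F₁ ^ 2 - 1) ≤ 3 * (3 ^ 2 - 1) :=
        Nat.mul_le_mul hq (Nat.sub_le_sub_right (Nat.pow_le_pow_left hq 2) 1)
      have h10 : 4 * (4 ^ 2 - 1) ≤ Fintype.card F * (Fintype.card F ^ 2 - 1) :=
        Nat.mul_le_mul h3 (Nat.sub_le_sub_right (Nat.pow_le_pow_left h3 2) 1)
      omega

end CfsgLib.GWApps.QNormal
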