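import Cfsg.Agent.AutPSL.FieldClasses
import Cfsg.Agent.AutPSL.Bridge
import Cfsg.Agent.Classical.PSLTwoTorus
import Cfsg.Agent.Invol.Dihedral

/-!
# Involutory automorphisms of `PSL₂(q)`, `q` odd

Such an automorphism fixes a four-group, or it is outer diagonal and fixes a torus of odd order
together with an element inverting it.
-/

set_option autoImplicit false
set_option linter.unusedSectionVars false
set_option linter.style.haveILetI false

namespace CfsgLib.GWApps.AutInvol

open Matrix CfsgLib.AutPSL CfsgLib.Dickson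

variable {F : Type} [Field F] [Finite F]

/-- The automorphism given by a linear map. -/
noncomputable abbrev diag (g : GL (Fin 2) F) : MulAut (PSL2 F) := semiAut g (RingEquiv.refl F)

theorem diag_mul (g h : GL (Fin 2) F) : diag (g * h) = diag g * diag h :=
  map_mul (innDiagHom 2 F) g h

theorem diag_inv (g : GL (Fin 2) F) : diag g⁻¹ = (diag g)⁻¹ := map_inv (innDiagHom 2 F) g

/-- A criterion for a fixed point. -/
theorem diag_fix {g : GL (Fin 2) F} {s : Matrix.SpecialLinearGroup (Fin 2) F} {c : F}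
    (h : (g : Matrix (Fin 2) (Fin 2) F) * (s : Matrix (Fin 2) (Fin 2) F) =
      c • ((s : Matrix (Fin 2) (Fin 2) F) * (g : Matrix (Fin 2) (Fin 2) F))) :
    diag g (QuotientGroup.mk s) = QuotientGroup.mk s := by
  show semiAut g (RingEquiv.refl F) (QuotientGroup.mk s) = _
  rw [semiAut_mk]
  symm
  rw [← inv_mul_eq_one, ← QuotientGroup.mk_inv, ← QuotientGroup.mk_mul, CfsgLib.PSL2Spec.mk_eq_one_iff]
  refine ⟨c, ?_⟩
  rw [Matrix.SpecialLinearGroup.coe_mul, coe_semiFun, map_refl_ringEquiv, h, Matrix.smul_mul, mul_assoc,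
    ← Units.val_mul, mul_inv_cancel, Units.val_one, mul_one, Matrix.mul_smul,
    ← Matrix.SpecialLinearGroup.coe_mul, inv_mul_cancel, Matrix.SpecialLinearGroup.coe_one]

theorem mk_sq_of_trace {M : Matrix.SpecialLinearGroup (Fin 2) F}
    (hM : (M : Matrix (Fin 2) (Fin 2) F).trace = 0) :
    (QuotientGroup.mk M : PSL2 F) * QuotientGroup.mk M = 1 := by
  rw [← QuotientGroup.mk_mul, CfsgLib.PSL2Spec.mk_eq_one_iff]
  refine ⟨-1, ?_⟩
  have hd := M.2
  rw [Matrix.det_fin_two] at hd
  rw [Matrix.trace_fin_two] at hM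
  rw [Matrix.SpecialLinearGroup.coe_mul]
  ext i j
  fin_cases i <;> fin_cases j <;> simp [Matrix.mul_apply, Fin.sum_univ_two]
  · linear_combination -hd + (M : Matrix (Fin 2) (Fin 2) F) 0 0 * hM
  · linear_combination (M : Matrix (Fin 2) (Fin 2) F) 0 1 * hM
  · linear_combination (M : Matrix (Fin 2) (Fin 2) F) 1 0 * hM
  · linear_combination -hd + (M : Matrix (Fin 2) (Fin 2) F) 1 1 * hM

/-- A traceless invertible matrix is similar to a companion matrix. -/
theorem companion (h2 : (2 : F) ≠ 0) (g : GL (Fin 2) F) (ht : (g : Matrix (Fin 2) (Fin 2) F).trace = 0)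
    (d : F) (hd : (g : Matrix (Fin 2) (Fin 2) F).det = d) :
    ∃ P : GL (Fin 2) F, (g : Matrix (Fin 2) (Fin 2) F) * (P : Matrix (Fin 2) (Fin 2) F) =
      (P : Matrix (Fin 2) (Fin 2) F) * !![0, -d; 1, 0] := by
  rw [Matrix.trace_fin_two] at ht
  rw [Matrix.det_fin_two] at hd
  have hd0 : d ≠ 0 := by
    rw [← hd, ← Matrix.det_fin_two]
    exact Matrix.GeneralLinearGroup.det_ne_zero g
  set a := (g : Matrix (Fin 2) (Fin 2) F) 0 0 with ha
  set b := (g : Matrix (Fin 2) (Fin 2) F) 0 1 with hb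
  set c := (g : Matrix (Fin 2) (Fin 2) F) 1 0 with hc
  have he : (g : Matrix (Fin 2) (Fin 2) F) 1 1 = -a := eq_neg_of_add_eq_zero_right ht
  rw [he] at hd
  have key : ∀ x y : F, x * (c * x - a * y) - y * (a * x + b * y) ≠ 0 →
      ∃ P : GL (Fin 2) F, (g : Matrix (Fin 2) (Fin 2) F) * (P : Matrix (Fin 2) (Fin 2) F) =
        (P : Matrix (Fin 2) (Fin 2) F) * !![0, -d; 1, 0] := by
    intro x y hne
    refine ⟨Matrix.GeneralLinearGroup.mkOfDetNeZero !![x, a * x + b * y; y, c * x - a * y]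
      (by rw [Matrix.det_fin_two_of]; intro h; exact hne (by linear_combination h)), ?_⟩
    show (g : Matrix (Fin 2) (Fin 2) F) * !![x, a * x + b * y; y, c * x - a * y] =
      !![x, a * x + b * y; y, c * x - a * y] * !![0, -d; 1, 0]
    ext i j
    fin_cases i <;> fin_cases j <;> simp [Matrix.mul_apply, Fin.sum_univ_two, ← ha, ← hb, ← hc, he]
    · linear_combination -x * hd
    · ring
    · linear_combination -y * hd
  by_cases hc0 : c = 0
  · by_cases hb0 : b = 0
    · refine key 1 1 ?_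
      rw [hc0, hb0]
      intro h
      have : (2 : F) * a = 0 := by linear_combination -h
      rcases mul_eq_zero.1 this with h' | h'
      · exact h2 h'
      · exact hd0 (by linear_combination -hd - a * h' - b * hc0)
    · exact key 0 1 (by simpa using hb0)
  · exact key 1 0 (by simpa using hc0)

/-- Similar up to scalars: conjugate automorphisms. -/
theorem diag_similar (h2 : (2 : F) ≠ 0) (g h : GL (Fin 2) F)
    (hg : (g : Matrix (Fin 2) (Fin 2) F).trace = 0) (hh : (h : Matrix (Fin 2) (Fin 2) F).trace = 0)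
    {s : F} (hs : (g : Matrix (Fin 2) (Fin 2) F).det = s ^ 2 * (h : Matrix (Fin 2) (Fin 2) F).det) :
    ∃ φ : MulAut (PSL2 F), diag g = φ * diag h * φ⁻¹ := by
  have hs0 : s ≠ 0 := by
    rintro rfl
    exact Matrix.GeneralLinearGroup.det_ne_zero g (by rw [hs]; ring)
  set h' := h * Matrix.GeneralLinearGroup.scalar (Fin 2) (Units.mk0 s hs0) with hh'
  have hval : (h' : Matrix (Fin 2) (Fin 2) F) = s • (h : Matrix (Fin 2) (Fin 2) F) := by
    rw [hh', Units.val_mul]
    ext i j
    fin_cases i <;> fin_cases j <;> simp [Matrix.mul_apply, Fin.sum_univ_two, mul_comm]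
  obtain ⟨P, hP⟩ := companion h2 g hg _ rfl
  obtain ⟨Q, hQ⟩ := companion h2 h' (by rw [hval, Matrix.trace_smul, hh, smul_zero])
    ((g : Matrix (Fin 2) (Fin 2) F).det) (by rw [hval, Matrix.det_smul, Fintype.card_fin, hs])
  refine ⟨diag (P * Q⁻¹), ?_⟩
  have e : g * (P * Q⁻¹) = (P * Q⁻¹) * h' := by
    have hPQ : g * P = P * (Q⁻¹ * h' * Q) := by
      apply Units.ext
      simp only [Units.val_mul, mul_assoc]
      rw [hP, hQ, ← mul_assoc ((Q⁻¹ : GL (Fin 2) F) : Matrix (Fin 2) (Fin 2) F), ← Units.val_mul,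
        inv_mul_cancel, Units.val_one, one_mul]
    rw [← mul_assoc, hPQ]
    group
  have hd : diag h' = diag h := semiAut_mul_scalar h _
  rw [← hd, eq_mul_inv_iff_mul_eq, ← diag_mul, e, diag_mul]

/-- The involution `(x, y; y, -x)` with `x, y` in the prime field. -/
theorem exists_W2 (p : ℕ) [Fact p.Prime] [CharP F p] :
    ∃ W : Matrix.SpecialLinearGroup (Fin 2) F, ∃ x y : F, x * x + y * y = -1 ∧
      (W : Matrix (Fin 2) (Fin 2) F) = !![x, y; y, -x] ∧ ∀ σ : F ≃+* F, σ x = x ∧ σ y = y := by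
  obtain ⟨a, b, hab⟩ := ZMod.sq_add_sq p (-1)
  let f : ZMod p →+* F := ZMod.castHom dvd_rfl F
  have h : f a * f a + f b * f b = -1 := by
    rw [← map_mul, ← map_mul, ← map_add, ← sq, ← sq, hab, map_neg, map_one]
  refine ⟨⟨!![f a, f b; f b, -f a], by rw [Matrix.det_fin_two_of]; linear_combination -h⟩, f a, f b, h, rfl,
    fun σ => ?_⟩
  have hσ : σ.toRingHom.comp f = f := Subsingleton.elim _ _
  exact ⟨DFunLike.congr_fun hσ a, DFunLike.congr_fun hσ b⟩

/-- The standard four-group. -/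
theorem exists_four (h2 : (2 : F) ≠ 0) (p : ℕ) [Fact p.Prime] [CharP F p] :
    ∃ W1 : Matrix.SpecialLinearGroup (Fin 2) F, (W1 : Matrix (Fin 2) (Fin 2) F).trace = 0 ∧
    ∃ a b : PSL2 F, orderOf a = 2 ∧ orderOf b = 2 ∧ a ≠ b ∧ Commute a b ∧
      diag (Matrix.SpecialLinearGroup.toGL W1) a = a ∧ diag (Matrix.SpecialLinearGroup.toGL W1) b = b ∧
      ∀ σ : F ≃+* F, semiAut (1 : GL (Fin 2) F) σ a = a ∧ semiAut (1 : GL (Fin 2) F) σ b = b := by
  obtain ⟨W, x, y, hxy, hW, hfix⟩ := exists_W2 (F := F) p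
  let W1 : Matrix.SpecialLinearGroup (Fin 2) F := ⟨!![0, 1; -1, 0], by simp [Matrix.det_fin_two]⟩
  have hW1 : (W1 : Matrix (Fin 2) (Fin 2) F) = !![0, 1; -1, 0] := rfl
  have hW1t : (W1 : Matrix (Fin 2) (Fin 2) F).trace = 0 := by simp [hW1, Matrix.trace_fin_two]
  have hWt : (W : Matrix (Fin 2) (Fin 2) F).trace = 0 := by simp [hW, Matrix.trace_fin_two]
  have hord : ∀ M : Matrix.SpecialLinearGroup (Fin 2) F, (M : Matrix (Fin 2) (Fin 2) F).trace = 0 →
      orderOf (QuotientGroup.mk M : PSL2 F) = 2 := by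
    intro M hM
    refine CfsgLib.Invol.orderOf_eq_two (mk_sq_of_trace hM) fun h => ?_
    obtain ⟨c, hc⟩ := (CfsgLib.PSL2Spec.mk_eq_one_iff M).1 h
    have hd := M.2
    rw [hc, Matrix.trace_fin_two] at hM
    rw [hc] at hd
    simp at hM hd
    have : (2 : F) * c = 0 := by linear_combination hM
    rcases mul_eq_zero.1 this with h' | h'
    · exact h2 h'
    · simp [h'] at hd
  have hfW : diag (Matrix.SpecialLinearGroup.toGL W1) (QuotientGroup.mk W : PSL2 F) = QuotientGroup.mk W := by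
    refine diag_fix (c := -1) ?_
    show (W1 : Matrix (Fin 2) (Fin 2) F) * _ = (-1 : F) • (_ * (W1 : Matrix (Fin 2) (Fin 2) F))
    rw [hW1, hW]
    ext i j
    fin_cases i <;> fin_cases j <;> simp [Matrix.mul_apply, Fin.sum_univ_two]
  have hfW1 : diag (Matrix.SpecialLinearGroup.toGL W1) (QuotientGroup.mk W1 : PSL2 F) = QuotientGroup.mk W1 :=
    diag_fix (c := 1) (one_smul _ _).symm
  refine ⟨W1, hW1t, QuotientGroup.mk W1, QuotientGroup.mk W, hord _ hW1t, hord _ hWt, fun h => ?_, ?_, hfW1, hfW,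
    fun σ => ⟨?_, ?_⟩⟩
  · rw [← inv_mul_eq_one, ← QuotientGroup.mk_inv, ← QuotientGroup.mk_mul, CfsgLib.PSL2Spec.mk_eq_one_iff] at h
    obtain ⟨c, hc⟩ := h
    have hc' : (W : Matrix (Fin 2) (Fin 2) F) = c • (W1 : Matrix (Fin 2) (Fin 2) F) := by
      have := congrArg (fun M => (W1 : Matrix (Fin 2) (Fin 2) F) * M) hc
      rwa [← Matrix.SpecialLinearGroup.coe_mul, mul_inv_cancel_left, Matrix.mul_smul, mul_one] at this
    rw [hW, hW1] at hc'
    have e00 := congrFun (congrFun hc' 0) 0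
    have e01 := congrFun (congrFun hc' 0) 1
    have e10 := congrFun (congrFun hc' 1) 0
    simp at e00 e01 e10
    have : (2 : F) * c = 0 := by linear_combination e10 - e01
    rcases mul_eq_zero.1 this with h' | h'
    · exact h2 h'
    · rw [e00, e01, h'] at hxy
      simp at hxy
  · have h := hfW
    rw [show diag (Matrix.SpecialLinearGroup.toGL W1) = MulAut.conj (QuotientGroup.mk W1 : PSL2 F) from
      semiAut_toGL W1, MulAut.conj_apply, mul_inv_eq_iff_eq_mul] at h
    exact h
  · rw [semiAut_mk]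
    refine congrArg _ (Subtype.ext ?_)
    rw [coe_semiFun, hW1]
    ext i j
    fin_cases i <;> fin_cases j <;> simp
  · rw [semiAut_mk]
    refine congrArg _ (Subtype.ext ?_)
    rw [coe_semiFun, hW]
    ext i j
    fin_cases i <;> fin_cases j <;> simp [(hfix σ).1, (hfix σ).2]

theorem two_ne (p : ℕ) [Fact p.Prime] [CharP F p] (hq : Odd (Nat.card F)) : (2 : F) ≠ 0 := by
  cases nonempty_fintype F
  intro h2
  have h : p ∣ 2 := (CharP.cast_eq_zero_iff F p 2).1 (by exact_mod_cast h2)
  obtain rfl := (Nat.prime_dvd_prime_iff_eq (Fact.out : p.Prime) Nat.prime_two).1 h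
  obtain ⟨n, -, hn⟩ := FiniteField.card F 2
  rw [Nat.card_eq_fintype_card, hn] at hq
  exact Nat.not_even_iff_odd.2 hq ((Nat.even_pow' n.pos.ne').2 even_two)

/-- No element has twice the order of a torus. -/
theorem no_double {p k : ℕ} [Fact p.Prime] [CharP F p]
    (hk : k = (Nat.card F - 1) / Nat.gcd 2 (Nat.card F - 1) ∨
      k = (Nat.card F + 1) / Nat.gcd 2 (Nat.card F - 1))
    (hq : Odd (Nat.card F)) (h5 : 5 ≤ Nat.card F) (z : PSL2 F) : orderOf z ≠ 2 * k := by
  cases nonempty_fintype F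
  intro h
  have hd := CfsgLib.Linear.PSLTwo.gcd_eq_two hq
  have hp2 : p ≠ 2 := by
    rintro rfl
    obtain ⟨n, -, hn⟩ := FiniteField.card F 2
    rw [Nat.card_eq_fintype_card, hn] at hq
    exact Nat.not_even_iff_odd.2 hq ((Nat.even_pow' n.pos.ne').2 even_two)
  rw [hd] at hk
  have hdvd := CfsgLib.PSL2Spec.orderOf_dvd p z
  rw [← Nat.card_eq_fintype_card, hd, h] at hdvd
  obtain ⟨j, hj⟩ := hq
  rw [hj] at hk hdvd h5
  rcases hdvd with h1 | h1 | h1
  · exact hp2 ((Nat.prime_dvd_prime_iff_eq Nat.prime_two (Fact.out : p.Prime)).1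
      ((dvd_mul_right 2 k).trans h1)).symm
  · have := Nat.le_of_dvd (by omega) h1
    rcases hk with rfl | rfl <;> omega
  · have := Nat.le_of_dvd (by omega) h1
    rcases hk with rfl | rfl <;> omega

/-- The torus of odd order, its inverting element, and a commuting outer diagonal automorphism. -/
theorem exists_torus {p k : ℕ} [Fact p.Prime] [CharP F p]
    (hk : k = (Nat.card F - 1) / Nat.gcd 2 (Nat.card F - 1) ∨
      k = (Nat.card F + 1) / Nat.gcd 2 (Nat.card F - 1))
    (hko : Odd k) (hq : Odd (Nat.card F)) (h5 : 5 ≤ Nat.card F) :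
    ∃ M : GL (Fin 2) F, (M : Matrix (Fin 2) (Fin 2) F).trace = 0 ∧
      ¬ IsSquare (M : Matrix (Fin 2) (Fin 2) F).det ∧
      ∃ u w : PSL2 F, orderOf u = k ∧ w * u * w⁻¹ = u⁻¹ ∧ diag M u = u ∧ diag M w = w := by
  cases nonempty_fintype F
  have hd := CfsgLib.Linear.PSLTwo.gcd_eq_two hq
  obtain ⟨u, hu⟩ : ∃ g : PSL2 F, orderOf g = k := by
    rcases hk with rfl | rfl
    · simpa [Nat.card_eq_fintype_card] using CfsgLib.PSL2Spec.exists_orderOf_minus (F := F)
    · simpa [Nat.card_eq_fintype_card] using CfsgLib.PSL2Spec.exists_orderOf_plus (F := F) p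
  have hpk : ¬ k ∣ p := by
    intro h
    obtain ⟨n, hpp, hn⟩ := FiniteField.card F p
    have hpq : p ∣ Nat.card F := by rw [Nat.card_eq_fintype_card, hn]; exact dvd_pow_self p n.pos.ne'
    rw [hd] at hk
    obtain ⟨j, hj⟩ := hq
    obtain ⟨i, hi⟩ := hko
    rw [hj] at hk hpq h5
    rcases (Nat.dvd_prime hpp).1 h with h | h
    · rcases hk with rfl | rfl <;> omega
    · subst h
      rcases hk with rfl | rfl
      · have := Nat.dvd_sub hpq ((dvd_mul_left ((2 * j + 1 - 1) / 2) 2).trans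
          (dvd_of_eq (show 2 * ((2 * j + 1 - 1) / 2) = 2 * j by omega)))
        rw [show 2 * j + 1 - 2 * j = 1 by omega] at this
        exact hpp.not_dvd_one this
      · have := Nat.dvd_sub ((dvd_mul_left ((2 * j + 1 + 1) / 2) 2).trans
          (dvd_of_eq (show 2 * ((2 * j + 1 + 1) / 2) = 2 * j + 2 by omega))) hpq
        rw [show 2 * j + 2 - (2 * j + 1) = 1 by omega] at this
        exact hpp.not_dvd_one this
  obtain ⟨A, hA⟩ := QuotientGroup.mk_surjective u
  have ht : (A : Matrix (Fin 2) (Fin 2) F).trace ^ 2 ≠ 4 := fun h =>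
    hpk (hu ▸ hA ▸ CfsgLib.Linear.PSLTwo.orderOf_dvd_of_trace_sq p A h)
  obtain ⟨W, hW, hWA⟩ := CfsgLib.Linear.PSLTwo.exists_inverting A ht
  set a := (A : Matrix (Fin 2) (Fin 2) F) 0 0 with ha
  set b := (A : Matrix (Fin 2) (Fin 2) F) 0 1 with hb
  set c := (A : Matrix (Fin 2) (Fin 2) F) 1 0 with hc
  set e := (A : Matrix (Fin 2) (Fin 2) F) 1 1 with he
  have hAd := A.2
  rw [Matrix.det_fin_two, ← ha, ← hb, ← hc, ← he] at hAd
  rw [Matrix.trace_fin_two, ← ha, ← he] at ht
  set M := Matrix.GeneralLinearGroup.mkOfDetNeZero !![a - e, 2 * b; 2 * c, e - a]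
    (by rw [Matrix.det_fin_two_of]; intro h; exact ht (by linear_combination -h + 4 * hAd))
  have hMv : (M : Matrix (Fin 2) (Fin 2) F) = !![a - e, 2 * b; 2 * c, e - a] := rfl
  have hfA : diag M (QuotientGroup.mk A : PSL2 F) = QuotientGroup.mk A := by
    refine diag_fix (c := 1) ?_
    rw [one_smul, hMv]
    ext i j
    fin_cases i <;> fin_cases j <;>
      simp [Matrix.mul_apply, Fin.sum_univ_two, ← ha, ← hb, ← hc, ← he] <;> ring
  refine ⟨M, by rw [hMv]; simp [Matrix.trace_fin_two], fun ⟨s, hs⟩ => ?_, u, QuotientGroup.mk W, hu, ?_,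
    hA ▸ hfA, ?_⟩
  · have hs0 : s ≠ 0 := fun h => Matrix.GeneralLinearGroup.det_ne_zero M (by rw [hs, h, zero_mul])
    rw [hMv, Matrix.det_fin_two_of] at hs
    let K : Matrix.SpecialLinearGroup (Fin 2) F := ⟨s⁻¹ • (M : Matrix (Fin 2) (Fin 2) F), by
      rw [Matrix.det_smul, Fintype.card_fin, hMv, Matrix.det_fin_two_of, hs]
      field_simp⟩
    have hKv : (K : Matrix (Fin 2) (Fin 2) F) = s⁻¹ • (M : Matrix (Fin 2) (Fin 2) F) := rfl
    set x : PSL2 F := QuotientGroup.mk K
    have hxx : x * x = 1 := mk_sq_of_trace (by rw [hKv, hMv, Matrix.trace_smul]; simp [Matrix.trace_fin_two])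
    have hx1 : x ≠ 1 := by
      intro h
      obtain ⟨r, hr⟩ := (CfsgLib.PSL2Spec.mk_eq_one_iff K).1 h
      rw [hKv, hMv] at hr
      have e00 := congrFun (congrFun hr 0) 0
      have e11 := congrFun (congrFun hr 1) 1
      have e01 := congrFun (congrFun hr 0) 1
      have e10 := congrFun (congrFun hr 1) 0
      simp [hs0] at e00 e11 e01 e10
      apply hpk
      rw [← hu, ← hA]
      refine CfsgLib.Linear.PSLTwo.orderOf_dvd_of_trace_sq p A ?_
      rw [Matrix.trace_fin_two, ← ha, ← he]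
      have h00 : a - e = s * r := by rw [← e00, ← mul_assoc, mul_inv_cancel₀ hs0, one_mul]
      have h11 : e - a = s * r := by rw [← e11, ← mul_assoc, mul_inv_cancel₀ hs0, one_mul]
      have h2 : (2 : F) ≠ 0 := two_ne p hq
      have hae : a - e = 0 := by
        have : (2 : F) * (a - e) = 0 := by linear_combination h00 - h11
        exact (mul_eq_zero.1 this).resolve_left h2
      rcases e01 with e01 | e01
      · exact absurd e01 h2
      · rcases e10 with e10 | e10
        · exact absurd e10 h2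
        · linear_combination 4 * hAd + (a - e) * hae + 4 * c * e01
    have hxu : Commute x u := by
      rw [← hA]
      show (QuotientGroup.mk K : PSL2 F) * QuotientGroup.mk A = QuotientGroup.mk A * QuotientGroup.mk K
      rw [← QuotientGroup.mk_mul, ← QuotientGroup.mk_mul]
      refine congrArg _ (Subtype.ext ?_)
      rw [Matrix.SpecialLinearGroup.coe_mul, Matrix.SpecialLinearGroup.coe_mul, hKv, Matrix.smul_mul,
        Matrix.mul_smul, hMv]
      congr 1
      ext i j
      fin_cases i <;> fin_cases j <;>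
        simp [Matrix.mul_apply, Fin.sum_univ_two, ← ha, ← hb, ← hc, ← he] <;> ring
    refine no_double (p := p) hk hq h5 (x * u) ?_
    rw [hxu.orderOf_mul_eq_mul_orderOf_of_coprime, CfsgLib.Invol.orderOf_eq_two hxx hx1, hu]
    rw [CfsgLib.Invol.orderOf_eq_two hxx hx1, hu]
    exact Nat.coprime_two_left.2 hko
  · rw [← hA, inv_eq_of_mul_eq_one_right (mk_sq_of_trace hW)]
    have h3 := mk_sq_of_trace hWA
    rw [QuotientGroup.mk_mul] at h3
    rw [eq_inv_iff_mul_eq_one]
    simpa [mul_assoc] using h3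
  · refine diag_fix (c := -1) ?_
    rw [hMv]
    rw [Matrix.SpecialLinearGroup.coe_mul, Matrix.trace_fin_two, Matrix.mul_apply, Matrix.mul_apply,
      Fin.sum_univ_two, Fin.sum_univ_two, ← ha, ← hb, ← hc, ← he] at hWA
    rw [Matrix.trace_fin_two] at hW
    ext i j
    fin_cases i <;> fin_cases j <;> simp [Matrix.mul_apply, Fin.sum_univ_two]
    · linear_combination 2 * hWA - 2 * e * hW
    · linear_combination 2 * b * hW
    · linear_combination 2 * c * hW
    · linear_combination 2 * hWA - 2 * a * hW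

/-- The involutory automorphisms. -/
theorem invol_cases {p k : ℕ} [Fact p.Prime] [CharP F p]
    (hk : k = (Nat.card F - 1) / Nat.gcd 2 (Nat.card F - 1) ∨
      k = (Nat.card F + 1) / Nat.gcd 2 (Nat.card F - 1))
    (hko : Odd k) (hq : Odd (Nat.card F)) (h5 : 5 ≤ Nat.card F)
    (α : MulAut (PSL2 F)) (hα : α * α = 1) (hα1 : α ≠ 1) :
    (∃ a b : PSL2 F, orderOf a = 2 ∧ orderOf b = 2 ∧ a ≠ b ∧ Commute a b ∧ α a = a ∧ α b = b) ∨
      (∃ g : GL (Fin 2) F, α = diag g ∧ ¬ IsSquare (g : Matrix (Fin 2) (Fin 2) F).det ∧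
        ∃ u w : PSL2 F, orderOf u = k ∧ w * u * w⁻¹ = u⁻¹ ∧ α u = u ∧ α w = w) := by
  cases nonempty_fintype F
  classical
  have h2 : (2 : F) ≠ 0 := two_ne p hq
  obtain ⟨g, σ, rfl⟩ := exists_semi_two α
  have hσ2 : σ.trans σ = RingEquiv.refl F := by
    rw [semiAut_mul] at hα
    exact (semiAut_eq_one le_rfl hα).1
  obtain ⟨W1, hW1, x, y, hx, hy, hxy, hc, hfx, hfy, hfield⟩ := exists_four (F := F) h2 p
  by_cases hσ : σ = RingEquiv.refl F
  · subst hσ
    rw [show semiAut g (RingEquiv.refl F) = diag g from rfl, ← diag_mul] at hα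
    obtain ⟨c, hgc⟩ := (semiAut_eq_one le_rfl hα).2
    have hns : ∀ r : F, (g : Matrix (Fin 2) (Fin 2) F) ≠ r • 1 := fun r h => hα1 (semiAut_scalar h)
    have htr : (g : Matrix (Fin 2) (Fin 2) F).trace = 0 := by
      rw [Units.val_mul] at hgc
      rw [Matrix.trace_fin_two]
      by_contra ht
      set a := (g : Matrix (Fin 2) (Fin 2) F) 0 0 with ha
      set b := (g : Matrix (Fin 2) (Fin 2) F) 0 1 with hb
      set d := (g : Matrix (Fin 2) (Fin 2) F) 1 0 with hd
      set e := (g : Matrix (Fin 2) (Fin 2) F) 1 1 with he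
      have e00 := congrFun (congrFun hgc 0) 0
      have e01 := congrFun (congrFun hgc 0) 1
      have e10 := congrFun (congrFun hgc 1) 0
      have e11 := congrFun (congrFun hgc 1) 1
      simp [Matrix.mul_apply, Fin.sum_univ_two, ← ha, ← hb, ← hd, ← he] at e00 e01 e10 e11
      have hb0 : b = 0 := by
        rcases mul_eq_zero.1 (show b * (a + e) = 0 by linear_combination e01) with h | h
        exacts [h, absurd h ht]
      have hd0 : d = 0 := by
        rcases mul_eq_zero.1 (show d * (a + e) = 0 by linear_combination e10) with h | h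
        exacts [h, absurd h ht]
      have hae : a = e := by
        rcases mul_eq_zero.1 (show (a - e) * (a + e) = 0 by linear_combination e00 - e11) with h | h
        exacts [sub_eq_zero.1 h, absurd h ht]
      refine hns a ?_
      ext i j
      fin_cases i <;> fin_cases j <;> simp [← ha, ← hb, ← hd, ← he, hb0, hd0, hae]
    by_cases hsq : IsSquare (g : Matrix (Fin 2) (Fin 2) F).det
    · left
      obtain ⟨s, hs⟩ := hsq
      obtain ⟨φ, hφ⟩ := diag_similar h2 g (Matrix.SpecialLinearGroup.toGL W1) htr hW1 (s := s)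
        (by rw [hs]; simp [sq])
      refine ⟨φ x, φ y, (φ.orderOf_eq x).trans hx, (φ.orderOf_eq y).trans hy, fun h => hxy (φ.injective h),
        hc.map φ, ?_, ?_⟩ <;> rw [show semiAut g (RingEquiv.refl F) = _ from hφ] <;>
        simp [MulAut.mul_apply, hfx, hfy]
    · right
      obtain ⟨M, hM, hMs, u, w, hu, hwu, hfu, hfw⟩ := exists_torus (p := p) hk hko hq h5
      obtain ⟨s, hs⟩ : ∃ s : F, (g : Matrix (Fin 2) (Fin 2) F).det = s ^ 2 * (M : Matrix (Fin 2) (Fin 2) F).det := by
        have hM0 := Matrix.GeneralLinearGroup.det_ne_zero M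
        obtain ⟨s, hs⟩ : IsSquare ((g : Matrix (Fin 2) (Fin 2) F).det * ((M : Matrix (Fin 2) (Fin 2) F).det)⁻¹) := by
          by_contra hn
          have h1 := (quadraticChar_neg_one_iff_not_isSquare (F := F)).2 hn
          rw [map_mul, (quadraticChar_neg_one_iff_not_isSquare (F := F)).2 hsq,
            (quadraticChar_neg_one_iff_not_isSquare (F := F)).2 (fun h => hMs (by simpa using h.inv))] at h1
          norm_num at h1
        exact ⟨s, by rw [sq, ← hs, mul_assoc, inv_mul_cancel₀ hM0, mul_one]⟩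
      obtain ⟨φ, hφ⟩ := diag_similar h2 g M htr hM hs
      refine ⟨g, rfl, hsq, φ u, φ w, (φ.orderOf_eq u).trans hu, by rw [← map_inv, ← map_mul, ← map_mul, hwu, map_inv],
        ?_, ?_⟩ <;> rw [show semiAut g (RingEquiv.refl F) = _ from hφ] <;> simp [MulAut.mul_apply, hfu, hfw]
  · left
    have hσo : orderOf (σ : RingAut F) = 2 := orderOf_eq_prime (by rw [sq]; exact hσ2) hσ
    obtain ⟨P, hP⟩ := exists_conj_of_orderOf le_rfl Nat.prime_two hσo
      (orderOf_eq_prime (by rw [sq]; exact hα) hα1)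
    set φ := semiAut P (RingEquiv.refl F)
    refine ⟨φ x, φ y, (φ.orderOf_eq x).trans hx, (φ.orderOf_eq y).trans hy, fun h => hxy (φ.injective h),
      hc.map φ, ?_, ?_⟩ <;> rw [hP] <;> simp [MulAut.mul_apply, (hfield σ).1, (hfield σ).2]

/-- An outer diagonal pair with a common torus element coincides. -/
theorem eq_of_common {p k : ℕ} [Fact p.Prime] [CharP F p]
    (hk : k = (Nat.card F - 1) / Nat.gcd 2 (Nat.card F - 1) ∨
      k = (Nat.card F + 1) / Nat.gcd 2 (Nat.card F - 1))
    (hko : Odd k) (hq : Odd (Nat.card F)) (h5 : 5 ≤ Nat.card F)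
    {g h : GL (Fin 2) F} (hα : diag g * diag g = 1) (hβ : diag h * diag h = 1)
    (hc : diag g * diag h = diag h * diag g)
    (hg : ¬ IsSquare (g : Matrix (Fin 2) (Fin 2) F).det) (hh : ¬ IsSquare (h : Matrix (Fin 2) (Fin 2) F).det)
    {u : PSL2 F} (hu : orderOf u = k) (hgu : diag g u = u) (hhu : diag h u = u) : diag g = diag h := by
  classical
  cases nonempty_fintype F
  obtain ⟨s, hs⟩ : IsSquare (g * h : GL (Fin 2) F).val.det := by
    rw [Units.val_mul, Matrix.det_mul]
    by_contra hn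
    have h1 := (quadraticChar_neg_one_iff_not_isSquare (F := F)).2 hn
    rw [map_mul, (quadraticChar_neg_one_iff_not_isSquare (F := F)).2 hg,
      (quadraticChar_neg_one_iff_not_isSquare (F := F)).2 hh] at h1
    norm_num at h1
  have hs0 : s ≠ 0 := fun h0 => Matrix.GeneralLinearGroup.det_ne_zero (g * h) (by rw [hs, h0, zero_mul])
  let K : Matrix.SpecialLinearGroup (Fin 2) F := ⟨s⁻¹ • ((g * h : GL (Fin 2) F) : Matrix (Fin 2) (Fin 2) F), by
    rw [Matrix.det_smul, Fintype.card_fin, hs]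
    field_simp⟩
  have hK : g * h = Matrix.SpecialLinearGroup.toGL K * Matrix.GeneralLinearGroup.scalar (Fin 2) (Units.mk0 s hs0) := by
    apply Units.ext
    rw [Units.val_mul (Matrix.SpecialLinearGroup.toGL K)]
    ext i j
    rw [show ((Matrix.SpecialLinearGroup.toGL K : GL (Fin 2) F) : Matrix (Fin 2) (Fin 2) F) =
      s⁻¹ • ((g * h : GL (Fin 2) F) : Matrix (Fin 2) (Fin 2) F) from rfl]
    fin_cases i <;> fin_cases j <;> simp [Matrix.mul_apply, Fin.sum_univ_two] <;> field_simp
  set x : PSL2 F := QuotientGroup.mk K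
  have hγ : diag g * diag h = MulAut.conj x := by
    rw [← diag_mul, hK]
    exact (semiAut_mul_scalar _ _).trans (semiAut_toGL K)
  have hxu : Commute x u := by
    have h1 : MulAut.conj x u = u := by rw [← hγ, MulAut.mul_apply, hhu, hgu]
    rw [MulAut.conj_apply, mul_inv_eq_iff_eq_mul] at h1
    exact h1
  haveI := CfsgLib.Linear.PSLTwo.isSimple (F := F) (by omega)
  have hcen : Subgroup.center (PSL2 F) = ⊥ := by
    refine (inferInstance : (Subgroup.center (PSL2 F)).Normal).eq_bot_or_eq_top.resolve_right fun h => ?_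
    exact CfsgLib.Linear.PSLTwo.not_solvable (F := F) (by omega)
      (Group.isSolvable_of_comm fun a b => (Subgroup.mem_center_iff.1 (h ▸ Subgroup.mem_top a) b).symm)
  have hinj : ∀ z : PSL2 F, MulAut.conj z = 1 → z = 1 := fun z hz => by
    have : z ∈ Subgroup.center (PSL2 F) := Subgroup.mem_center_iff.2 fun b => by
      have := DFunLike.congr_fun hz b
      rw [MulAut.conj_apply, MulAut.one_apply, mul_inv_eq_iff_eq_mul] at this
      exact this.symm
    rwa [hcen, Subgroup.mem_bot] at this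
  have hx2 : x * x = 1 := hinj _ (by
    rw [map_mul, ← hγ]
    calc diag g * diag h * (diag g * diag h) = diag g * (diag h * diag g) * diag h := by group
      _ = diag g * diag g * (diag h * diag h) := by rw [← hc]; group
      _ = 1 := by rw [hα, hβ, one_mul])
  by_cases hx1 : x = 1
  · rw [hx1, map_one] at hγ
    calc diag g = diag g * (diag h * diag h) := by rw [hβ, mul_one]
      _ = diag h := by rw [← mul_assoc, hγ, one_mul]
  · exfalso
    refine no_double (p := p) hk hq h5 (x * u) ?_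
    rw [hxu.orderOf_mul_eq_mul_orderOf_of_coprime, CfsgLib.Invol.orderOf_eq_two hx2 hx1, hu]
    rw [CfsgLib.Invol.orderOf_eq_two hx2 hx1, hu]
    exact Nat.coprime_two_left.2 hko

end CfsgLib.GWApps.AutInvol
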