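import Cfsg.Agent.GWApps.Dihedral
import Cfsg.Agent.Solvable.Hall
import Cfsg.Agent.Solvable.Basics
import Cfsg.Agent.Transfer.Frobenius
import Cfsg.Agent.FGSB.ThreeCounts
import Cfsg.Agent.Invol.SmallSylow

/-!
# Subgroups of order 12 and 24 in groups with these unitary divisors: common tools
-/

set_option autoImplicit false
set_option linter.unusedSectionVars false
set_option linter.style.haveILetI false

namespace CfsgLib.GWApps

open Subgroup

universe u

variable {G : Type u} [Group G] [Finite G]

/-- A Hall subgroup of a solvable subgroup. -/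
theorem exists_of_solvable_sub {H : Subgroup G} (hs : Group.IsSolvable H) {m : ℕ}
    (hm : m ∣ Nat.card H) (hc : m.Coprime (Nat.card G / m)) :
    ∃ K : Subgroup G, Nat.card K = m := by
  obtain ⟨b, hb⟩ := hm
  have hm0 : 0 < m := Nat.pos_of_ne_zero fun h => by
    have := Nat.card_pos (α := H)
    rw [hb, h, zero_mul] at this
    omega
  haveI := hs
  obtain ⟨K, hK, -⟩ := CfsgLib.Hall.hall (G := H) hb (hc.coprime_dvd_right (by
    obtain ⟨c, hcG⟩ := card_subgroup_dvd_card H
    rw [hcG, hb, mul_assoc, Nat.mul_div_cancel_left _ hm0]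
    exact Dvd.intro _ rfl))
  exact ⟨K.map H.subtype, by rw [card_map_of_injective H.subtype_injective, hK]⟩

theorem exists_of_solvable [Group.IsSolvable G] {m : ℕ} (hm : m ∣ Nat.card G)
    (hc : m.Coprime (Nat.card G / m)) : ∃ K : Subgroup G, Nat.card K = m :=
  exists_of_solvable_sub (H := ⊤) (Group.isSolvable_of_isSolvable_injective (f := (⊤ : Subgroup G).subtype)
    (⊤ : Subgroup G).subtype_injective) (by rwa [card_top]) hc

/-- A Sylow 2-subgroup central in its normalizer. -/
theorem isSolvable_of_burnside (S : Sylow 2 G)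
    (h : normalizer ((S : Subgroup G) : Set G) ≤ centralizer ((S : Subgroup G) : Set G)) :
    Group.IsSolvable G := by
  haveI : Fact (Nat.Prime 2) := ⟨Nat.prime_two⟩
  have hc := MonoidHom.ker_transferSylow_isComplement' S h
  set K := (MonoidHom.transferSylow S h).ker
  haveI : Group.IsSolvable K := by
    refine DGroup.solvable_of_odd K (Nat.coprime_two_right.1 ?_)
    refine Nat.coprime_comm.1 ((Nat.prime_two.coprime_iff_not_dvd).2 ?_)
    rw [← hc.index_eq_card]
    exact S.not_dvd_index
  haveI : Group.IsSolvable (G ⧸ K) := by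
    haveI : Group.IsSolvable (S : Subgroup G) := by
      haveI := S.2.isNilpotent
      infer_instance
    exact Group.isSolvable_of_surjective (G := (S : Subgroup G))
      (f := (QuotientGroup.mk' K).comp (S : Subgroup G).subtype) fun q => by
        obtain ⟨g, rfl⟩ := QuotientGroup.mk'_surjective K q
        obtain ⟨⟨⟨k, hk⟩, ⟨s, hs⟩⟩, rfl⟩ := hc.2 g
        exact ⟨⟨s, hs⟩, by
          show QuotientGroup.mk' K s = QuotientGroup.mk' K (k * s)
          rw [map_mul, show QuotientGroup.mk' K k = 1 from (QuotientGroup.eq_one_iff (N := K) k).2 hk,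
            one_mul]⟩
  exact (Group.isSolvable_iff_subgroup_quotient K).2 ⟨inferInstance, inferInstance⟩

/-- A subgroup with central Sylow 2-subgroup. -/
theorem isSolvable_of_central (S : Sylow 2 G) (h : (S : Subgroup G) ≤ center G) : Group.IsSolvable G :=
  isSolvable_of_burnside S fun g _ => mem_centralizer_iff.2 fun _ hx => (mem_center_iff.1 (h hx) g).symm

/-- The normalizer modulo a solvable centralizer. -/
theorem isSolvable_normalizer {U : Subgroup G} (hC : Group.IsSolvable (centralizer (U : Set G)))
    (h : ((centralizer (U : Set G)).relIndex (normalizer (U : Set G))).primeFactors.card ≤ 2) :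
    Group.IsSolvable (normalizer (U : Set G)) := by
  set N := normalizer (U : Set G)
  set C := (centralizer (U : Set G)).subgroupOf N
  haveI : C.Normal := AutomizerSix.centralizer_normal U
  haveI : Group.IsSolvable C := by
    haveI := hC
    let e : C ≃* centralizer (U : Set G) := subgroupOfEquivOfLe (centralizer_le_normalizer _)
    exact Group.isSolvable_of_isSolvable_injective (f := e.toMonoidHom) e.injective
  refine (Group.isSolvable_iff_subgroup_quotient C).2 ⟨inferInstance, ?_⟩
  exact CfsgLib.ThreeCounts.isSolvable_of_primeFactors_le (by rw [← index_eq_card]; exact h)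

/-- Lifting a subgroup over a normal subgroup of coprime order. -/
theorem lift_subgroup {A : Subgroup G} [A.Normal] {T : Subgroup (G ⧸ A)} {t : ℕ}
    (hT : Nat.card T = t) (hc : (Nat.card A).Coprime t) : ∃ K : Subgroup G, Nat.card K = t := by
  set L := T.comap (QuotientGroup.mk' A)
  have hAL : A ≤ L := fun a ha => by
    show QuotientGroup.mk' A a ∈ T
    rw [show QuotientGroup.mk' A a = 1 from (QuotientGroup.eq_one_iff a).2 ha]; exact one_mem _
  have hidx : (A.subgroupOf L).index = t := by
    have h := relIndex_ker L (QuotientGroup.mk' A)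
    rw [map_comap_eq_self_of_surjective (QuotientGroup.mk'_surjective A), QuotientGroup.ker_mk'] at h
    rw [← hT, ← h]; rfl
  obtain ⟨K, hK⟩ := exists_right_complement'_of_coprime (N := A.subgroupOf L)
    (by rw [hidx, Nat.card_congr (subgroupOfEquivOfLe hAL).toEquiv]; exact hc)
  exact ⟨K.map L.subtype, by rw [card_map_of_injective L.subtype_injective, ← hK.symm.index_eq_card, hidx]⟩

/-- The preimage of a subgroup of a quotient. -/
theorem card_preimage {A : Subgroup G} [A.Normal] (T : Subgroup (G ⧸ A)) :
    Nat.card (T.comap (QuotientGroup.mk' A)) = Nat.card A * Nat.card T := by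
  set L := T.comap (QuotientGroup.mk' A)
  have hAL : A ≤ L := fun a ha => by
    show QuotientGroup.mk' A a ∈ T
    rw [show QuotientGroup.mk' A a = 1 from (QuotientGroup.eq_one_iff a).2 ha]; exact one_mem _
  have h := relIndex_ker L (QuotientGroup.mk' A)
  rw [map_comap_eq_self_of_surjective (QuotientGroup.mk'_surjective A), QuotientGroup.ker_mk'] at h
  rw [← h, ← relIndex_bot_left, ← relIndex_bot_left, relIndex_mul_relIndex _ _ _ bot_le hAL]

/-- The Sylow order given by a unitary divisor. -/
theorem sylow_card_of_unitary {p a b : ℕ} [hp : Fact p.Prime] (S : Sylow p G) (hb : ¬ p ∣ b)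
    (h : p ^ a * b ∣ Nat.card G) (hc : (p ^ a * b).Coprime (Nat.card G / (p ^ a * b))) (ha : 1 ≤ a := by norm_num) :
    Nat.card (S : Subgroup G) = p ^ a := by
  have hb0 : b ≠ 0 := fun e => hb (e ▸ dvd_zero p)
  obtain ⟨c, hcG⟩ := h
  rw [hcG, Nat.mul_div_cancel_left _ (Nat.pos_of_ne_zero (mul_ne_zero (pow_ne_zero _ hp.out.ne_zero) hb0))] at hc
  have hpc : ¬ p ∣ c := fun e => hp.out.ne_one (Nat.eq_one_of_dvd_coprimes hc
    ((dvd_pow_self p (by omega)).trans (Dvd.intro _ rfl)) e)
  obtain ⟨k, hk⟩ := IsPGroup.iff_card.1 S.2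
  have hi := (S : Subgroup G).index_mul_card
  rw [hk, hcG] at hi
  have h1 : p ^ k ∣ p ^ a := by
    have : (p ^ k).Coprime (b * c) := (hp.out.coprime_iff_not_dvd.2 (fun e => (hp.out.dvd_mul.1 e).elim hb hpc)).pow_left k
    exact this.dvd_of_dvd_mul_right ⟨(S : Subgroup G).index, by rw [← mul_assoc, ← hi]; ring⟩
  have h2 : p ^ a ∣ p ^ k := by
    have : (p ^ a).Coprime (S : Subgroup G).index := (hp.out.coprime_iff_not_dvd.2 S.not_dvd_index).pow_left a
    exact this.dvd_of_dvd_mul_left ⟨b * c, by rw [hi]; ring⟩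
  rw [hk]
  exact Nat.dvd_antisymm h1 h2

/-- A four-group Sylow 2-subgroup of a non-solvable group and its normalizer. -/
theorem four_normalizer (hsol : ¬ Group.IsSolvable G) (S : Sylow 2 G)
    (hS4 : Nat.card (S : Subgroup G) = 4) :
    IsKleinFour (S : Subgroup G) ∧
      Group.IsSolvable (normalizer ((S : Subgroup G) : Set G)) ∧
      12 ∣ Nat.card (normalizer ((S : Subgroup G) : Set G)) := by
  haveI : Fact (Nat.Prime 2) := ⟨Nat.prime_two⟩
  have hK : IsKleinFour (S : Subgroup G) := by
    haveI : Nontrivial (S : Subgroup G) := Finite.one_lt_card_iff_nontrivial.1 (by rw [hS4]; norm_num)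
    refine ⟨hS4, (Monoid.exponent_eq_prime_iff Nat.prime_two).2 fun x hx => ?_⟩
    have hd := orderOf_dvd_natCard x
    rw [hS4] at hd
    have h1 : orderOf x ≠ 1 := fun e => hx (orderOf_eq_one_iff.1 e)
    have := Nat.le_of_dvd (by norm_num) hd
    by_contra h2
    refine hsol (isSolvable_of_cyclic_sylow S (isCyclic_of_orderOf_eq_card x ?_))
    rw [hS4]
    interval_cases hox : orderOf x <;> omega
  haveI := hK
  set N := normalizer ((S : Subgroup G) : Set G)
  set C := centralizer ((S : Subgroup G) : Set G)
  have hSC : (S : Subgroup G) ≤ C := fun x hx => mem_centralizer_iff.2 fun y hy =>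
    congrArg Subtype.val ((IsKleinFour.isMulCommutative (G := (S : Subgroup G))).is_comm.comm ⟨y, hy⟩ ⟨x, hx⟩)
  have h6 : C.relIndex N ∣ 6 := AutomizerSix.klein_six hK
  have hodd : ¬ 2 ∣ C.relIndex N := fun h2 =>
    S.not_dvd_index ((h2.trans (relIndex_dvd_of_le_left N hSC)).trans
      ⟨N.index, (relIndex_mul_index le_normalizer).symm⟩)
  have h3 : C.relIndex N = 3 := by
    have h1 : C.relIndex N ≠ 1 := fun h1 => hsol (isSolvable_of_burnside S (relIndex_eq_one.1 h1))
    have := Nat.le_of_dvd (by norm_num) h6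
    interval_cases hr : C.relIndex N <;> omega
  refine ⟨hK, ?_, ?_⟩
  · refine isSolvable_normalizer ?_ (by rw [h3, Nat.Prime.primeFactors Nat.prime_three, Finset.card_singleton]; norm_num)
    exact isSolvable_of_central (S.subtype hSC) (by
      rw [Sylow.coe_subtype]
      intro x hx
      exact mem_center_iff.2 fun c => Subtype.ext ((mem_centralizer_iff.1 c.2 x hx).symm))
  have e := relIndex_mul_relIndex ⊥ C N bot_le (centralizer_le_normalizer _)
  rw [relIndex_bot_left, relIndex_bot_left, h3] at e
  obtain ⟨k, hk⟩ := card_dvd_of_le hSC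
  rw [hS4] at hk
  exact ⟨k, by rw [← e, hk]; ring⟩

/-- Twelve: groups with four-group Sylow subgroups and three dividing the order exactly. -/
theorem exists_twelve (h : 12 ∣ Nat.card G) (hc : (12 : ℕ).Coprime (Nat.card G / 12)) :
    ∃ K : Subgroup G, Nat.card K = 12 := by
  haveI : Fact (Nat.Prime 2) := ⟨Nat.prime_two⟩
  by_cases hsol : Group.IsSolvable G
  · exact exists_of_solvable h hc
  obtain ⟨S⟩ : Nonempty (Sylow 2 G) := inferInstance
  have hS4 : Nat.card (S : Subgroup G) = 4 := sylow_card_of_unitary (a := 2) (b := 3) S (by norm_num) (by norm_num; exact h) (by norm_num; exact hc)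
  obtain ⟨-, hN, hd⟩ := four_normalizer hsol S hS4
  exact exists_of_solvable_sub hN hd hc

end CfsgLib.GWApps
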