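import Cfsg.Agent.Classical.PSLTwoSub
import Mathlib.NumberTheory.LSeries.PrimesInAP

/-!
# Orders without Hall-type subgroups in `PSL₂(r)`
-/

set_option autoImplicit false
set_option linter.unusedSectionVars false

namespace CfsgLib.GWApps

/-- A splitting of the number. -/
theorem hall_split {m : ℕ} (hm : 2 ≤ m) (hpp : ¬ IsPrimePow m) (h2 : m % 4 ≠ 2) :
    ∃ a b : ℕ, m = a * b ∧ a.Coprime b ∧ Odd b ∧ 3 ≤ b ∧
      ((∃ e, 2 ≤ e ∧ a = 2 ^ e) ∨ (Odd a ∧ 3 ≤ a)) := by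
  set p := m.minFac
  have hp : p.Prime := Nat.minFac_prime (by omega)
  obtain ⟨e, b, hb, hab⟩ := Nat.exists_eq_pow_mul_and_not_dvd (show m ≠ 0 by omega) p hp.ne_one
  have he : e ≠ 0 := by
    rintro rfl
    rw [pow_zero, one_mul] at hab
    exact hb (hab ▸ m.minFac_dvd)
  have hb1 : b ≠ 1 := by
    rintro rfl
    exact hpp (isPrimePow_nat_iff _ |>.2 ⟨p, e, hp, by omega, by rw [hab, mul_one]⟩)
  have hb0 : b ≠ 0 := fun h => hb (h ▸ dvd_zero _)
  have hbodd : Odd b := by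
    rw [← Nat.not_even_iff_odd, even_iff_two_dvd]
    intro h
    have : 2 ∣ m := hab ▸ h.mul_left _
    have hp2 : p = 2 := le_antisymm (Nat.minFac_le_of_dvd le_rfl this) hp.two_le
    exact hb (hp2 ▸ h)
  have hb3 : 3 ≤ b := by obtain ⟨j, rfl⟩ := hbodd; omega
  refine ⟨p ^ e, b, hab, (hp.coprime_iff_not_dvd.2 hb).pow_left e, hbodd, hb3, ?_⟩
  rcases hp.eq_two_or_odd' with h | h
  · left
    refine ⟨e, ?_, by rw [h]⟩
    by_contra h1
    obtain rfl : e = 1 := by omega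
    obtain ⟨j, rfl⟩ := hbodd
    rw [h, pow_one] at hab
    omega
  · right
    refine ⟨h.pow, ?_⟩
    have h3 : 3 ≤ p := by obtain ⟨j, hj⟩ := h; have := hp.two_le; omega
    exact h3.trans (Nat.le_self_pow he p)

/-- The counterexample. -/
theorem exists_no_subgroup {m : ℕ} (hm : 2 ≤ m) (hpp : ¬ IsPrimePow m) (h2 : m % 4 ≠ 2)
    (h12 : m ≠ 12) (h24 : m ≠ 24) (h60 : m ≠ 60) :
    ∃ (G : Type) (_ : Group G) (_ : Finite G), m ∣ Nat.card G ∧ m.Coprime (Nat.card G / m) ∧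
      ∀ H : Subgroup G, Nat.card H ≠ m := by
  obtain ⟨a, b, hab, hcop, hbodd, hb3, ha⟩ := hall_split hm hpp h2
  -- half of `a`, when even
  obtain ⟨A, hA2, hAa, hA⟩ : ∃ A, 2 ≤ A ∧ A ∣ a ∧
      ((a = 2 * A ∧ ∃ e, 2 ≤ e ∧ a = 2 ^ e) ∨ (a = A ∧ Odd a)) := by
    rcases ha with ⟨e, he, rfl⟩ | ⟨hao, ha3⟩
    · obtain ⟨i, rfl⟩ : ∃ i, e = i + 1 := ⟨e - 1, by omega⟩
      exact ⟨2 ^ i, Nat.le_self_pow (by omega) 2, ⟨2, by rw [pow_succ]⟩,
        Or.inl ⟨by rw [pow_succ'], ⟨i + 1, he, rfl⟩⟩⟩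
    · exact ⟨a, by omega, dvd_rfl, Or.inr ⟨rfl, hao⟩⟩
  have ha0 : a ≠ 0 := by rintro rfl; rw [zero_mul] at hab; omega
  have hb0 : b ≠ 0 := by omega
  obtain ⟨x0, hx0a, hx0b⟩ := Nat.chineseRemainder (Nat.Coprime.pow 2 2 hcop) A (b + b ^ 2 - 1)
  have hx0b' : x0 + 1 ≡ b [MOD b ^ 2] := by
    have h1 := hx0b.add_right 1
    rw [Nat.sub_add_cancel (by omega)] at h1
    exact h1.trans (by simp [Nat.ModEq])
  have hbx : b ∣ x0 + 1 :=
    (Nat.modEq_zero_iff_dvd).1 ((hx0b'.of_dvd (dvd_pow_self b two_ne_zero)).trans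
      (Nat.modEq_zero_iff_dvd.2 dvd_rfl))
  have hAx : A ∣ x0 :=
    (Nat.modEq_zero_iff_dvd).1 ((hx0a.of_dvd (hAa.trans (dvd_pow_self a two_ne_zero))).trans
      (Nat.modEq_zero_iff_dvd.2 dvd_rfl))
  set q := 2 * (a ^ 2 * b ^ 2) with hq
  have hq0 : q ≠ 0 := by positivity
  have hcq : (2 * x0 + 1).Coprime q := by
    refine Nat.coprime_of_dvd fun l hl h1 h3 => ?_
    have hl2 : l ≠ 2 := by rintro rfl; omega
    have h3' : l ∣ a ^ 2 * b ^ 2 :=
      (hl.dvd_mul.1 h3).resolve_left fun h => hl2 ((Nat.prime_dvd_prime_iff_eq hl Nat.prime_two).1 h)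
    rcases hl.dvd_mul.1 h3' with h | h
    · have hla := hl.dvd_of_dvd_pow h
      have hlA : l ∣ A := by
        rcases hA with ⟨e, -⟩ | ⟨e, -⟩
        · exact (hl.dvd_mul.1 (e ▸ hla)).resolve_left fun h => hl2 ((Nat.prime_dvd_prime_iff_eq hl Nat.prime_two).1 h)
        · exact e ▸ hla
      exact hl.ne_one (Nat.dvd_one.1 ((Nat.dvd_add_right ((hlA.trans hAx).mul_left 2)).1 h1))
    · have hlx := (hl.dvd_of_dvd_pow h).trans hbx
      refine hl.ne_one (Nat.dvd_one.1 ?_)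
      have : l ∣ 2 * (x0 + 1) := hlx.mul_left 2
      rw [show 2 * (x0 + 1) = 2 * x0 + 1 + 1 by ring] at this
      exact (Nat.dvd_add_right h1).1 this
  haveI : NeZero q := ⟨hq0⟩
  obtain ⟨r, hrgt, hr, hrmod⟩ :=
    Nat.forall_exists_prime_gt_and_eq_mod ((ZMod.isUnit_iff_coprime _ _).2 hcq) (m + 100)
  rw [ZMod.natCast_eq_natCast_iff] at hrmod
  obtain ⟨x, hx⟩ : ∃ x, r = 2 * x + 1 := by
    obtain ⟨j, hj⟩ := hr.odd_of_ne_two (by omega)
    exact ⟨j, hj⟩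
  have hxmod : x ≡ x0 [MOD a ^ 2 * b ^ 2] := by
    refine Nat.ModEq.mul_left_cancel' two_ne_zero (Nat.ModEq.add_right_cancel' 1 ?_)
    rw [← hx]; exact hrmod
  have hxa : x ≡ A [MOD a ^ 2] := (hxmod.of_dvd (dvd_mul_right _ _)).trans hx0a
  have hxb : x + 1 ≡ b [MOD b ^ 2] := ((hxmod.of_dvd (dvd_mul_left _ _)).add_right 1).trans hx0b'
  obtain ⟨u, hu⟩ : A ∣ x := (Nat.modEq_zero_iff_dvd).1
    ((hxa.of_dvd (hAa.trans (dvd_pow_self a two_ne_zero))).trans (Nat.modEq_zero_iff_dvd.2 dvd_rfl))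
  obtain ⟨v, hv⟩ : b ∣ x + 1 := (Nat.modEq_zero_iff_dvd).1
    ((hxb.of_dvd (dvd_pow_self b two_ne_zero)).trans (Nat.modEq_zero_iff_dvd.2 dvd_rfl))
  have hvb : v.Coprime b := by
    have h : v ≡ 1 [MOD b] := by
      refine Nat.ModEq.mul_left_cancel' hb0 ?_
      rw [← hv, mul_one, ← sq]
      exact hxb
    rw [Nat.Coprime, h.gcd_eq, Nat.gcd_one_left]
  have hua : u.Coprime a := by
    have h : u ≡ 1 [MOD a] := by
      refine Nat.ModEq.mul_left_cancel' (show A ≠ 0 by omega) ?_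
      rw [← hu, mul_one]
      refine hxa.of_dvd ?_
      rw [sq]
      exact Nat.mul_dvd_mul_right hAa a
    rw [Nat.Coprime, h.gcd_eq, Nat.gcd_one_left]
  have hbA : (x + 1).Coprime A := by
    refine Nat.coprime_of_dvd fun l hl h1 h2 => hl.ne_one (Nat.dvd_one.1 ?_)
    exact (Nat.dvd_add_right ((h2.trans ⟨u, hu⟩))).1 h1
  have hxb' : x.Coprime b := by
    refine Nat.coprime_of_dvd fun l hl h1 h2 => hl.ne_one (Nat.dvd_one.1 ?_)
    exact (Nat.dvd_add_right h1).1 (h2.trans ⟨v, hv⟩)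
  haveI := Fact.mk hr
  refine ⟨Dickson.PSL2 (ZMod r), inferInstance, inferInstance, ?_⟩
  have hcard : Nat.card (Dickson.PSL2 (ZMod r)) = r * (2 * (x * (x + 1))) := by
    have h := CfsgLib.Linear.PSLTwo.two_mul_card_psl (ZMod r) (by rw [Nat.card_zmod]; exact ⟨x, hx⟩)
    rw [Nat.card_zmod] at h
    have e : r ^ 2 - 1 = 4 * (x * (x + 1)) := by
      subst hx
      have : (2 * x + 1) ^ 2 = 4 * (x * (x + 1)) + 1 := by ring
      omega
    rw [e] at h
    linarith [show r * (4 * (x * (x + 1))) = 2 * (r * (2 * (x * (x + 1)))) by ring]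
  have hrm : ¬ r ∣ m := fun h => by have := Nat.le_of_dvd (by omega) h; omega
  -- the cofactor
  obtain ⟨w, hw, hwc⟩ : ∃ w, r * (2 * (x * (x + 1))) = m * w ∧ m.Coprime w := by
    have hr_m : m.Coprime r := (hr.coprime_iff_not_dvd.2 hrm).symm
    have hub : u.Coprime b := hxb'.coprime_dvd_left ⟨A, by rw [hu, mul_comm]⟩
    rcases hA with ⟨e, hpow⟩ | ⟨e, hao⟩
    · refine ⟨r * (u * v), by rw [hab, e, hv, hu]; ring, ?_⟩
      have hva : v.Coprime a := by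
        obtain ⟨i, hi2, hi⟩ := hpow
        rw [hi]
        refine (Nat.Coprime.pow_right i ?_)
        refine Nat.coprime_comm.1 ((Nat.prime_two.coprime_iff_not_dvd).2 fun h => ?_)
        obtain ⟨t, ht⟩ : 2 ∣ A := by
          obtain ⟨i', rfl⟩ : ∃ i', i = i' + 2 := ⟨i - 2, by omega⟩
          exact ⟨2 ^ i', by rw [pow_succ', pow_succ'] at hi; omega⟩
        have h1 : 2 ∣ x + 1 := hv ▸ h.mul_left b
        have h2 : 2 ∣ x := hu ▸ (Dvd.dvd.mul_right (a := 2) ⟨t, ht⟩ u)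
        omega
      exact hr_m.mul_right ((hab ▸ (hua.mul_right hub).symm).mul_right (hab ▸ (hva.mul_right hvb).symm))
    · subst e
      refine ⟨r * 2 * (u * v), by rw [hab, hv, hu]; ring, ?_⟩
      have h2m : m.Coprime 2 := by
        rw [hab]
        exact (Nat.coprime_two_right.2 hao).mul (Nat.coprime_two_right.2 hbodd)
      have hva : v.Coprime a := hbA.coprime_dvd_left ⟨b, by rw [hv, mul_comm]⟩
      exact (hr_m.mul_right h2m).mul_right
        ((hab ▸ (hua.mul_right hub).symm).mul_right (hab ▸ (hva.mul_right hvb).symm))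
  refine ⟨⟨w, hcard.trans hw⟩, by rwa [hcard, hw, Nat.mul_div_cancel_left _ (by omega)], fun H hH => ?_⟩
  have : CharP (ZMod r) r := ZMod.charP r
  have hHtop : H ≠ ⊤ := fun h => by
    rw [h, Subgroup.card_top, hcard] at hH
    exact hrm (hH ▸ dvd_mul_right _ _)
  have hcases : ∀ n, n ∣ x ∨ n ∣ x + 1 → A * b ∣ n → False := by
    intro n hn hd
    rcases hn with hn | hn
    · have h : b ∣ x := ((dvd_mul_left b A).trans hd).trans hn
      have := Nat.eq_one_of_dvd_coprimes hxb' h dvd_rfl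
      omega
    · have h : A ∣ x + 1 := ((dvd_mul_right A b).trans hd).trans hn
      have := Nat.eq_one_of_dvd_coprimes hbA h dvd_rfl
      omega
  have hd : Nat.gcd 2 (r - 1) = 2 := Nat.gcd_eq_left ⟨x, by omega⟩
  have hm1 : (r - 1) / 2 = x := by omega
  have hp1 : (r + 1) / 2 = x + 1 := by omega
  have key := CfsgLib.Linear.PSLTwo.proper_cases r H hHtop
  rw [Nat.card_zmod, hd, hm1, hp1, hH] at key
  rcases key with ⟨-, h, -⟩ | ⟨-, -, h⟩ | ⟨n, -, -, h, hn, -⟩ | ⟨-, h, -⟩ | ⟨-, h, -⟩ | ⟨-, -, h, -⟩ |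
      ⟨f, i, hf, hi, h, -⟩
  · exact hrm h
  · exact hcases m h (by rw [hab]; exact Nat.mul_dvd_mul_right hAa b)
  · rcases hA with ⟨e, -⟩ | ⟨e, hao⟩
    · refine hcases n h ⟨1, ?_⟩
      have : 2 * (A * b) = 2 * n := by rw [← hn, hab, e]; ring
      omega
    · have : Odd m := hab ▸ hao.mul hbodd
      exact Nat.not_even_iff_odd.2 this ⟨n, by omega⟩
  · exact h12 h
  · exact h24 h
  · exact h60 h
  · rw [← pow_mul] at h
    have : f * i = 1 := (Nat.pow_eq_self_iff hr.one_lt).1 h.symm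
    have := Nat.eq_one_of_mul_eq_one_left this
    omega

end CfsgLib.GWApps
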