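import Cfsg.Agent.GWApps.HallBase
import Cfsg.Agent.Classical.PSLTwoSub
import Cfsg.Agent.Classical.SmallSubPSL
import Cfsg.Agent.Invol.CentralWeak

/-!
# Subgroups of order 60
-/

set_option autoImplicit false
set_option linter.unusedSectionVars false
set_option linter.style.haveILetI false

namespace CfsgLib.GWApps

open Subgroup

universe u

/-- Sixty. -/
theorem exists_sixty (hGW : Statement.{u}) : ∀ (k : ℕ) (G : Type u) [Group G] [Finite G],
    Nat.card G = k → 60 ∣ Nat.card G → (60 : ℕ).Coprime (Nat.card G / 60) →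
    ∃ K : Subgroup G, Nat.card K = 60 := by
  intro k
  induction k using Nat.strong_induction_on with
  | _ k IH =>
  intro G _ _ hk h60 hc
  haveI : Fact (Nat.Prime 2) := ⟨Nat.prime_two⟩
  by_cases hsol : Group.IsSolvable G
  · exact exists_of_solvable h60 hc
  obtain ⟨c, hcG⟩ := h60
  rw [hcG, Nat.mul_div_cancel_left _ (by norm_num)] at hc
  have hcp : ∀ p, p ∣ 60 → p ∣ c → p = 1 := fun p h1 h2 => Nat.eq_one_of_dvd_coprimes hc h1 h2
  have hc2 : ¬ 2 ∣ c := fun h => by have := hcp 2 (by norm_num) h; omega
  have hc3 : ¬ 3 ∣ c := fun h => by have := hcp 3 (by norm_num) h; omega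
  have hc5 : ¬ 5 ∣ c := fun h => by have := hcp 5 (by norm_num) h; omega
  obtain ⟨S⟩ : Nonempty (Sylow 2 G) := inferInstance
  have hS4 : Nat.card (S : Subgroup G) = 4 := sylow_card_of_unitary (a := 2) (b := 15) S (by norm_num)
    (by norm_num; exact ⟨c, hcG⟩) (by norm_num; rw [hcG, Nat.mul_div_cancel_left _ (by norm_num)]; exact hc)
  obtain ⟨hK, hN, hd12⟩ := four_normalizer hsol S hS4
  by_cases hO : Cfsg.oddCore G = ⊥
  · haveI := hK
    obtain ⟨e⟩ : Nonempty ((S : Subgroup G) ≃* DihedralGroup 2) := IsKleinFour.nonempty_mulEquiv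
    rcases dihedral_structure hGW hO S e with h2 | ⟨F, hF, hFf, hodd, K, hK1, ⟨eK⟩⟩ | ⟨⟨e7⟩⟩
    · exfalso
      refine hsol ?_
      haveI := h2.isNilpotent
      infer_instance
    · set P := Matrix.ProjectiveSpecialLinearGroup (Fin 2) F
      set I := (MulAut.conj : P →* MulAut P).range.subgroupOf K
      set R := I.map eK.symm.toMonoidHom
      have hinj : Function.Injective (MulAut.conj : P →* MulAut P) := by
        have h3 : 3 ≤ Fintype.card F := by
          have := Fintype.one_lt_card (α := F)
          obtain ⟨j, hj⟩ := hodd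
          omega
        have hcen : center P = ⊥ := by
          rcases h3.eq_or_lt with h3 | h4
          · obtain ⟨eA⟩ := CfsgLib.Linear.Small.nonempty_psl_two_three (F := F) h3.symm
            rw [eq_bot_iff]
            intro x hx
            have : eA x ∈ center (alternatingGroup (Fin 4)) := mem_center_iff.2 fun y => by
              obtain ⟨z, rfl⟩ := eA.surjective y
              rw [← map_mul, ← map_mul, mem_center_iff.1 hx z]
            rw [alternatingGroup.center_eq_bot (by simp), mem_bot] at this
            exact mem_bot.2 (eA.injective (this.trans (map_one eA).symm))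
          · haveI : IsSimpleGroup P := CfsgLib.Linear.PSLTwo.isSimple
              (by rw [Nat.card_eq_fintype_card]; omega)
            refine ((inferInstance : (center P).Normal).eq_bot_or_eq_top).resolve_right fun h => ?_
            refine CfsgLib.Linear.PSLTwo.not_solvable (F := F) (by rw [Nat.card_eq_fintype_card]; omega) ?_
            exact Group.isSolvable_of_comm fun a b => (mem_center_iff.1 (h ▸ mem_top a) b).symm
        refine (injective_iff_map_eq_one _).2 fun a ha => ?_
        have : a ∈ center P := mem_center_iff.2 fun b => by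
          have := DFunLike.congr_fun ha b
          rw [MulAut.conj_apply, MulAut.one_apply, mul_inv_eq_iff_eq_mul] at this
          exact this.symm
        rwa [hcen, mem_bot] at this
      have hRP : Nat.card R = Nat.card P := by
        rw [card_map_of_injective eK.symm.injective, Nat.card_congr (subgroupOfEquivOfLe hK1).toEquiv,
          Nat.card_congr (MonoidHom.ofInjective hinj).toEquiv.symm]
      by_cases h5 : 5 ∣ Nat.card P
      · have h5' : 5 ∣ Nat.card (Matrix.SpecialLinearGroup (Fin 2) F) :=
          h5.trans (Subgroup.card_dvd_of_surjective _ (QuotientGroup.mk'_surjective _))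
        obtain ⟨t, ht⟩ := CfsgLib.Linear.SmallSub.exists_tau h5'
        obtain ⟨H, ⟨eH⟩⟩ := CfsgLib.Linear.SmallSub.exists_altFive ht
        let f : P →* G := eK.symm.toMonoidHom.comp
          ((inclusion hK1).comp (MonoidHom.ofInjective hinj).toMonoidHom)
        have hf : Function.Injective f :=
          eK.symm.injective.comp ((inclusion_injective hK1).comp (MonoidHom.ofInjective hinj).injective)
        refine ⟨H.map f, ?_⟩
        rw [card_map_of_injective hf, Nat.card_congr eH.toEquiv, Nat.card_eq_fintype_card,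
          card_alternatingGroup, Fintype.card_fin]
        rfl
      · haveI : R.Normal := by
          haveI : ((MulAut.conj : P →* MulAut P).range.subgroupOf K).Normal := ⟨by
            rintro ⟨n, _⟩ ⟨x, rfl⟩ g
            refine ⟨(g : MulAut P) x, MulEquiv.ext fun y => ?_⟩
            simp [MulAut.conj_apply, map_mul, map_inv]⟩
          exact Normal.map inferInstance _ eK.symm.surjective
        have h4 : 4 ∣ Nat.card R := by
          rw [hRP]
          have e2 := CfsgLib.Linear.PSLTwo.two_mul_card_psl F (by rwa [Nat.card_eq_fintype_card])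
          obtain ⟨j, hj⟩ := hodd
          rw [Nat.card_eq_fintype_card (α := F), hj] at e2
          have h8 : 8 ∣ (2 * j + 1) ^ 2 - 1 := by
            obtain ⟨i, hi⟩ := (Nat.even_mul_succ_self j)
            refine ⟨i, ?_⟩
            have : (2 * j + 1) ^ 2 = 4 * (j * (j + 1)) + 1 := by ring
            omega
          have h8' : 8 ∣ 2 * Nat.card P := e2 ▸ h8.mul_left _
          exact Nat.dvd_of_mul_dvd_mul_left (by norm_num : 0 < 2) (by simpa using h8')
        have hSR : (S : Subgroup G) ≤ R := by
          obtain ⟨V⟩ : Nonempty (Sylow 2 R) := inferInstance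
          have hV : 4 ∣ Nat.card (V : Subgroup R) := V.pow_dvd_card_of_pow_dvd_card (n := 2) (by simpa using h4)
          obtain ⟨g, hg⟩ := CfsgLib.CentralWeak.exists_conj_sylow S (V.2.map R.subtype)
          have hle : (((V : Subgroup R).map R.subtype).map (MulAut.conj g).toMonoidHom) ≤ (S : Subgroup G) := by
            rintro _ ⟨v, hv, rfl⟩
            exact hg v hv
          have := eq_of_le_of_card_ge hle (by
            rw [hS4, card_map_of_injective (MulAut.conj g).injective, card_map_of_injective R.subtype_injective]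
            exact Nat.le_of_dvd Nat.card_pos hV)
          rw [← this]
          rintro _ ⟨v, ⟨w, -, rfl⟩, rfl⟩
          exact (inferInstance : R.Normal).conj_mem _ w.2 g
        have htop := Sylow.normalizer_sup_eq_top' S hSR
        have hd : Nat.card G ∣ Nat.card (normalizer ((S : Subgroup G) : Set G)) * Nat.card R := by
          have := CfsgLib.Solvable.card_sup_dvd (A := normalizer ((S : Subgroup G) : Set G)) (K := R)
            le_normalizer_of_normal
          rwa [show normalizer ((S : Subgroup G) : Set G) ⊔ R = ⊤ from htop, card_top] at this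
        have h5N : 5 ∣ Nat.card (normalizer ((S : Subgroup G) : Set G)) :=
          ((by norm_num : Nat.Prime 5).dvd_mul.1 (((by norm_num : 5 ∣ 60).trans ⟨c, hcG⟩).trans hd)).resolve_right
            (hRP ▸ h5)
        exact exists_of_solvable_sub hN ((by norm_num : Nat.Coprime 12 5).mul_dvd_of_dvd_of_dvd hd12 h5N)
          (by rwa [hcG, Nat.mul_div_cancel_left _ (by norm_num)])
    · exfalso
      have := Nat.card_congr e7.toEquiv
      rw [hcG, Nat.card_eq_fintype_card, card_alternatingGroup, Fintype.card_fin] at this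
      norm_num [Nat.factorial] at this
      omega
  -- a minimal normal subgroup of odd order
  obtain ⟨A, hA, hA1, hAO, hmin⟩ := CfsgLib.Solvable.exists_minimal_normal_le hO
  haveI := hA
  have hAodd : Odd (Nat.card A) := (DGroup.odd_oddCore G).of_dvd_nat (card_dvd_of_le hAO)
  obtain ⟨-, r, hr, -, hAr⟩ := CfsgLib.Solvable.minimal_normal_elementary hA1 hmin (DGroup.solvable_of_odd A hAodd)
  haveI := Fact.mk hr
  obtain ⟨j, hj⟩ := IsPGroup.iff_card.1 hAr
  have hj1 : j ≠ 0 := fun h => hA1 (Subgroup.eq_bot_of_card_eq _ (by rw [hj, h, pow_zero]))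
  have hcq := A.card_eq_card_quotient_mul_card_subgroup
  have hr2 : r ≠ 2 := fun h => (Nat.not_even_iff_odd.2 hAodd)
    (even_iff_two_dvd.2 (by rw [hj, h]; exact dvd_pow_self 2 hj1))
  rw [hcG, hj] at hcq
  by_cases hr60 : r ∣ 60
  · have hle : r ≤ 60 := Nat.le_of_dvd (by norm_num) hr60
    have hrc : r = 3 ∨ r = 5 := by
      rcases (hr.dvd_mul (m := 4) (n := 15)).1 (by norm_num; exact hr60) with h | h
      · exact absurd ((Nat.prime_dvd_prime_iff_eq hr Nat.prime_two).1 (hr.dvd_of_dvd_pow (show r ∣ 2 ^ 2 from h))) hr2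
      · rcases (hr.dvd_mul (m := 3) (n := 5)).1 (by norm_num; exact h) with h | h
        · exact Or.inl ((Nat.prime_dvd_prime_iff_eq hr Nat.prime_three).1 h)
        · exact Or.inr ((Nat.prime_dvd_prime_iff_eq hr (by norm_num)).1 h)
    have hA' : Nat.card A = r := by
      obtain ⟨j', rfl⟩ : ∃ j', j = j' + 1 := ⟨j - 1, by omega⟩
      rw [hj]
      rcases j' with _ | j'
      · simp
      exfalso
      have h2 : r * r ∣ 60 * c := ⟨Nat.card (G ⧸ A) * r ^ j', by rw [hcq]; ring⟩
      have hrc' : ¬ r ∣ c := fun h => hr.ne_one (hcp r hr60 h)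
      have := ((hr.coprime_iff_not_dvd.2 hrc').mul_left (hr.coprime_iff_not_dvd.2 hrc')).dvd_of_dvd_mul_right h2
      rcases hrc with rfl | rfl <;> norm_num at this
    rw [hj] at hA'
    rw [hA'] at hcq hj
    rcases hrc with rfl | rfl
    · exfalso
      have hq : Nat.card (G ⧸ A) = 20 * c := by omega
      obtain ⟨T⟩ : Nonempty (Sylow 2 (G ⧸ A)) := inferInstance
      have hT : Nat.card (T : Subgroup (G ⧸ A)) = 4 := sylow_card_of_unitary (a := 2) (b := 5) T (by norm_num)
        (by norm_num; exact ⟨c, hq⟩)
        (by norm_num; rw [hq, Nat.mul_div_cancel_left _ (by norm_num)]; exact hc.coprime_dvd_left (by norm_num))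
      have hsolQ : ¬ Group.IsSolvable (G ⧸ A) := fun h =>
        hsol ((Group.isSolvable_iff_subgroup_quotient A).2 ⟨DGroup.solvable_of_odd A hAodd, h⟩)
      have h12 := (four_normalizer hsolQ T hT).2.2.trans (card_subgroup_dvd_card _)
      rw [hq] at h12
      have : 3 ∣ 20 * c := (by norm_num : 3 ∣ 12).trans h12
      omega
    · have hq : Nat.card (G ⧸ A) = 12 * c := by omega
      obtain ⟨T, hT⟩ := exists_twelve (G := G ⧸ A) ⟨c, hq⟩
        (by rw [hq, Nat.mul_div_cancel_left _ (by norm_num)]; exact hc.coprime_dvd_left (by norm_num))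
      exact ⟨T.comap (QuotientGroup.mk' A), by rw [card_preimage, hT, hj]⟩
  · have hco : (Nat.card A).Coprime 60 := by
      rw [hj]; exact (hr.coprime_iff_not_dvd.2 hr60).pow_left j
    obtain ⟨d, hd⟩ : 60 ∣ Nat.card (G ⧸ A) := by
      refine (hco.symm).dvd_of_dvd_mul_right ?_
      rw [hj, ← hcq]
      exact dvd_mul_right _ _
    rw [hd] at hcq
    have hlt : Nat.card (G ⧸ A) < k := by
      rw [← hk, hcG, hcq, hd]
      refine lt_mul_of_one_lt_right ?_ (one_lt_pow₀ hr.one_lt hj1)
      rw [← hd]; exact Nat.card_pos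
    obtain ⟨T, hT⟩ := IH _ hlt (G ⧸ A) rfl ⟨d, hd⟩ (by
      rw [hd, Nat.mul_div_cancel_left _ (by norm_num)]
      refine hc.coprime_dvd_right ⟨r ^ j, ?_⟩
      exact Nat.eq_of_mul_eq_mul_left (by norm_num : 0 < 60) (by rw [hcq]; ring))
    exact lift_subgroup hT hco

end CfsgLib.GWApps
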