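import Cfsg.Agent.GWApps.HallTwentyFour
import Cfsg.Agent.GWApps.HallSixty
import Cfsg.Agent.GWApps.HallCounter

/-!
# The orders forcing a subgroup of that order (S4044)
-/

set_option autoImplicit false
set_option linter.style.haveILetI false

namespace CfsgLib.GWApps

open Subgroup

universe u

/-- Twice an odd number. -/
theorem exists_two_odd {G : Type u} [Group G] [Finite G] {m : ℕ} (h2 : m % 4 = 2)
    (hd : m ∣ Nat.card G) (hc : m.Coprime (Nat.card G / m)) : ∃ K : Subgroup G, Nat.card K = m := by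
  haveI : Fact (Nat.Prime 2) := ⟨Nat.prime_two⟩
  obtain ⟨S⟩ : Nonempty (Sylow 2 G) := inferInstance
  have hS : Nat.card (S : Subgroup G) = 2 := by
    have := sylow_card_of_unitary (a := 1) (b := m / 2) S (by omega)
      (by rwa [pow_one, Nat.mul_div_cancel' (by omega : 2 ∣ m)])
      (by rwa [pow_one, Nat.mul_div_cancel' (by omega : 2 ∣ m)])
    simpa using this
  haveI : IsCyclic (S : Subgroup G) := isCyclic_of_prime_card hS
  haveI := isSolvable_of_cyclic_sylow S inferInstance
  exact exists_of_solvable hd hc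

theorem hall_numbers (hGW : Statement.{0}) (m : ℕ) (hm : 2 ≤ m) :
    (∀ (G : Type) [Group G] [Finite G], m ∣ Nat.card G → m.Coprime (Nat.card G / m) →
        ∃ H : Subgroup G, Nat.card H = m) ↔
    (IsPrimePow m ∨ m % 4 = 2 ∨ m = 12 ∨ m = 24 ∨ m = 60) := by
  refine ⟨fun h => ?_, fun h G _ _ hd hc => ?_⟩
  · by_contra hcon
    simp only [not_or] at hcon
    obtain ⟨G, _, _, hd, hc, hno⟩ :=
      exists_no_subgroup hm hcon.1 hcon.2.1 hcon.2.2.1 hcon.2.2.2.1 hcon.2.2.2.2
    obtain ⟨H, hH⟩ := h G hd hc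
    exact hno H hH
  · rcases h with h | h | rfl | rfl | rfl
    · obtain ⟨p, k, hp, -, rfl⟩ := isPrimePow_nat_iff _ |>.1 h
      haveI := Fact.mk hp
      exact Sylow.exists_subgroup_card_pow_prime p hd
    · exact exists_two_odd h hd hc
    · exact exists_twelve hd hc
    · exact exists_twentyFour _ G rfl hd hc
    · exact exists_sixty hGW _ G rfl hd hc

end CfsgLib.GWApps
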