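import Cfsg.Agent.GWApps.HallBase
import Cfsg.Agent.Classical.PSLTwo
import Cfsg.Agent.CTGroup.Structure
import Cfsg.Agent.Invol.CoreOddEmbedded
import Cfsg.Agent.PPrimeAbelian.Basic
import Cfsg.Agent.Invol.CentralWeak
import Cfsg.Agent.S1279
import Cfsg.Agent.S0217
import Cfsg.Agent.S1221

/-!
# Subgroups of order 24
-/

set_option autoImplicit false
set_option linter.unusedSectionVars false
set_option linter.style.haveILetI false

namespace CfsgLib.GWApps

open Subgroup

universe u

variable {G : Type u} [Group G] [Finite G]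

/-- An element of odd order normalizing a group of order eight and fixing a central involution has its
cube in the centralizer. -/
theorem cube_central {S : Subgroup G} (hS : Nat.card S = 8) {t : G} (ht : t ∈ S) (ht2 : orderOf t = 2)
    (htc : ∀ s ∈ S, Commute t s) {x : G} (hxN : x ∈ normalizer (S : Set G)) (hx : Odd (orderOf x))
    (hxt : x * t * x⁻¹ = t) : x ^ 3 ∈ centralizer (S : Set G) := by
  classical
  haveI : Fact (Nat.Prime 2) := ⟨Nat.prime_two⟩
  set T := zpowers (⟨t, ht⟩ : S)
  haveI : T.Normal := ⟨fun n hn g => by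
    obtain ⟨k, rfl⟩ := mem_zpowers_iff.1 hn
    have hcm : Commute g (⟨t, ht⟩ : S) := Subtype.ext (htc g g.2).eq.symm
    rw [(hcm.zpow_right k).eq, mul_inv_cancel_right]
    exact hn⟩
  have hT : Nat.card T = 2 := by rw [Nat.card_zpowers, Subgroup.orderOf_mk, ht2]
  have hQ : Nat.card (S ⧸ T) = 4 := by
    have := T.card_eq_card_quotient_mul_card_subgroup
    rw [hS, hT] at this
    omega
  have hx6 : ∀ s ∈ S, x ^ 6 * s * (x ^ 6)⁻¹ = s := by
    intro s hs
    have hmem : ∀ i : ℕ, x ^ i * s * (x ^ i)⁻¹ ∈ S := fun i => (mem_normalizer_iff.1 (pow_mem hxN i) s).1 hs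
    let q : ℕ → S ⧸ T := fun i => QuotientGroup.mk ⟨x ^ i * s * (x ^ i)⁻¹, hmem i⟩
    -- the class of a conjugate determines the class of the next one
    have hstep : ∀ i j k : ℕ, q i = q j → q (k + i) = q (k + j) := by
      intro i j k h
      rw [QuotientGroup.eq] at h ⊢
      obtain ⟨m, hm⟩ := mem_zpowers_iff.1 h
      refine mem_zpowers_iff.2 ⟨m, Subtype.ext ?_⟩
      have hm' : t ^ m = (x ^ i * s * (x ^ i)⁻¹)⁻¹ * (x ^ j * s * (x ^ j)⁻¹) := congrArg Subtype.val hm
      have hxk : ∀ k : ℕ, x ^ k * t ^ m * (x ^ k)⁻¹ = t ^ m := fun k => by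
        have hc : Commute x t := mul_inv_eq_iff_eq_mul.1 hxt
        rw [((hc.zpow_right m).pow_left k).eq, mul_inv_cancel_right]
      show t ^ m = (x ^ (k + i) * s * (x ^ (k + i))⁻¹)⁻¹ * (x ^ (k + j) * s * (x ^ (k + j))⁻¹)
      rw [← hxk k, hm']
      simp only [pow_add, mul_inv_rev, inv_inv, mul_assoc, inv_mul_cancel_left, mul_inv_cancel_left]
    have hfix : ∃ p, (p = 1 ∨ p = 2 ∨ p = 3) ∧ q p = q 0 := by
      by_cases h1 : q 1 = q 0
      · exact ⟨1, Or.inl rfl, h1⟩
      by_cases h2 : q 2 = q 0
      · exact ⟨2, Or.inr (Or.inl rfl), h2⟩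
      by_cases h3 : q 3 = q 0
      · exact ⟨3, Or.inr (Or.inr rfl), h3⟩
      exfalso
      haveI := Fintype.ofFinite (S ⧸ T)
      have hne : ∀ i, q i ≠ 1 := by
        intro i hi
        apply h1
        rw [QuotientGroup.eq_one_iff] at hi
        obtain ⟨m, hm⟩ := mem_zpowers_iff.1 hi
        have hm' : t ^ m = x ^ i * s * (x ^ i)⁻¹ := congrArg Subtype.val hm
        have hc : Commute x t := mul_inv_eq_iff_eq_mul.1 hxt
        have hs' : s = t ^ m := by
          calc s = (x ^ i)⁻¹ * (x ^ i * s * (x ^ i)⁻¹) * x ^ i := by group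
            _ = (x ^ i)⁻¹ * t ^ m * x ^ i := by rw [hm']
            _ = t ^ m := by rw [mul_assoc, ← ((hc.zpow_right m).pow_left i).eq, inv_mul_cancel_left]
        refine congrArg QuotientGroup.mk (Subtype.ext ?_)
        show x ^ 1 * s * (x ^ 1)⁻¹ = x ^ 0 * s * (x ^ 0)⁻¹
        rw [hs', pow_one, (hc.zpow_right m).eq, mul_inv_cancel_right, pow_zero, one_mul, inv_one, mul_one]
      have h12 : q 1 ≠ q 2 := fun h => h1 (by
        by_contra
        have e1 : q 2 = q 3 := hstep 1 2 1 h
        have hs' : ∀ i, 1 ≤ i → q i = q 1 := by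
          intro i hi
          induction i, hi using Nat.le_induction with
          | base => rfl
          | succ i _ ih => rw [add_comm i 1, hstep i 1 1 ih, h]
        have hord := hs' (orderOf x) (orderOf_pos x)
        have h0 : q (orderOf x) = q 0 := by
          refine congrArg QuotientGroup.mk (Subtype.ext ?_)
          show x ^ orderOf x * s * (x ^ orderOf x)⁻¹ = x ^ 0 * s * (x ^ 0)⁻¹
          rw [pow_orderOf_eq_one, pow_zero]
        exact h1 (hord.symm.trans h0))
      have h13 : q 1 ≠ q 3 := fun h => by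
        have hs' : ∀ i, q (1 + 2 * i) = q 1 := by
          intro i
          induction i with
          | zero => rfl
          | succ i ih =>
            rw [show 1 + 2 * (i + 1) = 2 + (1 + 2 * i) by ring, hstep _ _ 2 ih]
            exact h.symm
        obtain ⟨k, hk⟩ := hx
        have h0 : q (orderOf x) = q 0 := by
          refine congrArg QuotientGroup.mk (Subtype.ext ?_)
          show x ^ orderOf x * s * (x ^ orderOf x)⁻¹ = x ^ 0 * s * (x ^ 0)⁻¹
          rw [pow_orderOf_eq_one, pow_zero]
        rw [hk, show 2 * k + 1 = 1 + 2 * k by ring, hs' k] at h0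
        exact h1 h0
      have h23 : q 2 ≠ q 3 := fun h => by
        have hs' : ∀ i, 2 ≤ i → q i = q 2 := by
          intro i hi
          induction i, hi using Nat.le_induction with
          | base => rfl
          | succ i _ ih => rw [add_comm i 1, hstep i 2 1 ih]; exact h.symm
        have h0 : q (orderOf x + orderOf x) = q 0 := by
          refine congrArg QuotientGroup.mk (Subtype.ext ?_)
          show x ^ (orderOf x + orderOf x) * s * (x ^ (orderOf x + orderOf x))⁻¹ = x ^ 0 * s * (x ^ 0)⁻¹
          rw [pow_add, pow_orderOf_eq_one, one_mul, pow_zero]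
        have := orderOf_pos x
        exact h2 ((hs' _ (by omega)).symm.trans h0)
      have hcard : ({1, q 0, q 1, q 2, q 3} : Finset (S ⧸ T)).card = 5 := by
        rw [Finset.card_insert_of_notMem, Finset.card_insert_of_notMem, Finset.card_insert_of_notMem,
          Finset.card_insert_of_notMem, Finset.card_singleton]
        all_goals simp [(hne 0).symm, (hne 1).symm, (hne 2).symm, (hne 3).symm, Ne.symm h1, Ne.symm h2,
          Ne.symm h3, h12, h13, h23]
      have := Finset.card_le_univ ({1, q 0, q 1, q 2, q 3} : Finset (S ⧸ T))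
      rw [hcard, ← Nat.card_eq_fintype_card, hQ] at this
      omega
    have h60 : q 6 = q 0 := by
      obtain ⟨p, hp, hq⟩ := hfix
      rcases hp with rfl | rfl | rfl
      · have hall : ∀ i, q i = q 0 := fun i => by
          induction i with
          | zero => rfl
          | succ i ih => rw [hstep 1 0 i hq, Nat.add_zero, ih]
        exact hall 6
      · calc q 6 = q 4 := hstep 2 0 4 hq
          _ = q 2 := hstep 2 0 2 hq
          _ = q 0 := hq
      · calc q 6 = q 3 := hstep 3 0 3 hq
          _ = q 0 := hq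
    rw [QuotientGroup.eq] at h60
    obtain ⟨m, hm⟩ := mem_zpowers_iff.1 h60
    have hm' : t ^ m = (x ^ 6 * s * (x ^ 6)⁻¹)⁻¹ * (x ^ 0 * s * (x ^ 0)⁻¹) := congrArg Subtype.val hm
    rw [pow_zero, one_mul, inv_one, mul_one] at hm'
    refine DihedralAut.fixes_of_drift (x := s) (d := (t ^ m)⁻¹) (e := 1)
      (hx.of_dvd_nat (orderOf_pow_dvd 6)) ?_ ?_ ?_
    · have hc := ((htc _ (hmem 6)).zpow_left m).eq
      calc x ^ 6 * s * (x ^ 6)⁻¹ = x ^ 6 * s * (x ^ 6)⁻¹ * t ^ m * (t ^ m)⁻¹ := by rw [mul_inv_cancel_right]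
        _ = s * (t ^ m)⁻¹ := by rw [hm', mul_inv_cancel_left]
    · have hc : Commute x t := mul_inv_eq_iff_eq_mul.1 hxt
      rw [(((hc.zpow_right m).pow_left 6).inv_right).eq, mul_inv_cancel_right]
    · rw [pow_one, sq, ← mul_inv_rev, inv_eq_one, ← zpow_add, ← two_mul, zpow_mul, zpow_two,
        Invol.mul_self_eq_one ht2, one_zpow]
  refine mem_centralizer_iff.2 fun s hs => ?_
  obtain ⟨k, hk⟩ := hx
  have h6 : (x ^ 6) ^ (k + 1) = x ^ 3 := by
    rw [← pow_mul, show 6 * (k + 1) = 3 * orderOf x + 3 by omega, pow_add, mul_comm 3, pow_mul,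
      pow_orderOf_eq_one, one_pow, one_mul]
  have h7 : Commute (x ^ 6) s := mul_inv_eq_iff_eq_mul.1 (hx6 s hs)
  rw [← h6]
  exact (h7.pow_left _).eq.symm

/-- An element outside the centralizer with cube inside has order divisible by three. -/
theorem three_dvd_orderOf {C : Subgroup G} {x : G} (h3 : x ^ 3 ∈ C) (hx : x ∉ C) : 3 ∣ orderOf x := by
  by_contra h
  obtain ⟨m, hm⟩ := exists_pow_eq_self_of_coprime (x := x) (n := 3) (Nat.prime_three.coprime_iff_not_dvd.2 h)
  exact hx (hm ▸ pow_mem h3 m)

/-- The odd part of an element. -/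
theorem exists_odd_pow (x : G) : ∃ a : ℕ, Odd (orderOf (x ^ 2 ^ a)) := by
  obtain ⟨k, m, hm, he⟩ := Nat.exists_eq_two_pow_mul_odd (orderOf_pos x).ne'
  refine ⟨k, ?_⟩
  rwa [orderOf_pow' x (pow_ne_zero _ two_ne_zero), he, Nat.gcd_eq_right (dvd_mul_right _ _),
    Nat.mul_div_cancel_left _ (by positivity)]

/-- If the index of a centralizer in a normalizer is odd, odd elements detect it. -/
theorem mem_of_odd_index {U : Subgroup G}
    (hodd : Odd ((centralizer (U : Set G)).relIndex (normalizer (U : Set G)))) {x : G}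
    (hx : x ∈ normalizer (U : Set G)) {a : ℕ} (h : x ^ 2 ^ a ∈ centralizer (U : Set G)) :
    x ∈ centralizer (U : Set G) := by
  set C := (centralizer (U : Set G)).subgroupOf (normalizer (U : Set G))
  haveI : C.Normal := AutomizerSix.centralizer_normal U
  have h1 : (QuotientGroup.mk ⟨x, hx⟩ : _ ⧸ C) ^ 2 ^ a = 1 := by
    rw [← QuotientGroup.mk_pow, QuotientGroup.eq_one_iff]; exact h
  have h2 : orderOf (QuotientGroup.mk ⟨x, hx⟩ : _ ⧸ C) = 1 :=
    Nat.eq_one_of_dvd_coprimes ((Nat.coprime_two_right.2 hodd).pow_right a)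
      (by rw [show (centralizer (U : Set G)).relIndex _ = C.index from rfl, index_eq_card]; exact orderOf_dvd_natCard _)
      (orderOf_dvd_of_pow_eq_one h1)
  exact mem_subgroupOf.1 ((QuotientGroup.eq_one_iff (N := C) ⟨x, hx⟩).1 (orderOf_eq_one_iff.1 h2))

/-- The centralizer of a Sylow 2-subgroup is solvable. -/
theorem isSolvable_centralizer_sylow (S : Sylow 2 G) :
    Group.IsSolvable (centralizer ((S : Subgroup G) : Set G)) := by
  haveI : Fact (Nat.Prime 2) := ⟨Nat.prime_two⟩
  set C := centralizer ((S : Subgroup G) : Set G)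
  obtain ⟨P⟩ : Nonempty (Sylow 2 C) := inferInstance
  refine isSolvable_of_central P fun p hp => mem_center_iff.2 fun c => Subtype.ext ?_
  have hle : (p : G) ∈ (S : Subgroup G) := by
    have hsup : IsPGroup 2 ↥((P : Subgroup C).map C.subtype ⊔ (S : Subgroup G)) :=
      (P.2.map C.subtype).to_sup_of_normal_right' S.2 (fun g hg => by
        obtain ⟨g, -, rfl⟩ := hg
        exact centralizer_le_normalizer _ g.2)
    exact (S.3 hsup le_sup_right).le (mem_sup_left ⟨p, hp, rfl⟩)
  exact (mem_centralizer_iff.1 c.2 p hle).symm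

theorem index_odd_of_abelian (S : Sylow 2 G) (hab : IsMulCommutative (S : Subgroup G)) :
    Odd ((centralizer ((S : Subgroup G) : Set G)).relIndex (normalizer ((S : Subgroup G) : Set G))) := by
  haveI : Fact (Nat.Prime 2) := ⟨Nat.prime_two⟩
  refine Nat.not_even_iff_odd.1 fun h => S.not_dvd_index ?_
  have hle : (S : Subgroup G) ≤ centralizer ((S : Subgroup G) : Set G) := fun x hx =>
    mem_centralizer_iff.2 fun y hy => congrArg Subtype.val (hab.is_comm.comm ⟨y, hy⟩ ⟨x, hx⟩)
  exact ((even_iff_two_dvd.1 h).trans (relIndex_dvd_of_le_left _ hle)).trans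
    ⟨(normalizer ((S : Subgroup G) : Set G)).index, (relIndex_mul_index le_normalizer).symm⟩

/-- Non-abelian Sylow subgroups of order eight. -/
theorem twentyFour_nonabelian (hns : ¬ Group.IsSolvable G) (S : Sylow 2 G) (hS : Nat.card (S : Subgroup G) = 8)
    (hab : ¬ IsMulCommutative (S : Subgroup G)) :
    ∃ H : Subgroup G, Group.IsSolvable H ∧ 24 ∣ Nat.card H := by
  haveI : Fact (Nat.Prime 2) := ⟨Nat.prime_two⟩
  -- some 2-subgroup has an automizer which is not a 2-group
  obtain ⟨U, hU, x, hxN, hxo, hxC⟩ : ∃ U : Subgroup G, IsPGroup 2 U ∧ ∃ x ∈ normalizer (U : Set G),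
      Odd (orderOf x) ∧ x ∉ centralizer (U : Set G) := by
    by_contra hno
    push Not at hno
    obtain ⟨P, K, hK, hc⟩ := CfsgLib.Fusion.hasNormalPComplement_of_localCondition (p := 2) (G := G)
      fun Q hQ g hg hco => hno Q hQ g hg (Nat.coprime_two_right.1 hco)
    haveI := hK
    apply hns
    haveI : Group.IsSolvable K := by
      refine DGroup.solvable_of_odd K (Nat.coprime_two_right.1 ?_)
      refine Nat.coprime_comm.1 ((Nat.prime_two.coprime_iff_not_dvd).2 ?_)
      rw [← hc.index_eq_card]
      exact P.not_dvd_index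
    haveI : Group.IsSolvable (G ⧸ K) := by
      haveI := P.2.isNilpotent
      exact Group.isSolvable_of_surjective (G := (P : Subgroup G))
        (f := (QuotientGroup.mk' K).comp (P : Subgroup G).subtype) fun q => by
          obtain ⟨g, rfl⟩ := QuotientGroup.mk'_surjective K q
          obtain ⟨⟨⟨k, hk⟩, ⟨s, hs⟩⟩, rfl⟩ := hc.2 g
          exact ⟨⟨s, hs⟩, by
            show QuotientGroup.mk' K s = QuotientGroup.mk' K (k * s)
            rw [map_mul, show QuotientGroup.mk' K k = 1 from (QuotientGroup.eq_one_iff (N := K) k).2 hk,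
              one_mul]⟩
    exact (Group.isSolvable_iff_subgroup_quotient K).2 ⟨inferInstance, inferInstance⟩
  obtain ⟨P, hP⟩ := hU.exists_le_sylow
  have hP8 : Nat.card (P : Subgroup G) = 8 := by rw [Nat.card_congr (P.equiv S).toEquiv, hS]
  have hPab : ¬ IsMulCommutative (P : Subgroup G) := fun h => hab ⟨⟨fun a b => (P.equiv S).symm.injective
    (by rw [map_mul, map_mul]; exact h.is_comm.comm _ _)⟩⟩
  -- the centre of `P`
  have hZ : Nat.card (center (P : Subgroup G)) = 2 := by
    haveI : Nontrivial (P : Subgroup G) := Finite.one_lt_card_iff_nontrivial.1 (by rw [hP8]; norm_num)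
    have h1 := card_subgroup_dvd_card (center (P : Subgroup G))
    rw [hP8] at h1
    haveI := P.2.center_nontrivial
    have h0 : 1 < Nat.card (center (P : Subgroup G)) := Finite.one_lt_card
    have h4 : Nat.card (center (P : Subgroup G)) < 4 := by
      by_contra h4
      push Not at h4
      apply hPab
      haveI : IsCyclic ((P : Subgroup G) ⧸ center (P : Subgroup G)) := by
        have hq := (center (P : Subgroup G)).card_eq_card_quotient_mul_card_subgroup
        rw [hP8] at hq
        have hle : Nat.card ((P : Subgroup G) ⧸ center (P : Subgroup G)) ≤ 2 := by nlinarith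
        rcases Nat.lt_or_ge (Nat.card ((P : Subgroup G) ⧸ center (P : Subgroup G))) 2 with h | h
        · haveI : Subsingleton ((P : Subgroup G) ⧸ center (P : Subgroup G)) :=
            (Nat.card_eq_one_iff_unique.1 (by have := Nat.card_pos (α := (P : Subgroup G) ⧸ center (P : Subgroup G)); omega)).1
          exact isCyclic_of_subsingleton
        · exact isCyclic_of_prime_card (p := 2) (by omega)
      exact (QuotientGroup.mk' (center (P : Subgroup G))).isMulCommutative_of_isCyclic_of_ker_le_center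
        (QuotientGroup.ker_mk' _).le
    have := Nat.le_of_dvd (by norm_num) h1
    interval_cases hcz : Nat.card (center (P : Subgroup G)) <;> omega
  obtain ⟨⟨⟨t, htP⟩, htc⟩, hto⟩ := exists_prime_orderOf_dvd_card' (G := center (P : Subgroup G)) 2 (by rw [hZ])
  rw [Subgroup.orderOf_mk, Subgroup.orderOf_mk] at hto
  have htc' : ∀ s ∈ (P : Subgroup G), Commute t s := fun s hs =>
    (congrArg Subtype.val (mem_center_iff.1 htc ⟨s, hs⟩)).symm
  -- the order of `U`
  obtain ⟨k, hk⟩ := IsPGroup.iff_card.1 hU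
  have hk3 : k ≤ 3 := by
    have := card_dvd_of_le hP
    rw [hk, hP8, show (8 : ℕ) = 2 ^ 3 by norm_num] at this
    exact (Nat.pow_dvd_pow_iff_le_right (by norm_num)).1 this
  by_cases hk3' : k = 3
  · -- `U` is a Sylow subgroup
    have hUP : U = P := eq_of_le_of_card_ge hP (by rw [hP8, hk, hk3']; norm_num)
    subst hUP
    have hfix : ∀ y ∈ normalizer ((P : Subgroup G) : Set G), y * t * y⁻¹ = t := by
      intro y hy
      have h1 : y * t * y⁻¹ ∈ (P : Subgroup G) := (mem_normalizer_iff.1 hy t).1 htP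
      have h2 : (⟨y * t * y⁻¹, h1⟩ : (P : Subgroup G)) ∈ center (P : Subgroup G) := mem_center_iff.2 fun s => by
        have hs : y⁻¹ * (s : G) * y ∈ (P : Subgroup G) := by
          simpa using (mem_normalizer_iff.1 (inv_mem hy) (s : G)).1 s.2
        apply Subtype.ext
        show (s : G) * (y * t * y⁻¹) = y * t * y⁻¹ * s
        calc (s : G) * (y * t * y⁻¹) = y * (y⁻¹ * s * y * t) * y⁻¹ := by group
          _ = y * (t * (y⁻¹ * s * y)) * y⁻¹ := by rw [(htc' _ hs).eq]
          _ = y * t * y⁻¹ * s := by group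
      obtain ⟨a, b, -, hab'⟩ := Nat.card_eq_two_iff.1 hZ
      have h3 : ∀ u : center (P : Subgroup G), u = a ∨ u = b := fun u => by
        have hu : u ∈ ({a, b} : Set (center (P : Subgroup G))) := by rw [hab']; trivial
        simpa using hu
      have hne1 : (⟨⟨t, htP⟩, htc⟩ : center (P : Subgroup G)) ≠ 1 := fun h => by
        rw [show t = 1 from congrArg (fun u : center (P : Subgroup G) => ((u : (P : Subgroup G)) : G)) h,
          orderOf_one] at hto
        omega
      have hne2 : (⟨_, h2⟩ : center (P : Subgroup G)) ≠ 1 := fun h => by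
        have h' : y * t * y⁻¹ = 1 := congrArg (fun u : center (P : Subgroup G) => ((u : (P : Subgroup G)) : G)) h
        rw [conj_eq_one_iff.1 h', orderOf_one] at hto
        omega
      have key : (⟨_, h2⟩ : center (P : Subgroup G)) = ⟨⟨t, htP⟩, htc⟩ := by
        rcases h3 ⟨_, h2⟩ with e1 | e1 <;> rcases h3 ⟨⟨t, htP⟩, htc⟩ with e2 | e2 <;> rcases h3 1 with e3 | e3 <;>
          first
          | exact e1.trans e2.symm
          | exact absurd (e1.trans e3.symm) hne2
          | exact absurd (e2.trans e3.symm) hne1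
      exact congrArg (fun u : center (P : Subgroup G) => ((u : (P : Subgroup G)) : G)) key
    refine ⟨normalizer ((P : Subgroup G) : Set G),
      isSolvable_normalizer (isSolvable_centralizer_sylow P) ?_, ?_⟩
    · -- odd primes in the automizer are three
      set C := (centralizer ((P : Subgroup G) : Set G)).subgroupOf (normalizer ((P : Subgroup G) : Set G))
      haveI : C.Normal := AutomizerSix.centralizer_normal _
      refine le_trans (Finset.card_le_card (t := ({2, 3} : Finset ℕ)) fun q hq => ?_) Finset.card_le_two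
      have hqp := Nat.prime_of_mem_primeFactors hq
      have hqd := Nat.dvd_of_mem_primeFactors hq
      rw [Finset.mem_insert, Finset.mem_singleton]
      by_contra hne
      push Not at hne
      haveI := Fact.mk hqp
      rw [show (centralizer ((P : Subgroup G) : Set G)).relIndex (normalizer ((P : Subgroup G) : Set G)) = C.index from rfl,
        index_eq_card] at hqd
      obtain ⟨w, hw⟩ := exists_prime_orderOf_dvd_card' q hqd
      obtain ⟨⟨g, hg⟩, rfl⟩ := QuotientGroup.mk'_surjective C w
      obtain ⟨a, ha⟩ := exists_odd_pow g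
      have h3 := cube_central hP8 htP hto htc' (pow_mem hg _) ha (hfix _ (pow_mem hg _))
      have hd : orderOf ((QuotientGroup.mk' C) ⟨g, hg⟩) ∣ 2 ^ a * 3 := orderOf_dvd_of_pow_eq_one (by
        rw [← map_pow, pow_mul]; exact (QuotientGroup.eq_one_iff _).2 h3)
      rw [hw] at hd
      rcases hqp.dvd_mul.1 hd with h | h
      · exact hne.1 ((Nat.prime_dvd_prime_iff_eq hqp Nat.prime_two).1 (hqp.dvd_of_dvd_pow h))
      · exact hne.2 ((Nat.prime_dvd_prime_iff_eq hqp Nat.prime_three).1 h)
    · have h3 := three_dvd_orderOf (cube_central hP8 htP hto htc' hxN hxo (hfix x hxN)) hxC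
      have h8 : 8 ∣ Nat.card (normalizer ((P : Subgroup G) : Set G)) := hP8 ▸ card_dvd_of_le le_normalizer
      exact (by norm_num : Nat.Coprime 8 3).mul_dvd_of_dvd_of_dvd h8
        (h3.trans (orderOf_dvd_natCard _ hxN))
  · -- `U` is a four-group
    have hk2 : k = 2 := by
      by_contra hk2
      apply hxC
      have hU2 : Nat.card U ≤ 2 := by
        rw [hk]
        exact (Nat.pow_le_pow_right two_pos (show k ≤ 1 by omega)).trans (by norm_num)
      refine mem_centralizer_iff.2 fun u hu => ?_
      rcases eq_or_ne u 1 with rfl | hu1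
      · simp
      have hxu : x * u * x⁻¹ ∈ U := (mem_normalizer_iff.1 hxN u).1 hu
      by_contra hne
      haveI := Fintype.ofFinite U
      classical
      have hc : ({1, ⟨u, hu⟩, ⟨_, hxu⟩} : Finset U).card = 3 :=
        Finset.card_eq_three.2 ⟨_, _, _, fun h => hu1 (congrArg Subtype.val h).symm,
          fun h => hu1 (conj_eq_one_iff.1 (congrArg Subtype.val h).symm),
          fun h => hne (mul_inv_eq_iff_eq_mul.1 (congrArg Subtype.val h).symm).symm, rfl⟩
      have := Finset.card_le_univ ({1, ⟨u, hu⟩, ⟨_, hxu⟩} : Finset U)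
      rw [hc, ← Nat.card_eq_fintype_card] at this
      omega
    have hU4 : Nat.card U = 4 := by rw [hk, hk2]; norm_num
    have hUexp : ∀ u : U, u * u = 1 := by
      intro u
      by_contra hu
      -- cyclic of order four: no automorphism of odd order
      have hd := orderOf_dvd_natCard u
      rw [hU4] at hd
      have ho : orderOf u = 4 := by
        have h1 : orderOf u ≠ 1 := fun e => hu (by rw [orderOf_eq_one_iff.1 e, one_mul])
        have h2 : orderOf u ≠ 2 := fun e => hu (by rw [← sq, ← e, pow_orderOf_eq_one])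
        have := Nat.le_of_dvd (by norm_num) hd
        interval_cases hou : orderOf u <;> omega
      have hgen : zpowers u = ⊤ := eq_top_of_card_eq _ (by rw [Nat.card_zpowers, ho, hU4])
      obtain ⟨j, hj⟩ := mem_zpowers_iff.1 (hgen ▸ mem_top (⟨x * (u : G) * x⁻¹, (mem_normalizer_iff.1 hxN _).1 u.2⟩ : U))
      have hxu := DihedralAut.fixes_of_power hxo (c := (u : G)) (k := j)
        (by simpa using (congrArg Subtype.val hj).symm) (e := 2)
        (by have := congrArg Subtype.val (pow_orderOf_eq_one u); rw [ho] at this; simpa using this)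
      refine hxC (mem_centralizer_iff.2 fun v hv => ?_)
      obtain ⟨i, hi⟩ := mem_zpowers_iff.1 (hgen ▸ mem_top (⟨v, hv⟩ : U))
      have hv' : (u : G) ^ i = v := congrArg Subtype.val hi
      rw [← hv']
      exact ((show Commute x (u : G) from mul_inv_eq_iff_eq_mul.1 hxu).zpow_right i).eq.symm
    have hUK : IsKleinFour U := by
      haveI : Nontrivial U := Finite.one_lt_card_iff_nontrivial.1 (by rw [hU4]; norm_num)
      exact ⟨hU4, (Monoid.exponent_eq_prime_iff Nat.prime_two).2 fun g hg => orderOf_eq_prime (by rw [sq]; exact hUexp g) hg⟩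
    have hUN : (P : Subgroup G) ≤ normalizer (U : Set G) := by
      have h2 : (U.subgroupOf (P : Subgroup G)).index = 2 := by
        have h := (U.subgroupOf (P : Subgroup G)).index_mul_card
        rw [Nat.card_congr (subgroupOfEquivOfLe hP).toEquiv, hP8, hU4] at h
        omega
      exact (normal_subgroupOf_iff_le_normalizer hP).1 (normal_of_index_eq_two h2)
    have hCsol : Group.IsSolvable (centralizer (U : Set G)) := by
      set C := centralizer (U : Set G)
      have hUC : U ≤ C := fun a ha => mem_centralizer_iff.2 fun b hb =>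
        congrArg Subtype.val ((IsKleinFour.isMulCommutative (G := U)).is_comm.comm ⟨b, hb⟩ ⟨a, ha⟩)
      obtain ⟨R, hR⟩ := (hU.comap_subtype (K := C)).exists_le_sylow
      refine isSolvable_of_central R fun r hr => mem_center_iff.2 fun c => ?_
      have hRU : (R : Subgroup C) = U.subgroupOf C := by
        refine (eq_of_le_of_card_ge hR ?_).symm
        rw [show U.comap C.subtype = U.subgroupOf C from rfl, Nat.card_congr (subgroupOfEquivOfLe hUC).toEquiv, hU4]
        obtain ⟨j, hj⟩ := IsPGroup.iff_card.1 R.2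
        rw [hj]
        obtain ⟨Q, hQ⟩ := (R.2.map C.subtype).exists_le_sylow
        have hQ8 : Nat.card (Q : Subgroup G) = 8 := by rw [Nat.card_congr (Q.equiv S).toEquiv, hS]
        have hd := card_dvd_of_le hQ
        rw [card_map_of_injective C.subtype_injective, hj, hQ8, show (8 : ℕ) = 2 ^ 3 by norm_num] at hd
        have hj3 := (Nat.pow_dvd_pow_iff_le_right (by norm_num)).1 hd
        by_contra hlt
        push Not at hlt
        have hj3' : j = 3 := by
          by_contra
          have := Nat.pow_le_pow_right two_pos (show j ≤ 2 by omega)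
          omega
        have hQR : (R : Subgroup C).map C.subtype = Q := eq_of_le_of_card_ge hQ
          (by rw [hQ8, card_map_of_injective C.subtype_injective, hj, hj3']; norm_num)
        -- `U` would be central in the Sylow subgroup `Q`
        apply hab
        have hUQ : U ≤ (Q : Subgroup G) := hQR ▸ fun a ha => ⟨⟨a, hUC ha⟩, hR ha, rfl⟩
        have hUZ : U.subgroupOf (Q : Subgroup G) ≤ center (Q : Subgroup G) := fun a ha =>
          mem_center_iff.2 fun q => by
            obtain ⟨q', -, hq'⟩ := hQR.ge q.2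
            apply Subtype.ext
            show (q : G) * (a : G) = a * q
            rw [← hq']
            exact ((mem_centralizer_iff.1 q'.2) a ha).symm
        have hcz : 4 ≤ Nat.card (center (Q : Subgroup G)) := by
          rw [← hU4, ← Nat.card_congr (subgroupOfEquivOfLe hUQ).toEquiv]
          exact card_le_of_le hUZ
        have hqq := (center (Q : Subgroup G)).card_eq_card_quotient_mul_card_subgroup
        rw [hQ8] at hqq
        haveI : IsCyclic ((Q : Subgroup G) ⧸ center (Q : Subgroup G)) := by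
          have hle : Nat.card ((Q : Subgroup G) ⧸ center (Q : Subgroup G)) ≤ 2 := by nlinarith
          rcases Nat.lt_or_ge (Nat.card ((Q : Subgroup G) ⧸ center (Q : Subgroup G))) 2 with h | h
          · haveI : Subsingleton ((Q : Subgroup G) ⧸ center (Q : Subgroup G)) :=
              (Nat.card_eq_one_iff_unique.1 (by have := Nat.card_pos (α := (Q : Subgroup G) ⧸ center (Q : Subgroup G)); omega)).1
            exact isCyclic_of_subsingleton
          · exact isCyclic_of_prime_card (p := 2) (by omega)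
        have hQc : IsMulCommutative (Q : Subgroup G) :=
          (QuotientGroup.mk' (center (Q : Subgroup G))).isMulCommutative_of_isCyclic_of_ker_le_center
            (QuotientGroup.ker_mk' _).le
        exact ⟨⟨fun a b => (S.equiv Q).injective (by rw [map_mul, map_mul]; exact hQc.is_comm.comm _ _)⟩⟩
      rw [hRU] at hr
      exact Subtype.ext ((mem_centralizer_iff.1 c.2 r hr).symm)
    refine ⟨normalizer (U : Set G), isSolvable_normalizer hCsol ?_, ?_⟩
    · refine le_trans (Finset.card_le_card (Nat.primeFactors_mono (AutomizerSix.klein_six hUK) (by norm_num))) ?_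
      rw [show (6 : ℕ) = 2 * 3 by norm_num, Nat.primeFactors_mul (by norm_num) (by norm_num),
        Nat.prime_two.primeFactors, Nat.prime_three.primeFactors]
      exact (Finset.card_union_le _ _).trans (by simp)
    · have h3 : 3 ∣ Nat.card (normalizer (U : Set G)) := by
        set C := (centralizer (U : Set G)).subgroupOf (normalizer (U : Set G))
        haveI : C.Normal := AutomizerSix.centralizer_normal U
        set w := (QuotientGroup.mk ⟨x, hxN⟩ : _ ⧸ C)
        have hw : orderOf w ∣ 6 := (orderOf_dvd_natCard w).trans (by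
          rw [← index_eq_card]; exact AutomizerSix.klein_six hUK)
        have hwx : orderOf w ∣ orderOf x := (orderOf_map_dvd (QuotientGroup.mk' C) ⟨x, hxN⟩).trans
          (by rw [Subgroup.orderOf_mk])
        have hw1 : orderOf w ≠ 1 := fun e => hxC (mem_subgroupOf.1 ((QuotientGroup.eq_one_iff _).1 (orderOf_eq_one_iff.1 e)))
        have hwo : Odd (orderOf w) := hxo.of_dvd_nat hwx
        have h3w : orderOf w = 3 := by
          have := Nat.le_of_dvd (by norm_num) hw
          obtain ⟨j, hj⟩ := hwo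
          interval_cases orderOf w <;> omega
        exact (h3w ▸ hwx).trans (orderOf_dvd_natCard _ hxN)
      exact (by norm_num : Nat.Coprime 8 3).mul_dvd_of_dvd_of_dvd (hP8 ▸ card_dvd_of_le hUN) h3

/-- Abelian Sylow subgroups of order eight. -/
theorem twentyFour_abelian (hns : ¬ Group.IsSolvable G) (hO : Cfsg.oddCore G = ⊥) (h9 : ¬ 9 ∣ Nat.card G)
    (h3G : 3 ∣ Nat.card G) (S : Sylow 2 G) (hS : Nat.card (S : Subgroup G) = 8)
    (hab : IsMulCommutative (S : Subgroup G))
    (IH : ∀ M : Subgroup G, M ≠ ⊤ → (S : Subgroup G) ≤ M → 3 ∣ Nat.card M →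
      ∃ K : Subgroup G, Nat.card K = 24) :
    (∃ K : Subgroup G, Nat.card K = 24) ∨ ∃ H : Subgroup G, Group.IsSolvable H ∧ 24 ∣ Nat.card H := by
  classical
  haveI : Fact (Nat.Prime 2) := ⟨Nat.prime_two⟩
  haveI : Fact (Nat.Prime 3) := ⟨Nat.prime_three⟩
  set N := normalizer ((S : Subgroup G) : Set G) with hN
  set C := centralizer ((S : Subgroup G) : Set G)
  have hodd := index_odd_of_abelian S hab
  have hSC : (S : Subgroup G) ≤ C := fun x hx =>
    mem_centralizer_iff.2 fun y hy => congrArg Subtype.val (hab.is_comm.comm ⟨y, hy⟩ ⟨x, hx⟩)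
  by_cases h3N : 3 ∣ Nat.card N
  · refine Or.inr ⟨N, ?_, (by norm_num : Nat.Coprime 8 3).mul_dvd_of_dvd_of_dvd (hS ▸ card_dvd_of_le le_normalizer) h3N⟩
    set C' := C.subgroupOf N
    haveI : C'.Normal := AutomizerSix.centralizer_normal _
    haveI := isSolvable_centralizer_sylow S
    haveI : Group.IsSolvable C' := by
      let e : C' ≃* C := subgroupOfEquivOfLe (centralizer_le_normalizer _)
      exact Group.isSolvable_of_isSolvable_injective (f := e.toMonoidHom) e.injective
    exact (Group.isSolvable_iff_subgroup_quotient C').2 ⟨inferInstance,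
      CfsgLib.OddEnd.odd_solvable _ (by rw [← index_eq_card]; exact hodd)⟩
  -- elements of odd order fixing a point of `S` centralize it
  have hfix : ∀ x ∈ N, ∀ t ∈ (S : Subgroup G), orderOf t = 2 → x * t * x⁻¹ = t → x ∈ C := by
    intro x hx t ht ht2 hxt
    obtain ⟨a, ha⟩ := exists_odd_pow x
    have hc : x ^ 2 ^ a * t * (x ^ 2 ^ a)⁻¹ = t := by
      rw [((show Commute x t from mul_inv_eq_iff_eq_mul.1 hxt).pow_left _).eq, mul_inv_cancel_right]
    have h3 := cube_central hS ht ht2 (fun s hs => mem_centralizer_iff.1 (hSC hs) t ht) (pow_mem hx _) ha hc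
    refine mem_of_odd_index hodd hx (a := a) ?_
    by_contra h
    exact h3N ((three_dvd_orderOf h3 h).trans (orderOf_dvd_natCard _ (pow_mem hx _)))
  obtain ⟨x, hx, hxo, hxC⟩ : ∃ x ∈ N, Odd (orderOf x) ∧ x ∉ C := by
    by_contra hno
    push Not at hno
    refine hns (isSolvable_of_burnside S fun g hg => ?_)
    obtain ⟨a, ha⟩ := exists_odd_pow g
    exact mem_of_odd_index hodd hg (a := a) (hno _ (pow_mem hg _) ha)
  have h3x : ¬ 3 ∣ orderOf x := fun h => h3N (h.trans (orderOf_dvd_natCard _ hx))
  -- no invariant subgroup of order two or four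
  have hinv : ∀ W : Subgroup G, W ≤ (S : Subgroup G) → W ≠ ⊥ → (∀ g ∈ N, ∀ w ∈ W, g * w * g⁻¹ ∈ W) →
      W = (S : Subgroup G) := by
    intro W hW hW1 hWinv
    by_contra hne
    have hd := card_dvd_of_le hW
    rw [hS] at hd
    have h8 : Nat.card W ≠ 8 := fun h => hne (eq_of_le_of_card_ge hW (by rw [h, hS]))
    have hW4 : Nat.card W ≤ 4 := by
      have := Nat.le_of_dvd (by norm_num) hd
      interval_cases Nat.card W <;> omega
    obtain ⟨w, hw, hw1⟩ := (bot_or_exists_ne_one W).resolve_left hW1
    obtain ⟨u, huW, huo⟩ : ∃ u ∈ W, orderOf u = 2 := by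
      obtain ⟨⟨u, hu⟩, huo⟩ := exists_prime_orderOf_dvd_card' (G := W) 2
        (((S.2.to_le hW).card_eq_or_dvd).resolve_left fun e => hW1 (card_eq_one.1 e))
      exact ⟨u, hu, by rwa [Subgroup.orderOf_mk] at huo⟩
    have hmem : ∀ i : ℕ, x ^ i * u * (x ^ i)⁻¹ ∈ W := fun i => hWinv _ (pow_mem hx i) u huW
    let f : Fin 4 → W := fun i => ⟨x ^ (i : ℕ) * u * (x ^ (i : ℕ))⁻¹, hmem i⟩
    haveI := Fintype.ofFinite W
    have hex : ∃ i j : Fin 4, i < j ∧ f i = f j := by
      by_contra hno
      push Not at hno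
      have hinj : Function.Injective f := fun i j h => by
        rcases lt_trichotomy i j with l | l | l
        · exact absurd h (hno i j l)
        · exact l
        · exact absurd h.symm (hno j i l)
      let g : Option (Fin 4) → W := fun o => o.elim 1 f
      have hg : Function.Injective g := by
        rintro (_ | i) (_ | j) h
        · rfl
        · exfalso
          have h' : x ^ (j : ℕ) * u * (x ^ (j : ℕ))⁻¹ = 1 := (congrArg Subtype.val h).symm
          rw [conj_eq_one_iff.1 h', orderOf_one] at huo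
          omega
        · exfalso
          have h' : x ^ (i : ℕ) * u * (x ^ (i : ℕ))⁻¹ = 1 := congrArg Subtype.val h
          rw [conj_eq_one_iff.1 h', orderOf_one] at huo
          omega
        · exact congrArg some (hinj h)
      have := Fintype.card_le_of_injective g hg
      rw [Fintype.card_option, Fintype.card_fin, ← Nat.card_eq_fintype_card] at this
      omega
    obtain ⟨i, j, hij, he⟩ := hex
    have he' : x ^ (i : ℕ) * u * (x ^ (i : ℕ))⁻¹ = x ^ (j : ℕ) * u * (x ^ (j : ℕ))⁻¹ := congrArg Subtype.val he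
    obtain ⟨p, hp, hp3, hpj⟩ : ∃ p, 0 < p ∧ p ≤ 3 ∧ (j : ℕ) = i + p := by
      exact ⟨(j : ℕ) - i, by have : (i : ℕ) < j := hij; omega, by have := j.isLt; omega, by have : (i : ℕ) < j := hij; omega⟩
    have hpu : x ^ p * u * (x ^ p)⁻¹ = u := by
      rw [hpj, pow_add] at he'
      refine mul_left_cancel (a := x ^ (i : ℕ)) (mul_right_cancel (b := (x ^ (i : ℕ))⁻¹) ?_)
      rw [he']; group
    have hpC := hfix _ (pow_mem hx p) u (hW huW) huo hpu
    refine hxC ?_
    have hcop : (orderOf x).Coprime p := by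
      interval_cases p
      · exact Nat.coprime_one_right _
      · exact Nat.coprime_two_right.2 hxo
      · exact (Nat.prime_three.coprime_iff_not_dvd.2 h3x).symm
    obtain ⟨m, hm⟩ := exists_pow_eq_self_of_coprime (x := x) (n := p) hcop.symm
    exact hm ▸ pow_mem hpC m
  -- `S` is elementary
  have hexp : ∀ s ∈ (S : Subgroup G), s * s = 1 := by
    let sq : (S : Subgroup G) →* G := MonoidHom.mk' (fun s => (s : G) * s) fun a b => by
      have hc : (a : G) * b = b * a := congrArg Subtype.val (hab.is_comm.comm a b)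
      simp only [Subgroup.coe_mul]
      calc (a : G) * b * (a * b) = a * (b * a) * b := by group
        _ = a * (a * b) * b := by rw [hc]
        _ = a * a * (b * b) := by group
    intro s hs
    by_contra hne
    have hle : sq.range ≤ (S : Subgroup G) := by
      rintro _ ⟨a, rfl⟩; exact mul_mem a.2 a.2
    have h := hinv sq.range hle (fun h => hne (mem_bot.1 (h ▸ ⟨⟨s, hs⟩, rfl⟩))) (by
      rintro g hg _ ⟨a, rfl⟩
      refine ⟨⟨g * a * g⁻¹, (mem_normalizer_iff.1 hg _).1 a.2⟩, ?_⟩
      show g * a * g⁻¹ * (g * a * g⁻¹) = g * ((a : G) * a) * g⁻¹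
      group)
    -- the square map would be bijective
    have hsur : Function.Surjective (sq.codRestrict (S : Subgroup G) fun a => mul_mem a.2 a.2) := fun b => by
      obtain ⟨a, ha⟩ := h.ge b.2
      exact ⟨a, Subtype.ext ha⟩
    obtain ⟨u, hu, huo⟩ : ∃ u ∈ (S : Subgroup G), orderOf u = 2 := by
      obtain ⟨⟨u, hu⟩, huo⟩ := exists_prime_orderOf_dvd_card' (G := (S : Subgroup G)) 2 (by rw [hS]; norm_num)
      exact ⟨u, hu, by rwa [Subgroup.orderOf_mk] at huo⟩
    have hinj := (Finite.injective_iff_surjective.2 hsur) (a₁ := ⟨u, hu⟩) (a₂ := 1) (Subtype.ext (by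
      show u * u = (1 : G) * 1
      rw [Invol.mul_self_eq_one huo, one_mul]))
    exact Invol.ne_one huo (congrArg Subtype.val hinj)
  have hord : ∀ s ∈ (S : Subgroup G), s ≠ 1 → orderOf s = 2 := fun s hs h1 =>
    Invol.orderOf_eq_two (hexp s hs) h1
  -- proper normal subgroups
  have hsimple : ∀ M : Subgroup G, M.Normal → M ≠ ⊥ → M = ⊤ ∨ ∃ K : Subgroup G, Nat.card K = 24 := by
    intro M hM hM1
    by_cases hMtop : M = ⊤
    · exact Or.inl hMtop
    have hev : 2 ∣ Nat.card M := by
      by_contra h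
      refine hM1 (le_bot_iff.1 (hO ▸ DGroup.le_oddCore hM ?_))
      exact Nat.not_even_iff_odd.1 fun e => h (even_iff_two_dvd.1 e)
    obtain ⟨⟨u, hu⟩, huo⟩ := exists_prime_orderOf_dvd_card' (G := M) 2 hev
    rw [Subgroup.orderOf_mk] at huo
    obtain ⟨g, hg⟩ := CfsgLib.CentralWeak.exists_conj_sylow S
      (IsPGroup.of_card (n := 1) (by rw [Nat.card_zpowers, huo, pow_one]) : IsPGroup 2 (zpowers u))
    have hW := hinv (M ⊓ (S : Subgroup G)) inf_le_right (fun h => by
      have h1 : g * u * g⁻¹ ∈ M ⊓ (S : Subgroup G) := ⟨hM.conj_mem u hu g, hg u (mem_zpowers u)⟩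
      rw [h, mem_bot, conj_eq_one_iff] at h1
      rw [h1, orderOf_one] at huo
      omega) (fun g hg w hw => ⟨hM.conj_mem w hw.1 g, (mem_normalizer_iff.1 hg w).1 hw.2⟩)
    have hSM : (S : Subgroup G) ≤ M := inf_eq_right.1 hW
    by_cases h3 : 3 ∣ Nat.card M
    · exact Or.inr (IH M hMtop hSM h3)
    exfalso
    haveI := hM
    have htop := Sylow.normalizer_sup_eq_top' S hSM
    have hd : Nat.card G ∣ Nat.card N * Nat.card M := by
      have := CfsgLib.Solvable.card_sup_dvd (A := N) (K := M) le_normalizer_of_normal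
      rwa [show N ⊔ M = ⊤ from htop, card_top] at this
    exact (Nat.prime_three.dvd_mul.1 (h3G.trans hd)).elim h3N h3
  by_contra hcon
  push Not at hcon
  have hnt : Nontrivial G := Finite.one_lt_card_iff_nontrivial.1 (by
    have := card_dvd_of_le (le_top : (S : Subgroup G) ≤ ⊤)
    rw [card_top, hS] at this
    have := Nat.le_of_dvd Nat.card_pos this
    omega)
  haveI hsimp : IsSimpleGroup G := ⟨fun M hM => (eq_or_ne M ⊥).imp id fun h =>
    (hsimple M hM h).resolve_right fun ⟨K, hK⟩ => hcon.1 K hK⟩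
  have hGn : ¬ IsMulCommutative G := fun h => hns (Group.isSolvable_of_comm h.is_comm.comm)
  -- the signalizer functor
  have hE : Cfsg.IsElementaryAbelian 2 (S : Subgroup G) := ⟨hab, fun s hs => by rw [sq]; exact hexp s hs⟩
  have hnorm : ∀ t ∈ (S : Subgroup G), orderOf t = 2 → ∀ g ∈ N, Commute g t → g ∈ C := fun t ht ht2 g hg hc =>
    hfix g hg t ht ht2 (by rw [hc.eq, mul_inv_cancel_right])
  have hcent : ∀ t ∈ (S : Subgroup G), orderOf t = 2 →
      Group.IsSolvable (centralizer ({t} : Set G)) ∧
      centralizer ({t} : Set G) ≤ Cfsg.centralizerPPrimeCore 2 t ⊔ (S : Subgroup G) := by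
    intro t ht ht2
    set Ct := centralizer ({t} : Set G)
    have hSt : (S : Subgroup G) ≤ Ct := fun s hs =>
      mem_centralizer_singleton_iff.2 (mem_centralizer_iff.1 (hSC hs) t ht).symm
    set T := S.subtype hSt
    have hb : normalizer ((T : Subgroup Ct) : Set Ct) ≤ centralizer ((T : Subgroup Ct) : Set Ct) := by
      intro g hg
      have hgN : (g : G) ∈ N := by
        refine mem_normalizer_iff.2 fun s => ⟨fun hs => ?_, fun hs => ?_⟩
        · exact (mem_normalizer_iff.1 hg ⟨s, hSt hs⟩).1 hs
        · have hsC : s ∈ Ct := by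
            have := mul_mem (mul_mem (inv_mem g.2) (hSt hs)) g.2
            simpa [mul_assoc] using this
          exact (mem_normalizer_iff.1 hg ⟨s, hsC⟩).2 hs
      refine mem_centralizer_iff.2 fun s hs => Subtype.ext ?_
      exact mem_centralizer_iff.1 (hnorm t ht ht2 g hgN (mem_centralizer_singleton_iff.1 g.2)) s hs
    refine ⟨isSolvable_of_burnside T hb, ?_⟩
    have hc := MonoidHom.ker_transferSylow_isComplement' T hb
    set K := (MonoidHom.transferSylow T hb).ker
    have hK : K ≤ Cfsg.pPrimeCore 2 Ct := by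
      refine CfsgLib.Solvable.le_pPrimeCore 2 inferInstance (Nat.coprime_comm.1 ((Nat.prime_two.coprime_iff_not_dvd).2 ?_))
      rw [← hc.index_eq_card]
      exact T.not_dvd_index
    intro g hg
    obtain ⟨⟨⟨k, hk⟩, ⟨s, hs⟩⟩, hks⟩ := hc.2 ⟨g, hg⟩
    rw [← show (k : G) * s = g from congrArg Subtype.val hks]
    exact mul_mem (mem_sup_left ⟨k, hK hk, rfl⟩) (mem_sup_right hs)
  have hθ := Cfsg.Agent.S1279.result 2 (S : Subgroup G) hE (by rw [hS]; norm_num)
    fun a ha ha1 => (hcent a ha (hord a ha ha1)).1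
  set θ : G → Subgroup G := fun a => Cfsg.centralizerPPrimeCore 2 a with hθdef
  obtain ⟨hWodd, hWfix⟩ := Cfsg.Agent.S0217.result (S : Subgroup G)
    (fun a ha b hb => mem_centralizer_iff.1 (hSC hb) a ha) hE.2 (by rw [hS]; norm_num) θ
    hθ.1.1 hθ.1.2.1 hθ.1.2.2.1 hθ.2 hθ.1.2.2.2
  set W := ⨆ a : {a : G // a ∈ (S : Subgroup G) ∧ a ≠ 1}, θ a with hWdef
  -- involutions are conjugate into `S`
  have hconjS : ∀ v : G, orderOf v = 2 → ∃ g : G, g * v * g⁻¹ ∈ (S : Subgroup G) := fun v hv => by
    obtain ⟨g, hg⟩ := CfsgLib.CentralWeak.exists_conj_sylow S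
      (IsPGroup.of_card (n := 1) (by rw [Nat.card_zpowers, hv, pow_one]) : IsPGroup 2 (zpowers v))
    exact ⟨g, hg v (mem_zpowers v)⟩
  by_cases hW1 : W = ⊥
  · -- every involution centralizer is a Sylow subgroup
    have hCt : ∀ t ∈ (S : Subgroup G), orderOf t = 2 → centralizer ({t} : Set G) = (S : Subgroup G) := by
      intro t ht ht2
      refine le_antisymm ((hcent t ht ht2).2.trans (sup_le ?_ le_rfl)) fun s hs =>
        mem_centralizer_singleton_iff.2 (mem_centralizer_iff.1 (hSC hs) t ht).symm
      have h : θ t ≤ W := le_iSup (fun a : {a : G // a ∈ (S : Subgroup G) ∧ a ≠ 1} => θ (a : G)) ⟨t, ht, Invol.ne_one ht2⟩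
      rw [hW1] at h
      exact h.trans bot_le
    have hall : ∀ v : G, orderOf v = 2 → ∃ g : G, ∀ y, y ∈ centralizer ({v} : Set G) ↔ g * y * g⁻¹ ∈ (S : Subgroup G) := by
      intro v hv
      obtain ⟨g, hg⟩ := hconjS v hv
      refine ⟨g, fun y => ?_⟩
      rw [← hCt _ hg ((Invol.orderOf_conj_eq g v).trans hv), mem_centralizer_singleton_iff,
        mem_centralizer_singleton_iff]
      constructor
      · intro h
        calc g * y * g⁻¹ * (g * v * g⁻¹) = g * (y * v) * g⁻¹ := by group
          _ = g * (v * y) * g⁻¹ := by rw [h]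
          _ = _ := by group
      · intro h
        calc y * v = g⁻¹ * (g * y * g⁻¹ * (g * v * g⁻¹)) * g := by group
          _ = g⁻¹ * (g * v * g⁻¹ * (g * y * g⁻¹)) * g := by rw [h]
          _ = v * y := by group
    obtain ⟨-, F, _, _, f, hf2, hF, ⟨eG⟩⟩ := CfsgLib.CTGroup.psl_two_even_of_invCA hGn
      ((show (2 : ℕ) ∣ 8 by norm_num).trans (hS ▸ card_subgroup_dvd_card _))
      fun v hv2 hv1 => by
        have hv := Invol.orderOf_eq_two hv2 hv1
        obtain ⟨g, hg⟩ := hall v hv
        refine ⟨fun a ha b hb => ?_, fun y hy hy1 => ?_⟩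
        · have h := mem_centralizer_iff.1 (hSC ((hg b).1 hb)) _ ((hg a).1 ha)
          calc a * b = g⁻¹ * (g * a * g⁻¹ * (g * b * g⁻¹)) * g := by group
            _ = g⁻¹ * (g * b * g⁻¹ * (g * a * g⁻¹)) * g := by rw [h]
            _ = b * a := by group
        · have hy' := (hg y).1 hy
          have hgy1 : g * y * g⁻¹ ≠ 1 := fun e => hy1 (conj_eq_one_iff.1 e)
          have hCy := hCt _ hy' (hord _ hy' hgy1)
          ext z
          rw [hg z, ← hCy, mem_centralizer_singleton_iff, mem_centralizer_singleton_iff]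
          constructor
          · intro h
            calc g * z * g⁻¹ * (g * y * g⁻¹) = g * (z * y) * g⁻¹ := by group
              _ = g * (y * z) * g⁻¹ := by rw [h]
              _ = _ := by group
          · intro h
            calc z * y = g⁻¹ * (g * z * g⁻¹ * (g * y * g⁻¹)) * g := by group
              _ = g⁻¹ * (g * y * g⁻¹ * (g * z * g⁻¹)) * g := by rw [h]
              _ = y * z := by group
    have hc := CfsgLib.Linear.PSLTwo.mul_card (F := F)
    rw [Nat.card_eq_fintype_card (α := F), hF, ← Nat.card_congr eG.toEquiv] at hc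
    have hq1 : Nat.gcd 2 (2 ^ f - 1) = 1 := Nat.coprime_two_left.2 ⟨2 ^ (f - 1) - 1, by
      obtain ⟨f', rfl⟩ : ∃ f', f = f' + 1 := ⟨f - 1, by omega⟩
      have := Nat.one_le_two_pow (n := f')
      simp only [pow_succ, Nat.add_sub_cancel]
      omega⟩
    rw [hq1, one_mul] at hc
    have hi := (S : Subgroup G).index_mul_card
    rw [hS, hc] at hi
    have hodd2 : ¬ 2 ∣ (2 ^ f) ^ 2 - 1 := by
      intro h
      have h1 : 2 ∣ (2 ^ f) ^ 2 := (dvd_pow_self 2 (by omega)).trans (dvd_pow_self _ two_ne_zero)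
      have h2 := Nat.one_le_pow 2 _ (Nat.two_pow_pos f)
      omega
    have hf3 : f = 3 := by
      have h1 : 2 ^ 3 ∣ 2 ^ f := ((Nat.prime_two.coprime_iff_not_dvd.2 hodd2).pow_left 3).dvd_of_dvd_mul_right
        (⟨(S : Subgroup G).index, by rw [← hi]; ring⟩)
      have h2 : 2 ^ f ∣ 2 ^ 3 :=
        ((Nat.prime_two.coprime_iff_not_dvd.2 S.not_dvd_index).pow_left f).dvd_of_dvd_mul_left
          ⟨(2 ^ f) ^ 2 - 1, by rw [← hi]; ring⟩
      have := (Nat.pow_dvd_pow_iff_le_right (by norm_num)).1 h1
      have := (Nat.pow_dvd_pow_iff_le_right (by norm_num)).1 h2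
      omega
    rw [hf3] at hc
    exact h9 (hc ▸ by norm_num)
  · -- otherwise the normalizer of `W` is strongly embedded
    set M := normalizer (W : Set G) with hM
    have hNM : N ≤ M := by
      intro g hg
      refine mem_normalizer_iff_map_conj_eq.2 (CfsgLib.Solvable.eq_of_le_of_card_le ?_
        (card_map_of_injective (MulAut.conj g).injective).ge)
      rw [hWdef, Subgroup.map_iSup]
      refine iSup_le fun v => ?_
      set w := g * (v : G) * g⁻¹
      have hw : w ∈ (S : Subgroup G) := (mem_normalizer_iff.1 hg _).1 v.2.1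
      have hw1 : w ≠ 1 := fun e => v.2.2 (conj_eq_one_iff.1 e)
      refine le_trans ?_ (le_iSup (fun a : {a : G // a ∈ (S : Subgroup G) ∧ a ≠ 1} => θ (a : G)) ⟨w, hw, hw1⟩)
      show (CfsgLib.PPrimeAb.core 2 (centralizer ({(v : G)} : Set G))).map _ ≤
        CfsgLib.PPrimeAb.core 2 (centralizer {w})
      refine (CfsgLib.PPrimeAb.core_conj_le _ g).trans (le_of_eq (congrArg _ ?_))
      ext y
      rw [CfsgLib.PPrimeAb.mem_map_conj, mem_centralizer_singleton_iff, mem_centralizer_singleton_iff]
      constructor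
      · intro h
        calc y * w = g * (g⁻¹ * y * g * (v : G)) * g⁻¹ := by simp [w, mul_assoc]
          _ = g * ((v : G) * (g⁻¹ * y * g)) * g⁻¹ := by rw [h]
          _ = w * y := by simp [w, mul_assoc]
      · intro h
        calc g⁻¹ * y * g * (v : G) = g⁻¹ * (y * w) * g := by simp [w, mul_assoc]
          _ = g⁻¹ * (w * y) * g := by rw [h]
          _ = (v : G) * (g⁻¹ * y * g) := by simp [w, mul_assoc]
    have hSM : (S : Subgroup G) ≤ M := le_normalizer.trans hNM
    have hCM : ∀ i ∈ M, orderOf i = 2 → centralizer ({i} : Set G) ≤ M := by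
      intro i hi hio
      obtain ⟨m, hm⟩ := CfsgLib.CentralWeak.exists_conj_sylow (S.subtype hSM)
        (IsPGroup.of_card (n := 1) (by rw [Nat.card_zpowers, Subgroup.orderOf_mk, hio, pow_one]) :
          IsPGroup 2 (zpowers (⟨i, hi⟩ : M)))
      have hmi : (m : G) * i * (m : G)⁻¹ ∈ (S : Subgroup G) := hm _ (mem_zpowers _)
      have ho := (Invol.orderOf_conj_eq (m : G) i).trans hio
      intro y hy
      have hy' : (m : G) * y * (m : G)⁻¹ ∈ centralizer ({(m : G) * i * (m : G)⁻¹} : Set G) := by
        rw [mem_centralizer_singleton_iff] at hy ⊢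
        calc (m : G) * y * (m : G)⁻¹ * ((m : G) * i * (m : G)⁻¹) = m * (y * i) * (m : G)⁻¹ := by group
          _ = m * (i * y) * (m : G)⁻¹ := by rw [hy]
          _ = _ := by group
      have hle : Cfsg.centralizerPPrimeCore 2 ((m : G) * i * (m : G)⁻¹) ⊔ (S : Subgroup G) ≤ M :=
        sup_le ((le_iSup (fun a : {a : G // a ∈ (S : Subgroup G) ∧ a ≠ 1} => θ (a : G))
          ⟨_, hmi, Invol.ne_one ho⟩).trans le_normalizer) hSM
      have := hle ((hcent _ hmi ho).2 hy')
      simpa [mul_assoc] using mul_mem (mul_mem (inv_mem m.2) this) m.2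
    have hWo : Odd (Nat.card W) := Nat.not_even_iff_odd.1 fun e => hWodd (even_iff_two_dvd.1 e)
    have hMtop : M ≠ ⊤ := fun h => by
      have hn : W.Normal := normalizer_eq_top_iff.1 h
      exact hW1 (le_bot_iff.1 (hO ▸ DGroup.le_oddCore hn hWo))
    have hcore : M.normalCore = ⊥ := (normalCore_normal M).eq_bot_or_eq_top.resolve_right fun h => hMtop
      (top_le_iff.1 (h ▸ normalCore_le M))
    have hse : Cfsg.IsStronglyEmbedded M := CfsgLib.CoreOdd.stronglyEmbedded
      (even_iff_two_dvd.2 ((show (2 : ℕ) ∣ 8 by norm_num).trans (hS ▸ card_dvd_of_le hSM))) hCM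
      (by rw [hcore, card_bot]; exact odd_one) (S.subtype hSM)
      (by rw [Sylow.coe_subtype, map_subgroupOf_eq_of_le hSM]; exact hNM)
    have h := Cfsg.Agent.S1221.result M hse
    rw [hO] at h
    refine hW1 (le_bot_iff.1 (le_trans ?_ h))
    rw [← map_subgroupOf_eq_of_le (le_normalizer : W ≤ M)]
    refine map_mono (DGroup.le_oddCore ((normal_subgroupOf_iff_le_normalizer le_normalizer).2 le_rfl) ?_)
    rwa [Nat.card_congr (subgroupOfEquivOfLe (le_normalizer : W ≤ M)).toEquiv]

/-- Twenty-four. -/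
theorem exists_twentyFour : ∀ (k : ℕ) (G : Type u) [Group G] [Finite G], Nat.card G = k → 24 ∣ Nat.card G →
    (24 : ℕ).Coprime (Nat.card G / 24) → ∃ K : Subgroup G, Nat.card K = 24 := by
  intro k
  induction k using Nat.strong_induction_on with
  | _ k IH =>
  intro G _ _ hk h24 hc
  haveI : Fact (Nat.Prime 2) := ⟨Nat.prime_two⟩
  haveI : Fact (Nat.Prime 3) := ⟨Nat.prime_three⟩
  by_cases hsol : Group.IsSolvable G
  · exact exists_of_solvable h24 hc
  obtain ⟨c, hcG⟩ := h24
  rw [hcG, Nat.mul_div_cancel_left _ (by norm_num)] at hc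
  have hc2 : ¬ 2 ∣ c := fun h => (by norm_num : (2 : ℕ) ≠ 1) (Nat.eq_one_of_dvd_coprimes hc (by norm_num) h)
  have hc3 : ¬ 3 ∣ c := fun h => (by norm_num : (3 : ℕ) ≠ 1) (Nat.eq_one_of_dvd_coprimes hc (by norm_num) h)
  obtain ⟨S⟩ : Nonempty (Sylow 2 G) := inferInstance
  have hS : Nat.card (S : Subgroup G) = 8 := sylow_card_of_unitary (a := 3) (b := 3) S (by norm_num)
    (by norm_num; exact ⟨c, hcG⟩) (by norm_num; rw [hcG, Nat.mul_div_cancel_left _ (by norm_num)]; exact hc)
  by_cases hO : Cfsg.oddCore G = ⊥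
  · have h9 : ¬ 9 ∣ Nat.card G := fun h => hc3 (by rw [hcG] at h; omega)
    by_cases hab : IsMulCommutative (S : Subgroup G)
    · have hIH := fun (M : Subgroup G) (hM : M ≠ ⊤) (hSM : (S : Subgroup G) ≤ M) (h3 : 3 ∣ Nat.card M) =>
        show ∃ K : Subgroup G, Nat.card K = 24 by
          have hd : 24 ∣ Nat.card M :=
            (by norm_num : Nat.Coprime 8 3).mul_dvd_of_dvd_of_dvd (hS ▸ card_dvd_of_le hSM) h3
          obtain ⟨e, he⟩ := card_subgroup_dvd_card M
          obtain ⟨d, hd'⟩ := hd
          obtain ⟨K, hK⟩ := IH (Nat.card M) (hk ▸ CfsgLib.Solvable.card_lt_of_ne_top hM) M rfl ⟨d, hd'⟩ (by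
            rw [hd', Nat.mul_div_cancel_left _ (by norm_num)]
            refine hc.coprime_dvd_right ⟨e, ?_⟩
            rw [hd', hcG] at he
            exact Nat.eq_of_mul_eq_mul_left (by norm_num : 0 < 24) (by rw [he]; ring))
          exact ⟨K.map M.subtype, by rw [card_map_of_injective M.subtype_injective, hK]⟩
      rcases twentyFour_abelian hsol hO h9 (hcG ▸ by omega) S hS hab hIH with h | ⟨H, hH, hd⟩
      · exact h
      · exact exists_of_solvable_sub hH hd (by rwa [hcG, Nat.mul_div_cancel_left _ (by norm_num)])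
    · obtain ⟨H, hH, hd⟩ := twentyFour_nonabelian hsol S hS hab
      exact exists_of_solvable_sub hH hd (by rwa [hcG, Nat.mul_div_cancel_left _ (by norm_num)])
  -- a minimal normal subgroup of odd order
  obtain ⟨A, hA, hA1, hAO, hmin⟩ := CfsgLib.Solvable.exists_minimal_normal_le hO
  haveI := hA
  have hAodd : Odd (Nat.card A) := (DGroup.odd_oddCore G).of_dvd_nat (card_dvd_of_le hAO)
  obtain ⟨-, r, hr, -, hAr⟩ := CfsgLib.Solvable.minimal_normal_elementary hA1 hmin (DGroup.solvable_of_odd A hAodd)
  haveI := Fact.mk hr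
  obtain ⟨j, hj⟩ := IsPGroup.iff_card.1 hAr
  have hcq := A.card_eq_card_quotient_mul_card_subgroup
  by_cases hr3 : r = 3
  · subst hr3
    have hA3 : Nat.card A = 3 := by
      have hd : 3 ^ j ∣ 24 * c := hcG ▸ hj ▸ card_subgroup_dvd_card A
      rcases j with _ | _ | j
      · exact absurd (card_eq_one.1 (by simpa using hj)) hA1
      · simpa using hj
      · have := (pow_dvd_pow 3 (show 2 ≤ j + 2 by omega)).trans hd
        norm_num at this
        omega
    have h8 : 2 ^ 3 ∣ Nat.card (G ⧸ A) := by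
      rw [hcG, hA3] at hcq
      norm_num
      omega
    obtain ⟨T, hT⟩ := Sylow.exists_subgroup_card_pow_prime (G := G ⧸ A) 2 h8
    exact ⟨T.comap (QuotientGroup.mk' A), by rw [card_preimage, hA3, hT]; norm_num⟩
  · have hco : (Nat.card A).Coprime 24 := by
      have h2 : r ≠ 2 := by
        rintro rfl
        obtain ⟨m, hm⟩ := hAodd
        rcases j with _ | j
        · exact hA1 (card_eq_one.1 (by simpa using hj))
        · rw [hj, pow_succ'] at hm; omega
      rw [hj]
      refine Nat.Coprime.pow_left _ (hr.coprime_iff_not_dvd.2 fun h => ?_)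
      rcases hr.dvd_mul.1 (show r ∣ 2 ^ 3 * 3 from h) with h | h
      · exact h2 ((Nat.prime_dvd_prime_iff_eq hr Nat.prime_two).1 (hr.dvd_of_dvd_pow h))
      · exact hr3 ((Nat.prime_dvd_prime_iff_eq hr Nat.prime_three).1 h)
    have hq24 : 24 ∣ Nat.card (G ⧸ A) := hco.symm.dvd_of_dvd_mul_right (hcq ▸ Dvd.intro c hcG.symm)
    obtain ⟨d, hd⟩ := hq24
    obtain ⟨T, hT⟩ := IH (Nat.card (G ⧸ A)) (hk ▸ CfsgLib.Solvable.card_quotient_lt hA1) (G ⧸ A) rfl ⟨d, hd⟩ (by
      rw [hd, Nat.mul_div_cancel_left _ (by norm_num)]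
      refine hc.coprime_dvd_right ⟨Nat.card A, ?_⟩
      rw [hd, hcG] at hcq
      exact Nat.eq_of_mul_eq_mul_left (by norm_num : 0 < 24) (by rw [hcq]; ring))
    exact lift_subgroup hT hco

end CfsgLib.GWApps
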