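import Cfsg.Agent.GWApps.Dihedral
import Cfsg.Agent.Classical.PSLTwoTorus
import Cfsg.Agent.Invol.DihedralFusion
import Cfsg.Agent.Invol.CentralWeak
import Cfsg.Prelude.Def_Local

/-!
# Simple groups with dihedral Sylow 2-subgroups and a non-maximal involution centralizer
-/

set_option autoImplicit false
set_option linter.unusedSectionVars false
set_option linter.style.haveILetI false

namespace CfsgLib.GWApps

open Subgroup CfsgLib.Dickson

universe u

/-- In a nonabelian simple group the layer is not inside the Fitting subgroup. -/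
theorem genFit_ne_fitting {K : Type u} [Group K] [Finite K] [IsSimpleGroup K] (hns : ¬ Group.IsSolvable K) :
    Cfsg.generalizedFittingSubgroup K ≠ Cfsg.fittingSubgroup K := by
  intro h
  have hna : ¬ IsMulCommutative K := fun hc => hns (Group.isSolvable_of_comm hc.is_comm.comm)
  have hperf : Group.IsPerfect K := by
    refine (Group.isPerfect_def (G := _)).2 ?_
    refine (inferInstance : (commutator K).Normal).eq_bot_or_eq_top.resolve_left fun hb => hna ?_
    exact ⟨⟨fun a b => commutatorElement_eq_one_iff_mul_comm.1 (mem_bot.1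
      (hb ▸ commutator_mem_commutator (mem_top a) (mem_top b)))⟩⟩
  have hZ : center K = ⊥ :=
    (inferInstance : (center K).Normal).eq_bot_or_eq_top.resolve_right fun hz => hna
      ⟨⟨fun a b => (mem_center_iff.1 (hz ▸ mem_top a) b).symm⟩⟩
  have htop : Cfsg.IsComponent (⊤ : Subgroup K) := by
    refine ⟨Subgroup.IsSubnormal.top, ?_, ?_⟩
    · haveI := hperf
      exact Group.IsPerfect.ofSurjective (f := (topEquiv (G := K)).symm.toMonoidHom) (topEquiv (G := K)).symm.surjective
    · haveI : IsSimpleGroup (⊤ : Subgroup K) := (topEquiv (G := K)).isSimpleGroup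
      have hz : center (⊤ : Subgroup K) = ⊥ := by
        rw [eq_bot_iff]
        intro x hx
        have : (x : K) ∈ center K := mem_center_iff.2 fun b =>
          congrArg Subtype.val (mem_center_iff.1 hx ⟨b, mem_top b⟩)
        rw [hZ, mem_bot] at this
        exact mem_bot.2 (Subtype.ext this)
      exact ((QuotientGroup.quotientMulEquivOfEq hz).trans QuotientGroup.quotientBot).isSimpleGroup
  have hfit : Cfsg.fittingSubgroup K = ⊤ := by
    rw [← h]
    exact top_le_iff.1 ((le_sSup (a := (⊤ : Subgroup K)) (s := {L | Cfsg.IsComponent L}) htop).trans le_sup_left)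
  have hbot : Cfsg.fittingSubgroup K = ⊥ := sSup_eq_bot.2 fun N hN =>
    hN.1.eq_bot_or_eq_top.resolve_right fun hNt => hns <| by
      haveI : Group.IsNilpotent N := hN.2
      haveI : Group.IsSolvable N := inferInstance
      exact Group.isSolvable_of_surjective (f := N.subtype) fun x => ⟨⟨x, hNt ▸ mem_top x⟩, rfl⟩
  exact bot_ne_top (hbot ▸ hfit)

/-- Statement S3287 from the Gorenstein–Walter theorem. -/
theorem invol_cent_local (hGW : Statement.{u}) {G : Type u} [Group G] [Finite G] [IsSimpleGroup G]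
    (S : Sylow 2 G) (m : ℕ) (eS : ↥(S : Subgroup G) ≃* DihedralGroup m)
    (t : G) (ht : orderOf t = 2) (K : Subgroup G) (hlt : centralizer ({t} : Set G) < K)
    (hK : Cfsg.generalizedFittingSubgroup ↥K = Cfsg.fittingSubgroup ↥K) :
    Nonempty (G ≃* ↥(alternatingGroup (Fin 5))) ∨ Nonempty (G ≃* ↥(alternatingGroup (Fin 7))) ∨
      (∃ (F : Type) (_ : Field F) (_ : Fintype F), Fintype.card F = 2 ∧
        Nonempty (G ≃* Matrix.ProjectiveSpecialLinearGroup (Fin 3) F)) ∨
      (∃ (F : Type) (_ : Field F) (_ : Fintype F), Fintype.card F = 9 ∧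
        Nonempty (G ≃* Matrix.ProjectiveSpecialLinearGroup (Fin 2) F)) := by
  classical
  haveI : Fact (Nat.Prime 2) := ⟨Nat.prime_two⟩
  -- `G` is not abelian
  have hns : ¬ Group.IsSolvable G := fun hs => by
    have hc : ∀ a b : G, a * b = b * a := IsSimpleGroup.comm_iff_isSolvable.2 hs
    exact hlt.not_ge fun x _ => mem_centralizer_singleton_iff.2 (hc x t)
  haveI : Group.IsPerfect G := by
    refine (Group.isPerfect_def (G := _)).2 ?_
    refine (inferInstance : (commutator G).Normal).eq_bot_or_eq_top.resolve_left fun hb => hns ?_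
    exact Group.isSolvable_of_comm fun a b => commutatorElement_eq_one_iff_mul_comm.1 (mem_bot.1
      (hb ▸ commutator_mem_commutator (mem_top a) (mem_top b)))
  have hm : 2 ≤ m := by
    by_contra hm
    interval_cases m
    · have := Nat.card_congr eS.toEquiv
      rw [DihedralGroup.nat_card] at this
      exact Nat.card_pos.ne' (by simpa using this)
    · refine hns (isSolvable_of_cyclic_sylow S (isCyclic_of_prime_card (p := 2) ?_))
      rw [Nat.card_congr eS.toEquiv, DihedralGroup.nat_card]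
  have hO : Cfsg.oddCore G = ⊥ :=
    (DGroup.normal_oddCore G).eq_bot_or_eq_top.resolve_right fun h => hns (by
      haveI := DGroup.solvable_of_odd (Cfsg.oddCore G) (DGroup.odd_oddCore G)
      exact Group.isSolvable_of_surjective (f := (Cfsg.oddCore G).subtype) fun x => ⟨⟨x, h ▸ mem_top x⟩, rfl⟩)
  let bot : G ⧸ Cfsg.oddCore G ≃* G :=
    (QuotientGroup.quotientMulEquivOfEq hO).trans QuotientGroup.quotientBot
  rcases hGW G S m hm ⟨eS⟩ with ⟨F, _, _, hodd, h3, ⟨e0⟩⟩ | ⟨⟨e0⟩⟩
  swap
  · exact Or.inr (Or.inl ⟨bot.symm.trans e0⟩)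
  set e : G ≃* PSL2 F := bot.symm.trans e0 with he
  -- small fields
  by_cases h5 : Fintype.card F = 5
  · obtain ⟨e5⟩ := CfsgLib.Linear.Small.nonempty_psl_two_five h5
    exact Or.inl ⟨e.trans e5⟩
  by_cases h7 : Fintype.card F = 7
  · obtain ⟨e7⟩ := CfsgLib.Linear.Small.nonempty_psl_two_seven (F := F) (K := ZMod 2) h7 (ZMod.card 2)
    exact Or.inr (Or.inr (Or.inl ⟨ZMod 2, inferInstance, inferInstance, ZMod.card 2, ⟨e.trans e7⟩⟩))
  by_cases h9 : Fintype.card F = 9
  · exact Or.inr (Or.inr (Or.inr ⟨F, inferInstance, inferInstance, h9, ⟨e⟩⟩))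
  exfalso
  obtain ⟨j, hj⟩ := hodd
  have hq : Nat.card F = 2 * j + 1 := by rw [Nat.card_eq_fintype_card, hj]
  have hq11 : 11 ≤ Fintype.card F := by omega
  obtain ⟨p, hp⟩ := CharP.exists F
  obtain ⟨n, hpp, hn⟩ := FiniteField.card F p
  haveI := Fact.mk hpp
  have hd : Nat.gcd 2 (Nat.card F - 1) = 2 :=
    CfsgLib.Linear.PSLTwo.gcd_eq_two (by rw [hq]; exact ⟨j, rfl⟩)
  -- the even torus
  obtain ⟨k, hkcases, hkev⟩ : ∃ k, (k = (Nat.card F - 1) / Nat.gcd 2 (Nat.card F - 1) ∨
      k = (Nat.card F + 1) / Nat.gcd 2 (Nat.card F - 1)) ∧ Even k := by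
    rw [hd, hq]
    rcases Nat.even_or_odd j with h | h
    · exact ⟨j, Or.inl (by omega), h⟩
    · exact ⟨j + 1, Or.inr (by omega), h.add_one⟩
  have hk6 : 6 ≤ k := by
    obtain ⟨i, hi⟩ := hkev
    rcases hkcases with h | h <;> rw [hd, hq] at h <;> omega
  obtain ⟨g, hg⟩ : ∃ g : PSL2 F, orderOf g = k := by
    rcases hkcases with rfl | rfl
    · simpa [Nat.card_eq_fintype_card] using CfsgLib.PSL2Spec.exists_orderOf_minus (F := F)
    · simpa [Nat.card_eq_fintype_card] using CfsgLib.PSL2Spec.exists_orderOf_plus (F := F) p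
  have hnp : ¬ orderOf g ∣ p := by
    rw [hg]
    intro h
    rcases (Nat.dvd_prime hpp).1 h with h | h
    · omega
    · exact absurd (h ▸ hkev) (Nat.not_even_iff_odd.2 (hpp.odd_of_ne_two (by omega)))
  obtain ⟨w, hw, hinv⟩ := CfsgLib.Linear.PSLTwo.exists_involution p g hnp
  set g' : G := e.symm g
  set w' : G := e.symm w
  have hgo : orderOf g' = k := by rw [show g' = e.symm g from rfl, MulEquiv.orderOf_eq, hg]
  have hinv' : w' * g' * w'⁻¹ = g'⁻¹ := by
    rw [← map_inv, ← map_mul, ← map_mul, hinv, map_inv]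
  set z : G := g' ^ (k / 2)
  have hk2 : k / 2 * 2 = k := by obtain ⟨i, hi⟩ := hkev; omega
  have hz : orderOf z = 2 := by
    rw [orderOf_pow' g' (by omega), hgo, Nat.gcd_eq_right ⟨2, hk2.symm⟩]
    exact Nat.div_eq_of_eq_mul_left (by omega) (by omega)
  -- conjugate `z` to `t`
  obtain ⟨D⟩ := CfsgLib.DihFour.exists_data S.2 hm eS
  have hSodd : Odd (S : Subgroup G).index :=
    Nat.not_even_iff_odd.1 fun h => S.not_dvd_index (even_iff_two_dvd.1 h)
  have hsyl : ∀ a : G, orderOf a = 2 → ∃ c : G, c * a * c⁻¹ ∈ (S : Subgroup G) := by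
    intro a ha
    obtain ⟨c, hc⟩ := CfsgLib.CentralWeak.exists_conj_sylow S
      (IsPGroup.of_card (n := 1) (by rw [Nat.card_zpowers, ha, pow_one]) : IsPGroup 2 (zpowers a))
    exact ⟨c, hc a (mem_zpowers a)⟩
  have hno : ∀ H : Subgroup G, H.index ≠ 2 := fun H hH => by
    haveI := normal_of_index_eq_two hH
    rcases (inferInstance : H.Normal).eq_bot_or_eq_top with h | h
    · rw [h, index_bot] at hH
      exact hns (Group.isSolvable_of_comm fun a b => by
        haveI := isCyclic_of_prime_card (α := G) hH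
        exact IsCyclic.commGroup.mul_comm a b)
    · rw [h, index_top] at hH
      omega
  obtain ⟨c, hc⟩ := isConj_iff.1
    ((D.all_conj_of_no_index_two hSodd hsyl hno hz).trans (D.all_conj_of_no_index_two hSodd hsyl hno ht).symm)
  set x : G := c * g' * c⁻¹
  set y : G := c * w' * c⁻¹
  have hzw : w' * z * w'⁻¹ = z := by
    rw [← conj_pow, hinv', inv_pow]
    exact CfsgLib.Invol.inv_eq_self hz
  have hxC : x ∈ centralizer ({t} : Set G) := mem_centralizer_singleton_iff.2 (by
    rw [← hc]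
    calc c * g' * c⁻¹ * (c * z * c⁻¹) = c * (g' * z) * c⁻¹ := by group
      _ = c * (z * g') * c⁻¹ := by rw [(Commute.self_pow g' (k / 2)).eq]
      _ = c * z * c⁻¹ * (c * g' * c⁻¹) := by group)
  have hyC : y ∈ centralizer ({t} : Set G) := mem_centralizer_singleton_iff.2 (by
    rw [← hc]
    calc c * w' * c⁻¹ * (c * z * c⁻¹) = c * (w' * z * w'⁻¹ * w') * c⁻¹ := by group
      _ = c * (z * w') * c⁻¹ := by rw [hzw]
      _ = c * z * c⁻¹ * (c * w' * c⁻¹) := by group)
  have hyx : y * x * y⁻¹ = x⁻¹ := by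
    show c * w' * c⁻¹ * (c * g' * c⁻¹) * (c * w' * c⁻¹)⁻¹ = (c * g' * c⁻¹)⁻¹
    calc _ = c * (w' * g' * w'⁻¹) * c⁻¹ := by group
      _ = c * g'⁻¹ * c⁻¹ := by rw [hinv']
      _ = _ := by group
  -- orders
  have key : ∀ M : Subgroup G, M ≠ ⊤ → centralizer ({t} : Set G) ≤ M → Nat.card M = 2 * k := by
    intro M hM hCM
    rw [← card_map_of_injective (f := e.toMonoidHom) e.injective]
    refine CfsgLib.Linear.PSLTwo.card_of_torus p k hkcases (by omega) (fun _ h => by omega)
      (fun _ _ => hk6) (fun _ _ _ _ => by omega) (M.map e.toMonoidHom) ?_ (e x) (e y) ?_ ?_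
      ⟨x, hCM hxC, rfl⟩ ⟨y, hCM hyC, rfl⟩
    · intro h
      refine hM (map_injective (f := e.toMonoidHom) e.injective ?_)
      rw [h, map_top_of_surjective _ e.surjective]
    · rw [MulEquiv.orderOf_eq, ← hgo]
      exact Invol.orderOf_conj_eq c g'
    · rw [← map_inv, ← map_mul, ← map_mul, hyx, map_inv]
  by_cases hKtop : K = ⊤
  · subst hKtop
    haveI : IsSimpleGroup (⊤ : Subgroup G) := (topEquiv (G := G)).isSimpleGroup
    exact genFit_ne_fitting (K := (⊤ : Subgroup G)) (fun h => hns (by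
      haveI := h
      exact Group.isSolvable_of_surjective (f := (⊤ : Subgroup G).subtype) fun x => ⟨⟨x, mem_top x⟩, rfl⟩)) hK
  · have h1 := key K hKtop hlt.le
    have h2 := key _ (fun h => hKtop (top_le_iff.1 (h ▸ hlt.le))) le_rfl
    exact hlt.ne (eq_of_le_of_card_ge hlt.le (by rw [h1, h2]))

end CfsgLib.GWApps
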