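import Cfsg.Agent.GWApps.RankOne
import Cfsg.Agent.GWApps.Dihedral
import Cfsg.Agent.KGroup.DihedralAut
import Cfsg.Agent.Classical.PSLTwoSub
import Cfsg.Agent.S0071
import Cfsg.Agent.S0205
import Cfsg.Agent.S3305

/-!
# Quaternion Sylow 2-subgroups with cyclic intersections

Relative to the Gorenstein–Walter theorem: such a nonsolvable group has Sylow 2-subgroups of order
eight and is, up to its core and a normal subgroup of odd index, `SL₂(q)` with `q ≡ 3, 5 (mod 8)`.
-/

set_option autoImplicit false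
set_option linter.unusedSectionVars false
set_option linter.style.haveILetI false

namespace CfsgLib.GWApps

open Subgroup
open scoped Pointwise

universe u

variable {G : Type u} [Group G] [Finite G]

/-- A group with a normal 2-complement is solvable. -/
theorem isSolvable_of_two_compl (P : Sylow 2 G) (N : Subgroup G) [N.Normal]
    (hc : N.IsComplement' (P : Subgroup G)) : Group.IsSolvable G := by
  haveI : Fact (Nat.Prime 2) := ⟨Nat.prime_two⟩
  haveI : Group.IsSolvable N := Cfsg.Agent.S0205.result (by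
    rw [← hc.index_eq_card, Nat.odd_iff, ← Nat.two_dvd_ne_zero]
    exact P.not_dvd_index)
  haveI : Group.IsSolvable (P : Subgroup G) := by
    haveI := P.2.isNilpotent
    infer_instance
  haveI : Group.IsSolvable (G ⧸ N) := Group.isSolvable_of_surjective
    (G := (P : Subgroup G)) (f := (QuotientGroup.mk' N).comp (P : Subgroup G).subtype) fun q => by
      obtain ⟨g, rfl⟩ := QuotientGroup.mk'_surjective N q
      obtain ⟨⟨⟨k, hk⟩, ⟨s, hs⟩⟩, rfl⟩ := hc.2 g
      exact ⟨⟨s, hs⟩, by
        show QuotientGroup.mk' N s = QuotientGroup.mk' N (k * s)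
        rw [map_mul, (show QuotientGroup.mk' N k = 1 from (QuotientGroup.eq_one_iff k).2 hk), one_mul]⟩
  exact (Group.isSolvable_iff_subgroup_quotient N).2 ⟨inferInstance, inferInstance⟩

/-- An element of odd order normalizing a 2-group of exponent above two which embeds in a dihedral
group centralizes it. -/
theorem centralizes_of_exponent {n : ℕ} {U : Subgroup G} (hU : IsPGroup 2 U)
    (φ : U →* DihedralGroup n) (hφ : Function.Injective φ) {y : G}
    (hyU : y ∈ normalizer (U : Set G)) (hy : Odd (orderOf y)) (hexp : ∃ w : U, w * w ≠ 1) :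
    y ∈ centralizer (U : Set G) := by
  haveI : Fact (Nat.Prime 2) := ⟨Nat.prime_two⟩
  set R := ((DihedralAut.parity n).comp φ).ker
  haveI hRc : IsCyclic R := by
    let ψ : R →* zpowers (DihedralGroup.r (1 : ZMod n)) :=
      (φ.comp R.subtype).codRestrict _ fun x => DihedralAut.parity_ker_le n x.2
    exact isCyclic_of_injective ψ fun a b h => Subtype.ext (hφ (congrArg Subtype.val h))
  have hsq : ∀ v : U, v * v ∈ R := fun v => by
    rw [MonoidHom.mem_ker, map_mul]
    rcases eq_or_ne ((DihedralAut.parity n).comp φ v) 1 with h | h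
    · rw [h, one_mul]
    · rw [DihedralAut.mult_two_eq _ h]
      rfl
  obtain ⟨w, hw⟩ := hexp
  obtain ⟨j, hj⟩ := (IsPGroup.iff_orderOf).1 hU (w * w)
  obtain ⟨i, rfl⟩ : ∃ i, j = i + 1 := Nat.exists_eq_succ_of_ne_zero fun e => hw
    (orderOf_eq_one_iff.1 (by rw [hj, e, pow_zero]))
  set v : U := w ^ 2 ^ i
  have hvv : (w * w) ^ 2 ^ i = v * v := (Commute.refl w).mul_pow _
  have hto : orderOf (v * v) = 2 := by
    rw [← hvv, orderOf_pow' _ (pow_ne_zero _ two_ne_zero), hj,
      Nat.gcd_eq_right (pow_dvd_pow _ i.le_succ), Nat.pow_succ', Nat.mul_div_cancel _ (by positivity)]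
  set t : G := ((v * v : U) : G)
  have ht1 : t ≠ 1 := fun e => by
    rw [show v * v = 1 from Subtype.ext e, orderOf_one] at hto
    omega
  refine DihedralAut.mem_centralizer_of_embedding hU φ hφ hyU hy (t := t) (Subtype.prop _) ht1 ?_
  have hv' : y * (v : G) * y⁻¹ ∈ U := (mem_normalizer_iff.1 hyU v).1 v.2
  set v' : U := ⟨_, hv'⟩
  have hval : ((v' * v' : U) : G) = y * t * y⁻¹ := by
    show y * (v : G) * y⁻¹ * (y * v * y⁻¹) = y * ((v : G) * v) * y⁻¹
    group
  have ht2 : t * t = 1 := by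
    have h := pow_orderOf_eq_one (v * v)
    rw [hto, sq] at h
    exact congrArg Subtype.val h
  classical
  haveI : Fintype R := Fintype.ofFinite R
  have hcard := IsCyclic.card_pow_eq_one_le (α := R) (n := 2) two_pos
  by_contra hne
  have hsub : ({1, ⟨v * v, hsq v⟩, ⟨v' * v', hsq v'⟩} : Finset R) ⊆
      Finset.univ.filter fun x => x ^ 2 = 1 := by
    intro x hx
    simp only [Finset.mem_insert, Finset.mem_singleton] at hx
    rw [Finset.mem_filter]
    refine ⟨Finset.mem_univ _, Subtype.ext (Subtype.ext ?_)⟩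
    rw [sq]
    rcases hx with rfl | rfl | rfl
    · simp
    · exact ht2
    · show ((v' * v' : U) : G) * ((v' * v' : U) : G) = 1
      rw [hval, show y * t * y⁻¹ * (y * t * y⁻¹) = y * (t * t) * y⁻¹ by group, ht2, mul_one,
        mul_inv_cancel]
  have h3 : ({1, ⟨v * v, hsq v⟩, ⟨v' * v', hsq v'⟩} : Finset R).card = 3 := by
    rw [Finset.card_insert_of_notMem, Finset.card_pair]
    · intro e
      apply hne
      rw [← hval]
      exact (congrArg (fun x : R => ((x : U) : G)) e).symm
    · simp only [Finset.mem_insert, Finset.mem_singleton, not_or]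
      refine ⟨fun e => ?_, fun e => ?_⟩
      · exact ht1 (congrArg (fun x : R => ((x : U) : G)) e).symm
      · have := congrArg (fun x : R => ((x : U) : G)) e
        simp only [hval] at this
        exact ht1 (conj_eq_one_iff.1 this.symm)
  have := (Finset.card_le_card hsub).trans hcard
  omega

/-- Nonsolvable groups with dihedral Sylow 2-subgroups and cyclic intersections: four groups. -/
theorem dihedral_meet_four (hns : ¬ Group.IsSolvable G) (T : Sylow 2 G) {n : ℕ}
    (e : (T : Subgroup G) ≃* DihedralGroup n)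
    (hC : ∀ S S' : Sylow 2 G, S ≠ S' → IsCyclic ↥((S : Subgroup G) ⊓ (S' : Subgroup G))) :
    n ≤ 2 := by
  haveI : Fact (Nat.Prime 2) := ⟨Nat.prime_two⟩
  by_contra hn
  push Not at hn
  obtain ⟨U, hUT, g, hg, hgo, hgc⟩ : ∃ U : Subgroup G, U ≤ (T : Subgroup G) ∧
      ∃ g ∈ normalizer (U : Set G), Odd (orderOf g) ∧ g ∉ centralizer (U : Set G) := by
    by_contra hno
    push Not at hno
    obtain ⟨N, hN, hc⟩ := (Cfsg.Agent.S0071.result T).2 fun U hU g hg hgo =>
      hno U hU g hg (Nat.coprime_two_right.1 hgo)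
    haveI := hN
    exact hns (isSolvable_of_two_compl T N hc)
  have hU2 : IsPGroup 2 U := T.2.to_le hUT
  by_cases hexp : ∃ w : U, w * w ≠ 1
  · exact hgc (centralizes_of_exponent hU2 (e.toMonoidHom.comp (inclusion hUT))
      (e.injective.comp (inclusion_injective hUT)) hg hgo hexp)
  push Not at hexp
  -- the conjugate Sylow subgroup also contains `U`
  by_cases hTg : g • T = T
  · have hgT : g ∈ normalizer ((T : Subgroup G) : Set G) := Sylow.smul_eq_iff_mem_normalizer.1 hTg
    have hgc' := centralizes_of_exponent T.2 e.toMonoidHom e.injective hgT hgo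
      ⟨e.symm (DihedralGroup.r 1), fun h => by
        rw [← map_mul, DihedralGroup.r_mul_r, MulEquiv.map_eq_one_iff, DihedralGroup.one_def,
          DihedralGroup.r.injEq, ← Nat.cast_one, ← Nat.cast_add, ZMod.natCast_eq_zero_iff] at h
        have := Nat.le_of_dvd (by norm_num) h
        omega⟩
    exact hgc (centralizer_le hUT hgc')
  have hle : U ≤ ((g • T : Sylow 2 G) : Subgroup G) := by
    rw [Sylow.coe_subgroup_smul]
    intro u hu
    refine ⟨g⁻¹ * u * g, hUT ?_, by simp [mul_assoc]⟩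
    simpa using (mem_normalizer_iff.1 (inv_mem hg) u).1 hu
  haveI := hC _ _ hTg
  haveI : IsCyclic U := isCyclic_of_injective (inclusion (le_inf hle hUT)) (inclusion_injective _)
  obtain ⟨⟨c, hcU⟩, hgen⟩ := IsCyclic.exists_generator (α := U)
  apply hgc
  refine mem_centralizer_iff.2 fun u hu => ?_
  have hc2 : c * c = 1 := congrArg Subtype.val (hexp ⟨c, hcU⟩)
  have hfix : g * c * g⁻¹ = c := by
    obtain ⟨k, hk⟩ := mem_zpowers_iff.1 (hgen ⟨_, (mem_normalizer_iff.1 hg c).1 hcU⟩)
    have hk' : c ^ k = g * c * g⁻¹ := by simpa using congrArg Subtype.val hk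
    rcases Int.even_or_odd k with ⟨m, rfl⟩ | ⟨m, rfl⟩
    · rw [zpow_add, ← (Commute.refl c).mul_zpow, hc2, one_zpow, eq_comm, conj_eq_one_iff] at hk'
      rw [hk']; simp
    · rw [← hk', zpow_add, zpow_one, two_mul, zpow_add, ← (Commute.refl c).mul_zpow, hc2, one_zpow,
        one_mul]
  obtain ⟨k, hk⟩ := mem_zpowers_iff.1 (hgen ⟨u, hu⟩)
  have hk' : c ^ k = u := by simpa using congrArg Subtype.val hk
  rw [← hk']
  exact ((show Commute g c from mul_inv_eq_iff_eq_mul.1 hfix).zpow_right k).eq.symm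

/-- The theorem on quaternion Sylow 2-subgroups with cyclic intersections. -/
theorem quaternion_meet (hGW : Statement.{u}) (hns : ¬ Group.IsSolvable G)
    (hQ : ∀ S : Sylow 2 G, ∃ n : ℕ, Nonempty (↥(S : Subgroup G) ≃* QuaternionGroup (2 ^ (n + 1))))
    (hC : ∀ S T : Sylow 2 G, S ≠ T → IsCyclic ↥((S : Subgroup G) ⊓ (T : Subgroup G))) :
    (∀ S : Sylow 2 G, Nonempty (↥(S : Subgroup G) ≃* QuaternionGroup 2)) ∧
    ∃ (G₁ : Subgroup G) (_ : G₁.Normal) (_ : ((Cfsg.oddCore G).subgroupOf G₁).Normal),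
      Odd G₁.index ∧ Cfsg.oddCore G ≤ G₁ ∧
      ∃ (F : Type) (_ : Field F) (_ : Fintype F),
        (Fintype.card F % 8 = 3 ∨ Fintype.card F % 8 = 5) ∧ 3 < Fintype.card F ∧
        Nonempty (↥G₁ ⧸ (Cfsg.oddCore G).subgroupOf G₁ ≃* Matrix.SpecialLinearGroup (Fin 2) F) := by
  haveI : Fact (Nat.Prime 2) := ⟨Nat.prime_two⟩
  set π := QuotientGroup.mk' (Cfsg.oddCore G)
  let Y := G ⧸ Cfsg.oddCore G
  set Z := center Y
  set ρ := QuotientGroup.mk' Z
  let X := Y ⧸ Z
  have hnsY : ¬ Group.IsSolvable Y := fun h => hns (by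
    haveI : Group.IsSolvable (Cfsg.oddCore G) := Cfsg.Agent.S0205.result (DGroup.odd_oddCore G)
    exact (Group.isSolvable_iff_subgroup_quotient _).2 ⟨inferInstance, h⟩)
  haveI : Group.IsSolvable Z := Group.isSolvable_of_comm fun a b =>
    Subtype.ext (mem_center_iff.1 b.2 a)
  have hnsX : ¬ Group.IsSolvable X := fun h => hnsY
    ((Group.isSolvable_iff_subgroup_quotient Z).2 ⟨inferInstance, h⟩)
  have hCY := Cfsg.Agent.S3305.result hC (Cfsg.oddCore G)
  have hCX := Cfsg.Agent.S3305.result hCY Z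
  have four : ∀ S : Sylow 2 G, Nonempty (↥(S : Subgroup G) ≃* QuaternionGroup 2) ∧
      Nat.card Z = 2 ∧ Cfsg.oddCore X = ⊥ ∧
        ∃ T : Sylow 2 X, Nonempty ((T : Subgroup X) ≃* DihedralGroup 2) := by
    intro S
    obtain ⟨n, ⟨e⟩⟩ := hQ S
    obtain ⟨hz, hO, T, ⟨eT⟩⟩ := quaternion_mod_core (by omega) S e
    have hle := dihedral_meet_four hnsX T eT hCX
    obtain rfl : n = 0 := by
      by_contra hn0
      have : 2 ^ 2 ≤ 2 ^ (n + 1) := Nat.pow_le_pow_right (by norm_num) (by omega)
      omega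
    exact ⟨⟨e⟩, hz, hO, T, ⟨eT⟩⟩
  refine ⟨fun S => (four S).1, ?_⟩
  obtain ⟨S₀⟩ : Nonempty (Sylow 2 G) := inferInstance
  obtain ⟨⟨eS⟩, hz, hO, T, ⟨eT⟩⟩ := four S₀
  have hT4 : Nat.card (T : Subgroup X) = 4 := by
    rw [Nat.card_congr eT.toEquiv, DihedralGroup.nat_card]
  -- the perfect residual
  obtain ⟨R, hRn, hRp, hRs⟩ := exists_perfect_residual X
  haveI := hRn
  haveI := hRp
  have hRns : ¬ Group.IsSolvable R := fun h =>
    hnsX ((Group.isSolvable_iff_subgroup_quotient R).2 ⟨h, hRs⟩)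
  obtain ⟨SR⟩ : Nonempty (Sylow 2 R) := inferInstance
  have hSR2 : IsPGroup 2 ((SR : Subgroup R).map R.subtype) := SR.2.map R.subtype
  obtain ⟨f, hf⟩ := embeds_sylow T hSR2
  let eR : (SR : Subgroup R) ≃* ((SR : Subgroup R).map R.subtype : Subgroup X) :=
    equivMapOfInjective (SR : Subgroup R) R.subtype R.subtype_injective
  obtain ⟨m, hm, hD⟩ := subgroup_dihedral (eT.toMonoidHom.comp (f.comp eR.toMonoidHom))
    (eT.injective.comp (hf.comp eR.injective)) fun h => hRns (isSolvable_of_cyclic_sylow SR h)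
  have hR4 : Nat.card (SR : Subgroup R) = 4 := by
    have h1 : Nat.card (SR : Subgroup R) ≤ 4 := by
      rw [← hT4, Nat.card_congr eR.toEquiv]
      exact Nat.card_le_card_of_injective f hf
    obtain ⟨eD⟩ := hD
    rw [Nat.card_congr eD.toEquiv, DihedralGroup.nat_card] at h1 ⊢
    omega
  obtain ⟨k, hk⟩ := IsPGroup.iff_card.1 SR.2
  have hRodd : Odd R.index := by
    by_contra h
    obtain ⟨c, hc⟩ := even_iff_two_dvd.1 (Nat.not_odd_iff_even.1 h)
    have h8 : 2 ^ 3 ∣ Nat.card X := by
      rw [← R.index_mul_card, hc, ← (SR : Subgroup R).index_mul_card, hR4]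
      exact ⟨c * (SR : Subgroup R).index, by ring⟩
    obtain ⟨A, hA⟩ := Sylow.exists_subgroup_card_pow_prime 2 h8
    obtain ⟨B, hB⟩ := (IsPGroup.of_card hA).exists_le_sylow
    have hcard := card_dvd_of_le hB
    rw [hA, Nat.card_congr (B.equiv T).toEquiv, hT4] at hcard
    norm_num at hcard
  have hOR : Cfsg.oddCore R = ⊥ := by
    haveI : (Cfsg.oddCore R).Characteristic := characteristic_iff_map_le.2 fun φ => by
      refine DGroup.le_oddCore (Normal.map inferInstance _ φ.surjective) ?_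
      rw [card_map_of_injective (show Function.Injective φ.toMonoidHom from φ.injective)]
      exact DGroup.odd_oddCore R
    have h := DGroup.le_oddCore (K := X) (N := (Cfsg.oddCore R).map R.subtype) inferInstance
      (by rw [card_map_of_injective R.subtype_injective]; exact DGroup.odd_oddCore R)
    rwa [hO, le_bot_iff, Subgroup.map_eq_bot_iff_of_injective _ R.subtype_injective] at h
  let bot : R ⧸ Cfsg.oddCore R ≃* R :=
    (QuotientGroup.quotientMulEquivOfEq hOR).trans QuotientGroup.quotientBot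
  obtain ⟨F, _, _, hodd, h3, ⟨q⟩⟩ : ∃ (F : Type) (_ : Field F) (_ : Fintype F),
      Odd (Fintype.card F) ∧ 3 < Fintype.card F ∧
        Nonempty (R ⧸ Cfsg.oddCore R ≃* Matrix.ProjectiveSpecialLinearGroup (Fin 2) F) := by
    rcases hGW R SR m hm hD with h | ⟨⟨q⟩⟩
    · exact h
    exfalso
    have h8 : 2 ^ 3 ∣ Nat.card R := by
      rw [Nat.card_congr (bot.symm.trans q).toEquiv, Nat.card_eq_fintype_card,
        card_alternatingGroup, Fintype.card_fin]
      decide
    obtain ⟨A, hA⟩ := Sylow.exists_subgroup_card_pow_prime 2 h8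
    obtain ⟨B, hB⟩ := (IsPGroup.of_card hA).exists_le_sylow
    have hcard := card_dvd_of_le hB
    rw [hA, Nat.card_congr (B.equiv SR).toEquiv, hR4] at hcard
    norm_num at hcard
  let ι : R ≃* Matrix.ProjectiveSpecialLinearGroup (Fin 2) F := bot.symm.trans q
  have hq8 : Fintype.card F % 8 = 3 ∨ Fintype.card F % 8 = 5 := by
    have hq : Nat.card F = Fintype.card F := Nat.card_eq_fintype_card
    have hmul := Linear.PSLTwo.two_mul_card_psl F (by rw [hq]; exact hodd)
    rw [hq] at hmul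
    rw [show Nat.card (Matrix.ProjectiveSpecialLinearGroup (Fin 2) F) = Nat.card R from
      (Nat.card_congr ι.toEquiv).symm] at hmul
    set c := Fintype.card F with hcdef
    by_contra hno
    obtain ⟨d, hd⟩ := hodd
    have h16 : 16 ∣ c ^ 2 - 1 := by
      have : c % 8 = 1 ∨ c % 8 = 7 := by omega
      obtain ⟨w, hw⟩ : ∃ w, c = 8 * w + 1 ∨ c = 8 * w + 7 := ⟨c / 8, by omega⟩
      rcases hw with hw | hw <;> rw [hw]
      · exact ⟨4 * w * w + w, by ring_nf; omega⟩
      · exact ⟨4 * w * w + 7 * w + 3, by ring_nf; omega⟩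
    have h8 : 2 ^ 3 ∣ Nat.card R := by
      obtain ⟨w, hw⟩ := h16
      rw [hw] at hmul
      exact ⟨c * w, by nlinarith⟩
    obtain ⟨A, hA⟩ := Sylow.exists_subgroup_card_pow_prime 2 h8
    obtain ⟨B, hB⟩ := (IsPGroup.of_card hA).exists_le_sylow
    have hcard := card_dvd_of_le hB
    rw [hA, Nat.card_congr (B.equiv SR).toEquiv, hR4] at hcard
    norm_num at hcard
  -- the double cover
  let Y₁ : Subgroup Y := R.comap ρ
  haveI : Y₁.Normal := Normal.comap inferInstance ρ
  let G₁ : Subgroup G := Y₁.comap π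
  haveI : G₁.Normal := Normal.comap inferInstance π
  have hle : Cfsg.oddCore G ≤ G₁ := fun x hx => by
    show ρ (π x) ∈ R
    rw [show π x = 1 from (QuotientGroup.eq_one_iff x).2 hx, map_one]
    exact one_mem R
  let σ : Y₁ →* R := ρ.subgroupComap R
  have hσ : Function.Surjective σ := by
    rintro ⟨x, hx⟩
    obtain ⟨y, rfl⟩ := QuotientGroup.mk'_surjective Z x
    exact ⟨⟨y, hx⟩, rfl⟩
  have hσk : ∀ y : Y₁, y ∈ σ.ker ↔ (y : Y) ∈ Z := fun y => by
    rw [MonoidHom.mem_ker, ← QuotientGroup.eq_one_iff (N := Z) (y : Y)]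
    exact ⟨fun h => congrArg Subtype.val h, fun h => Subtype.ext h⟩
  have hZY : Z ≤ Y₁ := fun z hzZ => by
    show ρ z ∈ R
    rw [show ρ z = 1 from (QuotientGroup.eq_one_iff z).2 hzZ]
    exact one_mem R
  have hkc : σ.ker ≤ center Y₁ := fun y hy => mem_center_iff.2 fun x =>
    Subtype.ext (mem_center_iff.1 ((hσk y).1 hy) x)
  have hk2 : Nat.card σ.ker = 2 := by
    refine Eq.trans (Nat.card_congr ?_) hz
    exact
      { toFun := fun y => ⟨y.1.1, (hσk y.1).1 y.2⟩
        invFun := fun z => ⟨⟨z.1, hZY z.2⟩, (hσk _).2 z.2⟩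
        left_inv := fun _ => rfl
        right_inv := fun _ => rfl }
  have hperf : commutator Y₁ = ⊤ := by
    -- all involutions of `Y` lie in the centre
    obtain ⟨T₀, ⟨e₀⟩⟩ := sylow_mod_core S₀
    obtain ⟨-, z₀, hz₀, huniq, -, -⟩ := InvChar.quaternion_facts 1 le_rfl
    have hinv : ∀ y : Y, orderOf y = 2 → y ∈ Z := by
      intro y hy
      obtain ⟨P, hP⟩ := (IsPGroup.of_card (p := 2) (n := 1)
        (by rw [Nat.card_zpowers, hy]; rfl) : IsPGroup 2 (zpowers y)).exists_le_sylow
      have hZP : Z ≤ (P : Subgroup Y) :=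
        IsPGroup.le_sylow_of_normal (IsPGroup.of_card (n := 1) (by rw [hz, pow_one])) P
      obtain ⟨⟨w, hwZ⟩, hwo⟩ := exists_prime_orderOf_dvd_card' (G := Z) 2 (by rw [hz])
      rw [Subgroup.orderOf_mk] at hwo
      let eP : (P : Subgroup Y) ≃* QuaternionGroup (2 ^ 1) :=
        ((P.equiv T₀).trans e₀.symm).trans (eS.trans (MulEquiv.refl _))
      have h1 := huniq (eP ⟨y, hP (mem_zpowers y)⟩) (by rw [eP.orderOf_eq, Subgroup.orderOf_mk, hy])
      have h2 := huniq (eP ⟨w, hZP hwZ⟩) (by rw [eP.orderOf_eq, Subgroup.orderOf_mk, hwo])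
      rw [show y = w from congrArg Subtype.val (eP.injective (h1.trans h2.symm))]
      exact hwZ
    set D := commutator Y₁
    have hmap : D.map σ = ⊤ := by
      show (commutator Y₁).map σ = ⊤
      rw [_root_.commutator_def, map_commutator, Subgroup.map_top_of_surjective σ hσ, ← _root_.commutator_def,
        Group.IsPerfect.commutator_eq_top]
    -- an involution of `D`
    have hev : 2 ∣ Nat.card D := by
      have h1 : 2 ∣ Nat.card R := (show 2 ∣ Nat.card (SR : Subgroup R) by rw [hR4]; norm_num).trans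
        (card_subgroup_dvd_card _)
      have h2 := D.card_map_dvd σ
      rw [hmap, card_top] at h2
      exact h1.trans h2
    obtain ⟨⟨d, hd⟩, hdo⟩ := exists_prime_orderOf_dvd_card' (G := D) 2 hev
    rw [Subgroup.orderOf_mk] at hdo
    have hdk : d ∈ σ.ker := (hσk d).2 (hinv d (by rw [Subgroup.orderOf_coe, hdo]))
    have hkle : σ.ker ≤ D := by
      refine le_of_eq_of_le (eq_of_le_of_card_ge (zpowers_le.2 hdk) ?_).symm (zpowers_le.2 hd)
      rw [hk2, Nat.card_zpowers, hdo]
    have h := comap_map_eq σ D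
    rw [hmap, comap_top, sup_eq_left.2 hkle] at h
    exact h.symm
  obtain ⟨eSL⟩ := cover_sl hodd h3 hperf (ι.toMonoidHom.comp σ) (ι.surjective.comp hσ)
    (fun y hy => hkc (by simpa using hy))
    (by rw [show (ι.toMonoidHom.comp σ).ker = σ.ker by ext; simp]; exact hk2)
  -- back to `G`
  let τ : G₁ →* Y₁ := π.subgroupComap Y₁
  have hτ : Function.Surjective τ := by
    rintro ⟨x, hx⟩
    obtain ⟨y, rfl⟩ := QuotientGroup.mk'_surjective (Cfsg.oddCore G) x
    exact ⟨⟨y, hx⟩, rfl⟩
  have hτk : (Cfsg.oddCore G).subgroupOf G₁ = τ.ker := by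
    ext x
    rw [mem_subgroupOf, MonoidHom.mem_ker, ← QuotientGroup.eq_one_iff (N := Cfsg.oddCore G) (x : G)]
    exact ⟨fun h => Subtype.ext h, fun h => congrArg Subtype.val h⟩
  refine ⟨G₁, inferInstance, inferInstance, ?_, hle, F, inferInstance, inferInstance, hq8, h3,
    ⟨((QuotientGroup.quotientMulEquivOfEq hτk).trans
      (QuotientGroup.quotientKerEquivOfSurjective τ hτ)).trans eSL⟩⟩
  rw [index_comap_of_surjective _ (QuotientGroup.mk'_surjective _),
    index_comap_of_surjective _ (QuotientGroup.mk'_surjective _)]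
  exact hRodd

end CfsgLib.GWApps
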